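import Cfsg.Agent.H74.RootExt.TwData
import Cfsg.Agent.H56.TwAut.E6

/-!
`²E₆(q)`, `q ≥ 3`: the unipotent radical is killed in extensions by a kernel of prime order.
-/

set_option autoImplicit false
set_option maxRecDepth 100000

namespace Cfsg.Agent.H74.RootExt.E6

open Cfsg.Lie Cfsg.Agent.H37 Cfsg.Agent.H37.RootSys Cfsg.Agent.H37.Twist Cfsg.Agent.H37.Twist.E6
open Cfsg.Agent.H74.RootExt.Tw

/-- The orbits of positive roots by height. -/
def O : Fin 24 → List ℕ :=
  ![[36, 56], [37, 42], [39], [46], [38, 57], [40, 43], [47], [41, 58], [44], [48, 50], [45, 59], [49, 61], [51], [52, 62], [53], [60], [54, 64], [63], [55, 67], [65], [66, 68], [69], [70], [71]]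

/-- Their heights. -/
def hts : Fin 24 → ℤ :=
  ![1, 1, 1, 1, 2, 2, 2, 3, 3, 3, 4, 4, 4, 5, 5, 5, 6, 6, 7, 7, 8, 9, 10, 11]

/-- Exponents that separate the orbits. -/
def Ws : List (Fin 6 → Fin 2 → ℤ) :=
  [![![-1, 0], ![0, 0], ![0, -1], ![0, 0], ![-1, 0], ![0, -1]],
   ![![-1, 0], ![0, 0], ![-1, 1], ![0, 0], ![1, -1], ![0, -1]],
   ![![-1, 1], ![0, 0], ![-1, 0], ![-1, -1], ![0, -1], ![1, -1]],
   ![![-1, 0], ![-1, -1], ![0, -1], ![-1, -1], ![-1, 0], ![0, -1]],
   ![![0, 0], ![-1, -1], ![-1, -1], ![-1, -1], ![-1, -1], ![0, 0]],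
   ![![-1, -1], ![0, 0], ![-1, -1], ![-1, -1], ![-1, -1], ![-1, -1]]]

/-- A long orbit, two fixed roots with it as commutator, the sign. -/
def longs : List (Fin 24 × ℕ × ℕ × ℕ × ℤ) :=
  [(2, 39, 2, 70, -1),
   (3, 46, 1, 71, -1),
   (6, 47, 2, 71, 1),
   (8, 44, 6, 70, 1),
   (12, 51, 6, 71, 1),
   (14, 53, 8, 71, -1),
   (15, 60, 18, 70, 1),
   (17, 63, 18, 71, 1),
   (19, 65, 20, 71, -1),
   (21, 69, 24, 71, -1),
   (22, 70, 25, 71, 1),
   (23, 71, 46, 70, 1)]

/-- A short orbit, one of its roots, exponents with value one at it. -/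
def reals : List (Fin 24 × ℕ × (Fin 6 → Fin 2 → ℤ)) :=
  [(0, 36, ![![0, 0], ![0, 0], ![0, -1], ![0, 0], ![-1, 0], ![0, 0]]),
   (1, 37, ![![0, -1], ![0, 0], ![0, 0], ![0, 0], ![0, 0], ![-1, 0]]),
   (4, 38, ![![0, 0], ![0, 0], ![0, 1], ![0, 0], ![1, 0], ![0, 0]]),
   (5, 40, ![![0, -1], ![0, 0], ![0, 0], ![0, 0], ![0, 0], ![-1, 0]]),
   (7, 41, ![![0, 0], ![0, 0], ![-1, 0], ![0, 0], ![0, -1], ![0, 0]]),
   (9, 48, ![![0, -1], ![0, 0], ![0, 0], ![0, 0], ![0, 0], ![-1, 0]]),
   (10, 45, ![![0, 0], ![0, 0], ![1, 0], ![0, 0], ![0, 1], ![0, 0]]),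
   (11, 49, ![![0, 0], ![0, 0], ![-1, 0], ![0, 0], ![0, -1], ![0, 0]]),
   (13, 52, ![![0, 0], ![0, 0], ![1, 0], ![0, 0], ![0, 1], ![0, 0]]),
   (16, 54, ![![0, 0], ![0, 0], ![0, -1], ![0, 0], ![-1, 0], ![0, 0]]),
   (18, 55, ![![-1, 0], ![0, 0], ![0, 0], ![0, 0], ![0, 0], ![0, -1]]),
   (20, 66, ![![1, 0], ![0, 0], ![0, 0], ![0, 0], ![0, 0], ![0, 1]])]

theorem check1 : ∀ i : Fin 24, (decide ((O i).Pairwise (· < ·)) && commB chevE6 (O i) &&
    (O i).all fun r => decide (r < chevE6.nroots ∧ chevE6.nroots / 2 ≤ r) &&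
      (O i).contains (tables.rh r)) = true := by
  decide +kernel

theorem check2 : ((List.range chevE6.nroots).all fun r => decide (r < chevE6.nroots / 2) ||
    (List.finRange 24).any fun i => (O i).contains r) = true := by
  decide +kernel

theorem check3 : ((List.finRange 24).all fun i => (List.finRange 24).all fun j =>
    !decide (i < j) || (O i).all fun r => !(O j).contains r) = true := by
  decide +kernel

theorem check4 : ∀ i : Fin 24, ((O i).all fun r =>
    ((List.range chevE6.rank).map (Chevalley.E6.cert.cf r)).sum == hts i) = true := by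
  decide +kernel

theorem check5 : ∀ i : Fin 24, ((O i).all fun r => (O i).all fun s => (r == s) ||
    (List.range chevE6.nroots).all fun k => decide (k < chevE6.nroots / 2) ||
      (List.finRange 12).all fun a => (List.finRange 12).all fun b =>
        (a.val == 0) || (b.val == 0) || (List.finRange chevE6.rank).any fun m =>
          decide (Chevalley.E6.cert.cf k m.val ≠
            ((a.val : ℕ) : ℤ) * Chevalley.E6.cert.cf r m.val +
              ((b.val : ℕ) : ℤ) * Chevalley.E6.cert.cf s m.val)) = true := by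
  decide +kernel

theorem hts_ok : (∀ i : Fin 24, 0 < hts i ∧ hts i < 12) ∧
    ∀ i j : Fin 24, i ≤ j → hts i ≤ hts j := by
  decide +kernel

theorem orbits (K : Type*) [Field K] : Orbits (QE K) tables.rh O := by
  refine Orbits.of_check (fun i => ?_) (fun r hr => ?_) (fun i j hij r hr => ?_)
    ⟨hts, fun i => ⟨hts_ok.1 i, fun r hr => ?_⟩, fun i j h => hts_ok.2 i j h.le⟩ ?_
  · have h := check1 i
    simp only [Bool.and_eq_true, decide_eq_true_eq, List.all_eq_true, List.contains_iff_mem] at h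
    exact ⟨h.1.1, h.1.2, fun r hr => ⟨(h.2 r hr).1.1, (h.2 r hr).1.2, (h.2 r hr).2⟩⟩
  · have h := check2
    simp only [List.all_eq_true, List.mem_range, Bool.or_eq_true, decide_eq_true_eq,
      List.any_eq_true, List.contains_iff_mem] at h
    rcases h r.val r.isLt with h' | ⟨i, -, hi⟩
    · omega
    · exact ⟨i, hi⟩
  · have h := check3
    simp only [List.all_eq_true, Bool.or_eq_true, Bool.not_eq_true', decide_eq_false_iff_not] at h
    intro hj
    rcases h i (List.mem_finRange i) j (List.mem_finRange j) with h' | h'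
    · exact h' hij
    · have := h' r hr
      rw [List.contains_iff_mem.2 hj] at this
      exact Bool.noConfusion this
  · have h := check4 i
    simp only [List.all_eq_true, beq_iff_eq] at h
    exact h r hr
  · intro i r hr s hs hne k hk a b ha hb
    have h := check5 i
    simp only [List.all_eq_true, Bool.or_eq_true, beq_iff_eq, List.mem_range, decide_eq_true_eq,
      List.any_eq_true] at h
    rcases h r hr s hs with h' | h'
    · exact absurd h' hne
    rcases h' k.val k.isLt with h' | h'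
    · omega
    rcases h' a (List.mem_finRange a) b (List.mem_finRange b) with (h' | h') | ⟨m, -, hm⟩
    · omega
    · omega
    · exact ⟨m, hm⟩

theorem p_table : ∀ i : Fin 6, tables.p i.val = ((![5, 1, 4, 3, 2, 0] : Fin 6 → Fin 6) i).val := by
  decide +kernel

variable {K : Type*} [Field K]

theorem fixW_of (φ : K →+* K) {W : Fin 6 → Fin 2 → ℤ}
    (h : ∀ i : Fin 6, W ((![5, 1, 4, 3, 2, 0] : Fin 6 → Fin 6) i) = rot (W i)) : FixW (D := chevE6) (endo φ) W := by
  intro i j hij
  have e : (endo φ).s.T.p i.val = ((![5, 1, 4, 3, 2, 0] : Fin 6 → Fin 6) i).val := p_table i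
  have : j = ((![5, 1, 4, 3, 2, 0] : Fin 6 → Fin 6) i) := Fin.ext (hij.symm.trans e)
  rw [this]
  exact h i

theorem ws_fix : (Ws.all fun W => decide (∀ i : Fin 6, W ((![5, 1, 4, 3, 2, 0] : Fin 6 → Fin 6) i) = rot (W i))) = true := by
  decide +kernel

theorem ws_moves : ∀ i : Fin 24,
    (Ws.any fun W => (O i).all fun r => decide (SmallVec (expo (D := chevE6) W r))) = true := by
  decide +kernel

theorem ws_sep : ∀ i : Fin 24, ((List.finRange 24).all fun j => !decide (i < j) ||
    Ws.any fun W => ((O i).all fun r => decide (expo (D := chevE6) W r = 0)) &&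
        ((O j).all fun s => decide (SmallVec (expo (D := chevE6) W s))) ||
      ((O j).all fun s => decide (expo (D := chevE6) W s = 0)) &&
        ((O i).all fun r => decide (SmallVec (expo (D := chevE6) W r)))) = true := by
  decide +kernel

theorem witness (φ : K →+* K) : Witness (d := 2) (endo φ) O Ws := by
  refine ⟨fun W hW => fixW_of φ ?_, fun i => ?_, fun i j hij => ?_⟩
  · have h := ws_fix
    simp only [List.all_eq_true, decide_eq_true_eq] at h
    exact h W hW
  · have h := ws_moves i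
    simp only [List.any_eq_true, List.all_eq_true, decide_eq_true_eq] at h
    exact h
  · have h := ws_sep i
    simp only [List.all_eq_true, Bool.or_eq_true, Bool.not_eq_true', decide_eq_false_iff_not,
      List.any_eq_true, decide_eq_true_eq, Bool.and_eq_true] at h
    exact (h j (List.mem_finRange j)).resolve_left fun h' => h' hij

theorem long_check : (longs.all fun x => (O x.1 == [x.2.1]) &&
    longB chevE6 tables.rh Sym.dataE6.sg x.2.1 x.2.2.1 x.2.2.2.1 x.2.2.2.2) = true := by
  decide +kernel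

theorem real_check : (reals.all fun x => decide (∀ i : Fin 6, x.2.2 ((![5, 1, 4, 3, 2, 0] : Fin 6 → Fin 6) i) = rot (x.2.2 i)) &&
    decide (expo (D := chevE6) x.2.2 x.2.1 = unit0) && (O x.1).contains x.2.1 &&
    (O x.1).all fun s => (s == x.2.1) || (tables.rh x.2.1 == s)) = true := by
  decide +kernel

theorem case_check : ((List.finRange 24).all fun i => (longs.any fun x => x.1 == i) ||
    reals.any fun x => x.1 == i) = true := by
  decide +kernel

variable [Fintype K] {φ : K →+* K} {q : ℕ} (hφ : ∀ t, φ t = t ^ q) (hK : Fintype.card K = q ^ 2)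
include hφ hK

theorem killed (hq : 3 ≤ q) {p : ℕ} {X : Type*} [Group X]
    (L : Linear.Mult.LExt p X ↥(model hφ hK).T) : L.Killed (model hφ hK).tw.U := by
  have hns := noSign (φ := φ) hφ
  have hneg : (-1 : K) ^ q = -1 := by rw [← hφ, map_neg, map_one]
  have hfq : ∀ r, r < chevE6.nroots → ∀ t, (endo φ).f r t = (Sym.dataE6.sg r : K) * t ^ q :=
    fun r _ t => (graphEndo_f r t).trans (by rw [hφ])
  have hf : ∀ r, r < chevE6.nroots →
      (endo φ).f r 1 ≠ 0 ∧ ∀ t, (endo φ).f r t = (endo φ).f r 1 * t ^ q := by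
    intro r hr
    refine ⟨((endo φ).f_inv r hr 1 one_ne_zero).1, fun t => ?_⟩
    rw [hfq r hr t, hfq r hr 1, one_pow, mul_one]
  refine Tw.killed (model hφ hK) (orbits K) hK hq hns (witness φ) L fun i => ?_
  have hadd : ∀ t u : K, (t + u) ^ q = t ^ q + u ^ q := fun t u => by
    rw [← hφ, ← hφ, ← hφ, map_add]
  have h5 : 5 ≤ Fintype.card K := by
    rw [hK]
    calc 5 ≤ 3 ^ 2 := by norm_num
      _ ≤ q ^ 2 := Nat.pow_le_pow_left hq 2
  have hc := case_check
  simp only [List.all_eq_true, Bool.or_eq_true, List.any_eq_true, beq_iff_eq] at hc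
  rcases hc i (List.mem_finRange i) with ⟨x, hx, rfl⟩ | ⟨x, hx, rfl⟩
  · have h := long_check
    simp only [List.all_eq_true, Bool.and_eq_true, beq_iff_eq] at h
    exact self_long (model hφ hK) (orbits K) (long_of (h x hx).1 hfq hneg (h x hx).2) L
  · have h := real_check
    simp only [List.all_eq_true, Bool.and_eq_true, decide_eq_true_eq, List.contains_iff_mem,
      Bool.or_eq_true, beq_iff_eq] at h
    obtain ⟨⟨⟨hW, he⟩, hmem⟩, hcyc⟩ := h x hx
    refine self_realised (model hφ hK) (orbits K) hns hf hadd h5 (r := x.2.1) ⟨fun s hs => ?_, hmem,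
      realised_of_unit hK (fixW_of φ hW) he⟩ L
    rcases hcyc s hs with e | e
    · exact ⟨0, e.symm⟩
    · exact ⟨1, e⟩

end Cfsg.Agent.H74.RootExt.E6
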