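import Cfsg.Agent.H37.Twist.E6Perfect
import Cfsg.Agent.H38.St.CentreData
import Cfsg.Agent.S1079
import Cfsg.Prelude.Def_KGroupFacts

/-!
A perfect threefold cover of `²E₆(q)` inside Steinberg's group when `3` divides `q + 1`.
-/

set_option autoImplicit false
set_option maxRecDepth 100000

namespace Cfsg.Agent.H74.RootExt.E6

open Cfsg.Lie Cfsg.Lie.ChevalleyDatum Cfsg.Agent.H37 Cfsg.Agent.H37.Twist Cfsg.Agent.H37.Twist.E6
open Cfsg.Agent.Chevalley Cfsg.Agent.H38.CT
open scoped commutatorElement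

universe u

variable {K : Type u} [Field K]

theorem root_pairs : ∀ x ∈ [(56, 36), (42, 37)], orthB chevE6 x.1 x.2 = true := by
  decide +kernel

theorem lat_ker : ∀ j : Fin 6,
    (∑ m : Fin 6, (![1, 0, 2, 0, 1, 2] : Fin 6 → ℤ) m *
      chevE6.cartan m.val (chevE6.simple j.val)) % 3 = 0 := by
  decide +kernel

theorem commute_gen (hA : H38.St.Adj chevE6) {r s : ℕ} (h : commB chevE6 [r, s] = true)
    (hne : s ≠ r) (t u : K) :
    Commute ((H38.St.stFull (QE K).K hA (F := K)).f r t)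
      ((H38.St.stFull (QE K).K hA (F := K)).f s u) := by
  set S := H38.St.stFull (QE K).K hA (F := K)
  simp only [commB, List.all_eq_true, Bool.and_eq_true, decide_eq_true_eq, Bool.or_eq_true,
    beq_iff_eq, Bool.not_eq_true', beq_eq_false_iff_ne, List.isEmpty_iff] at h
  obtain ⟨hr, hrs⟩ := h r (by simp)
  obtain ⟨hs, -⟩ := h s (by simp)
  obtain ⟨hn, hc⟩ := (hrs s (by simp)).resolve_left hne
  have e := S.comm (S.all hr) (S.all hs) hne hn t u
  simp only [commWord, hc, List.map_nil, List.prod_nil] at e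
  have h1 : Commute (S.f s u)⁻¹ (S.f r t)⁻¹ := commutatorElement_eq_one_iff_commute.1 (by
    rw [commutatorElement_def, inv_inv, inv_inv]; exact e)
  simpa using h1.inv_inv.symm

theorem f_pow (hA : H38.St.Adj chevE6) {r : ℕ} (hr : r < chevE6.nroots) (t : K) (n : ℕ) :
    (H38.St.stFull (QE K).K hA (F := K)).f r t ^ n =
      (H38.St.stFull (QE K).K hA (F := K)).f r (n * t) := by
  induction n with
  | zero => rw [pow_zero, Nat.cast_zero, zero_mul, PSys.f_zero _
      ((H38.St.stFull (QE K).K hA).all hr)]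
  | succ n ih =>
    rw [pow_succ, ih, (H38.St.stFull (QE K).K hA).add ((H38.St.stFull (QE K).K hA).all hr)]
    congr 1
    push_cast
    ring

/-- A perfect central extension with kernel of order three. -/
theorem exists_cover [Fintype K] {φ : K →+* K} {q : ℕ} (hφ : ∀ t, φ t = t ^ q)
    (hK : Fintype.card K = q ^ 2) (h3 : 3 ∣ q + 1) :
    ∃ (Γ : Type u) (_ : Group Γ) (_ : Finite Γ) (σ : Γ →* ↥(twistedE6 K q)),
      Cfsg.IsStemExtension σ ∧ Nat.card σ.ker = 3 := by
  classical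
  obtain ⟨Q, hrel, hA⟩ := H38.St.exists_stData (D := chevE6) (by simp) K
  clear Q hrel
  have hrel : H38.St.RelOK (QE K).K (QE K).X.M :=
    H38.St.relOK_of_check _ H37.Chev.typeE6.M (w := Chevalley.E6.tab.w) rfl (by decide +kernel)
  set S := H38.St.stFull (QE K).K hA (F := K)
  obtain ⟨θ, hθs, hθk, hθ⟩ := H38.St.steinberg (QE K) hrel hA
  let ψ : chevE6.SteinbergGroup K →* GL chevE6.Idx K := (chevE6.group K).subtype.comp θ
  have hψk : ψ.ker = Subgroup.center (chevE6.SteinbergGroup K) := by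
    rw [← hθk]
    ext g
    simp only [MonoidHom.mem_ker, ψ, MonoidHom.comp_apply, Subgroup.coe_subtype,
      OneMemClass.coe_eq_one]
  have hgen : ∀ r, r < chevE6.nroots → ∀ t, ψ (S.f r t) = (xe r t : ↥(chevE6.group K)).1 :=
    fun r hr t => Units.ext ((hθ r t hr).trans ((QE K).K.coe_xU K r t).symm)
  have hZ : Nat.card (Subgroup.center (chevE6.SteinbergGroup K)) = 3 := by
    rw [S1079.result hK (chevE6, 3) (by simp)]
    refine Nat.gcd_eq_left ?_
    obtain ⟨m, hm⟩ := h3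
    refine ⟨(q - 1) * m, ?_⟩
    calc q ^ 2 - 1 = (q + 1) * (q - 1) := by
          simpa using Nat.sq_sub_sq q 1
      _ = _ := by rw [hm]; ring
  have hpow : ∀ z ∈ Subgroup.center (chevE6.SteinbergGroup K), z ^ 3 = 1 := fun z hz => by
    have h := pow_card_eq_one' (x := (⟨z, hz⟩ : Subgroup.center (chevE6.SteinbergGroup K)))
    rw [hZ] at h
    exact congrArg Subtype.val h
  let T : Subgroup (GL chevE6.Idx K) := twistedE6 K q
  let P0 := T.comap ψ
  let P := ⁅P0, P0⁆
  have hT : ⁅T, T⁆ = T := by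
    rw [← Subgroup.map_subtype_commutator, commutator_top hφ hK, ← MonoidHom.range_eq_map,
      Subgroup.range_subtype]
  have hmap0 : P0.map ψ = T := by
    refine le_antisymm (Subgroup.map_comap_le _ _) fun g hg => ?_
    obtain ⟨x, hx⟩ := hθs ⟨g, twisted_le hg⟩
    exact ⟨x, show ψ x ∈ T by rw [show ψ x = g from congrArg Subtype.val hx]; exact hg,
      congrArg Subtype.val hx⟩
  have hmap : P.map ψ = T := by rw [Subgroup.map_commutator, hmap0, hT]
  have hPle : P ≤ P0 := Subgroup.commutator_le.2 fun a ha b hb => by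
    rw [commutatorElement_def]
    exact mul_mem (mul_mem (mul_mem ha hb) (inv_mem ha)) (inv_mem hb)
  have hdec : ∀ g ∈ P0, ∃ w ∈ P, ∃ z ∈ Subgroup.center (chevE6.SteinbergGroup K), g = w * z := by
    intro g hg
    obtain ⟨w, hw, e⟩ := (show ψ g ∈ P.map ψ by rw [hmap]; exact hg)
    exact ⟨w, hw, w⁻¹ * g, hψk ▸ (show ψ (w⁻¹ * g) = 1 by
      rw [map_mul, map_inv, e, inv_mul_cancel]), by group⟩
  -- elements of p-power order
  set p := ringChar K with hpdef
  haveI := ringChar.charP K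
  have hp : p.Prime := CharP.char_is_prime K p
  have hp3 : Nat.Coprime p 3 := by
    rw [hp.coprime_iff_not_dvd, Nat.prime_dvd_prime_iff_eq hp Nat.prime_three]
    intro e
    obtain ⟨n, -, hn⟩ := FiniteField.card K p
    have hd : p ∣ q := hp.dvd_of_dvd_pow (n := 2) (by rw [← hK, hn]; exact dvd_pow_self _ n.ne_zero)
    rw [e] at hd
    have := (Nat.dvd_add_right hd).1 h3
    exact absurd (Nat.le_of_dvd one_pos this) (by norm_num)
  have hpel : ∀ y ∈ P0, y ^ p = 1 → y ∈ P := by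
    intro y hy hy1
    obtain ⟨w, hw, z, hz, rfl⟩ := hdec y hy
    have h3' : (w * z) ^ 3 ∈ P := by
      rw [(show Commute w z from Subgroup.mem_center_iff.1 hz w).mul_pow, hpow z hz, mul_one]
      exact pow_mem hw 3
    have hbez := Nat.gcd_eq_gcd_ab p 3
    rw [hp3.gcd_eq_one, Nat.cast_one] at hbez
    have h1 := congrArg ((w * z) ^ ·) hbez
    simp only [zpow_one, zpow_add, zpow_mul, zpow_natCast, hy1, one_zpow, one_mul] at h1
    rw [h1]
    exact zpow_mem h3' _
  -- the products of root elements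
  obtain ⟨n56, n36, n42, n37, -, -⟩ := neg_ok
  have hpairs : ∀ {r s : ℕ}, (r, s) ∈ [(56, 36), (42, 37)] → ∀ (t : K), t ≠ 0 →
      S.N r t * S.N r (-1) * (S.N s (t ^ q) * S.N s (-1)) ∈ P := by
    intro r s h t ht
    have ho := root_pairs _ h
    simp only [orthB, Bool.and_eq_true] at ho
    obtain ⟨⟨⟨o1, o2⟩, o3⟩, o4⟩ := ho
    have hne : s ≠ r ∧ chevE6.neg s ≠ r ∧ s ≠ chevE6.neg r ∧ chevE6.neg s ≠ chevE6.neg r := by
      simp only [List.mem_cons, List.not_mem_nil, or_false, Prod.mk.injEq] at h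
      rcases h with ⟨rfl, rfl⟩ | ⟨rfl, rfl⟩
      · rw [n56, n36]; decide
      · rw [n42, n37]; decide
    have hlt : r < chevE6.nroots ∧ s < chevE6.nroots := by
      simp only [commB, List.all_eq_true, Bool.and_eq_true, decide_eq_true_eq] at o1
      exact ⟨(o1 r (by simp)).1, (o1 s (by simp)).1⟩
    have hgenm : (r, s) ∈ [(e6p1, e6p6), (e6m1, e6m6), (e6p3, e6p5), (e6m3, e6m5)] ∧
        (chevE6.neg r, chevE6.neg s) ∈
          [(e6p1, e6p6), (e6m1, e6m6), (e6p3, e6p5), (e6m3, e6m5)] := by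
      simp only [List.mem_cons, List.not_mem_nil, or_false, Prod.mk.injEq] at h
      rcases h with ⟨rfl, rfl⟩ | ⟨rfl, rfl⟩
      · rw [n56, n36]; decide
      · rw [n42, n37]; decide
    have hmem : ∀ {a b : ℕ}, a < chevE6.nroots → b < chevE6.nroots →
        commB chevE6 [a, b] = true → b ≠ a →
        (a, b) ∈ [(e6p1, e6p6), (e6m1, e6m6), (e6p3, e6p5), (e6m3, e6m5)] →
        ∀ v : K, S.f a v * S.f b (v ^ q) ∈ P := by
      intro a b ha hb hc hne' hg v
      refine hpel _ ?_ ?_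
      · show ψ _ ∈ T
        rw [map_mul, hgen a ha, hgen b hb]
        exact pair_mem hg v
      · rw [(commute_gen hA hc hne' _ _).mul_pow, f_pow hA ha, f_pow hA hb, CharP.cast_eq_zero,
          zero_mul, zero_mul]
        rw [PSys.f_zero _ (S.all ha), PSys.f_zero _ (S.all hb), one_mul]
    have hr' := (QE K).K.neg_lt hlt.1
    have hs' := (QE K).K.neg_lt hlt.2
    have hNN : ∀ v : K, S.N r v * S.N s (v ^ q) ∈ P := by
      intro v
      have hv : (-v⁻¹) ^ q = -(v ^ q)⁻¹ := by rw [← hφ, ← hφ, map_neg, map_inv₀]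
      have a1 := hmem hlt.1 hlt.2 o1 hne.1 hgenm.1 v
      have a2 := hmem hr' hs' o4 hne.2.2.2 hgenm.2 (-v⁻¹)
      rw [hv] at a2
      have b1 := commute_gen hA o1 hne.1 (K := K) v (v ^ q)
      have b2 := commute_gen hA o2 hne.2.1 (K := K) v (-(v ^ q)⁻¹)
      have b3 := commute_gen hA o3 hne.2.2.1 (K := K) (-v⁻¹) (v ^ q)
      show (S.f r v * S.f (chevE6.neg r) (-v⁻¹) * S.f r v) *
        (S.f s (v ^ q) * S.f (chevE6.neg s) (-(v ^ q)⁻¹) * S.f s (v ^ q)) ∈ P
      set x := S.f r v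
      set y := S.f (chevE6.neg r) (-v⁻¹)
      set x' := S.f s (v ^ q)
      set y' := S.f (chevE6.neg s) (-(v ^ q)⁻¹)
      have e : x * y * x * (x' * y' * x') = x * x' * (y * y') * (x * x') := by
        calc x * y * x * (x' * y' * x') = x * y * (x * x') * y' * x' := by group
          _ = x * (y * x') * (x * y') * x' := by rw [b1.eq]; group
          _ = x * x' * (y * y') * (x * x') := by rw [b3.eq, b2.eq]; group
      rw [e]
      exact mul_mem (mul_mem a1 a2) a1
    have hNcomm : Commute (S.N r (-1)) (S.N s (t ^ q)) := by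
      show Commute (S.f r (-1) * S.f (chevE6.neg r) (-(-1 : K)⁻¹) * S.f r (-1))
        (S.f s (t ^ q) * S.f (chevE6.neg s) (-(t ^ q)⁻¹) * S.f s (t ^ q))
      have hx : ∀ a b : K, Commute (S.f r a) (S.f s (t ^ q) * S.f (chevE6.neg s) b * S.f s (t ^ q)) :=
        fun a b => ((commute_gen hA o1 hne.1 _ _).mul_right (commute_gen hA o2 hne.2.1 _ _)).mul_right
          (commute_gen hA o1 hne.1 _ _)
      have hy : ∀ a b : K, Commute (S.f (chevE6.neg r) a)
          (S.f s (t ^ q) * S.f (chevE6.neg s) b * S.f s (t ^ q)) :=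
        fun a b => ((commute_gen hA o3 hne.2.2.1 _ _).mul_right
          (commute_gen hA o4 hne.2.2.2 _ _)).mul_right (commute_gen hA o3 hne.2.2.1 _ _)
      exact ((hx _ _).mul_left (hy _ _)).mul_left (hx _ _)
    have hm1 : (-1 : K) ^ q = -1 := by rw [← hφ, map_neg, map_one]
    rw [show S.N r t * S.N r (-1) * (S.N s (t ^ q) * S.N s (-1)) =
      S.N r t * S.N s (t ^ q) * (S.N r (-1) * S.N s ((-1) ^ q)) by
        rw [hm1, mul_assoc, ← mul_assoc (S.N r (-1)), hNcomm.eq]; group]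
    exact mul_mem (hNN t) (hNN (-1))
  -- the central element
  obtain ⟨η, hη, hρ, hr⟩ := H38.St.exists_eta (F := K) (QE K).K hA
  have hdiv : 3 ∣ Nat.card Kˣ := by
    rw [Nat.card_eq_fintype_card, Fintype.card_units, hK]
    obtain ⟨m, hm⟩ := h3
    refine ⟨(q - 1) * m, ?_⟩
    calc q ^ 2 - 1 = (q + 1) * (q - 1) := by simpa using Nat.sq_sub_sq q 1
      _ = _ := by rw [hm]; ring
  haveI : Fact (Nat.Prime 3) := ⟨Nat.prime_three⟩
  obtain ⟨ω, hω⟩ := exists_prime_orderOf_dvd_card' 3 hdiv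
  have hω3 : ω ^ 3 = 1 := by rw [← hω]; exact pow_orderOf_eq_one ω
  have hω1 : ω ≠ 1 := fun e => by rw [e, orderOf_one] at hω; exact absurd hω (by norm_num)
  have hωq : ω ^ q = ω ^ 2 := by
    obtain ⟨m, hm⟩ := h3
    obtain ⟨j, rfl⟩ : ∃ j, q = 3 * j + 2 := ⟨m - 1, by omega⟩
    rw [pow_add, pow_mul, hω3, one_pow, one_mul]
  let c : Fin chevE6.rank → Kˣ := fun m => ω ^ ((![1, 0, 2, 0, 1, 2] : Fin 6 → ℤ) m)
  have htor : torus chevE6 K c = 1 := by
    refine (H38.St.torus_eq_one_iff (QE K).K c).2 fun j hj => ?_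
    rw [H38.St.sum_addC c fun m => chevE6.cartan m (chevE6.simple j), ofMul_eq_zero]
    show ∏ m : Fin 6, (ω ^ ((![1, 0, 2, 0, 1, 2] : Fin 6 → ℤ) m)) ^
      chevE6.cartan m.val (chevE6.simple j) = 1
    simp only [← zpow_mul, Fin.prod_univ_six, ← zpow_add]
    obtain ⟨k, hk⟩ := Int.dvd_of_emod_eq_zero (lat_ker ⟨j, hj⟩)
    rw [Fin.sum_univ_six] at hk
    rw [hk, zpow_mul, show ω ^ (3 : ℤ) = 1 from hω3, one_zpow]
  have hz0 : η c ∈ ψ.ker := by
    rw [hψk]
    refine S.ker_central hrel H38.St.st_gen ?_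
    rw [← MonoidHom.comp_apply, hρ, htor]
  -- it is not trivial: the centre is the image of a set of three parameters
  have hz1 : η c ≠ 1 := by
    intro e
    let f : {c : Fin chevE6.rank → Kˣ // torus chevE6 K c = 1} →
        Subgroup.center (chevE6.SteinbergGroup K) := fun c => ⟨η c.1, by
      refine S.ker_central hrel H38.St.st_gen ?_
      rw [← MonoidHom.comp_apply, hρ, c.2]⟩
    have hsurj : Function.Surjective f := fun g => by
      obtain ⟨h1, h2⟩ := H38.St.center_le_eta (QE K) hrel hA g.2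
      rw [← hr] at h2
      obtain ⟨c', hc'⟩ := h2
      exact ⟨⟨c', by rw [← hρ, MonoidHom.comp_apply, hc', h1]⟩, Subtype.ext hc'⟩
    have hcard : Nat.card {c : Fin chevE6.rank → Kˣ // torus chevE6 K c = 1} = 3 := by
      rw [Nat.card_congr (H38.St.latE6.kerEquiv (QE K).K H38.St.latE6_ok),
        show Nat.card {z : Kˣ // z ^ H38.St.latE6.d = 1} =
          Nat.card (powMonoidHom 3 : Kˣ →* Kˣ).ker from
          Nat.card_congr (Equiv.subtypeEquivRight fun z => Iff.rfl),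
        IsCyclic.card_powMonoidHom_ker]
      exact Nat.gcd_eq_right hdiv
    have hinj := ((Nat.bijective_iff_surjective_and_card f).2 ⟨hsurj, by rw [hcard, hZ]⟩).1
    have := @hinj ⟨c, htor⟩ ⟨1, map_one _⟩ (Subtype.ext (e.trans (map_one η).symm))
    refine hω1 ?_
    have h0 := congrFun (congrArg Subtype.val this) (0 : Fin 6)
    have h1 : c (0 : Fin 6) = 1 := h0
    simpa [c] using h1
  have hzP : η c ∈ P := by
    have hc6 : (fun m : Fin 6 => ω ^ ((![1, 0, 2, 0, 1, 2] : Fin 6 → ℤ) m)) =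
        Pi.mulSingle 0 ω * Pi.mulSingle 5 (ω ^ 2) * (Pi.mulSingle 2 (ω ^ 2) * Pi.mulSingle 4 ω) := by
      funext m
      fin_cases m <;> simp [Pi.mulSingle_apply, zpow_ofNat]
    have hc : c = Pi.mulSingle (0 : Fin 6) ω * Pi.mulSingle (5 : Fin 6) (ω ^ q) *
        (Pi.mulSingle (2 : Fin 6) (ω ^ 2) * Pi.mulSingle (4 : Fin 6) ((ω ^ 2) ^ q)) := by
      refine hc6.trans ?_
      rw [← pow_mul ω 2 q, mul_comm 2 q, pow_mul, hωq, ← pow_mul,
        show ω ^ (2 * 2) = ω by rw [show 2 * 2 = 3 + 1 from rfl, pow_add, hω3, one_mul, pow_one]]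
      rfl
    obtain ⟨s0, -, s2, -, s4, s5⟩ := simple_ok
    have e0 : η (Pi.mulSingle (0 : Fin 6) ω) =
        S.N (chevE6.simple 0) (ω : K) * S.N (chevE6.simple 0) (-1) := hη (0 : Fin 6) ω
    have e5 : η (Pi.mulSingle (5 : Fin 6) (ω ^ q)) =
        S.N (chevE6.simple 5) ((ω ^ q : Kˣ) : K) * S.N (chevE6.simple 5) (-1) :=
      hη (5 : Fin 6) (ω ^ q)
    have e2 : η (Pi.mulSingle (2 : Fin 6) (ω ^ 2)) =
        S.N (chevE6.simple 2) ((ω ^ 2 : Kˣ) : K) * S.N (chevE6.simple 2) (-1) :=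
      hη (2 : Fin 6) (ω ^ 2)
    have e4 : η (Pi.mulSingle (4 : Fin 6) ((ω ^ 2) ^ q)) =
        S.N (chevE6.simple 4) (((ω ^ 2) ^ q : Kˣ) : K) * S.N (chevE6.simple 4) (-1) :=
      hη (4 : Fin 6) ((ω ^ 2) ^ q)
    rw [s0] at e0
    rw [s5, Units.val_pow_eq_pow_val] at e5
    rw [s2] at e2
    rw [s4, Units.val_pow_eq_pow_val (ω ^ 2) q] at e4
    rw [hc]
    refine (congrArg (· ∈ P) (((map_mul η _ _).trans (congrArg₂ (· * ·)
      ((map_mul η _ _).trans (congrArg₂ (· * ·) e0 e5))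
      ((map_mul η _ _).trans (congrArg₂ (· * ·) e2 e4)))))).mpr ?_
    exact mul_mem (hpairs (by simp) _ ω.ne_zero) (hpairs (by simp) _ (ω ^ 2).ne_zero)
  -- the extension
  haveI : Finite (Subgroup.center (chevE6.SteinbergGroup K)) :=
    Nat.finite_of_card_ne_zero (by rw [hZ]; norm_num)
  haveI : Finite (chevE6.SteinbergGroup K) := by
    haveI : Finite (chevE6.SteinbergGroup K ⧸ ψ.ker) :=
      Finite.of_equiv _ (QuotientGroup.quotientKerEquivRange ψ).toEquiv.symm
    haveI : Finite ψ.ker := by rw [hψk]; infer_instance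
    exact Finite.of_equiv _ (Subgroup.groupEquivQuotientProdSubgroup (s := ψ.ker)).symm
  have hPT : ∀ w : P, ψ w ∈ T := fun w => hmap.le ⟨w, w.2, rfl⟩
  let σ : P →* ↥T := (ψ.comp P.subtype).codRestrict T hPT
  have hker : ∀ w : P, w ∈ σ.ker ↔ (w : chevE6.SteinbergGroup K) ∈ ψ.ker := fun w => by
    simp only [MonoidHom.mem_ker, σ, ← OneMemClass.coe_eq_one (x := (ψ.comp P.subtype).codRestrict T hPT w)]
    rfl
  have hperf : ⁅P, P⁆ = P := by
    refine le_antisymm (Subgroup.commutator_le.2 fun a ha b hb => ?_) (Subgroup.commutator_le.2 ?_)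
    · rw [commutatorElement_def]
      exact mul_mem (mul_mem (mul_mem ha hb) (inv_mem ha)) (inv_mem hb)
    intro a ha b hb
    obtain ⟨w, hw, z, hz, rfl⟩ := hdec a ha
    obtain ⟨w', hw', z', hz', rfl⟩ := hdec b hb
    have cz := Subgroup.mem_center_iff.1 hz
    have cz' := Subgroup.mem_center_iff.1 hz'
    have e : ⁅w * z, w' * z'⁆ = ⁅w, w'⁆ := by
      rw [commutatorElement_def, mul_inv_rev, mul_inv_rev]
      calc w * z * (w' * z') * (z⁻¹ * w⁻¹) * (z'⁻¹ * w'⁻¹)
          = w * (z * (w' * z')) * z⁻¹ * w⁻¹ * (z'⁻¹ * w'⁻¹) := by group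
        _ = w * w' * z' * w⁻¹ * (z'⁻¹ * w'⁻¹) := by rw [← cz]; group
        _ = w * w' * (z' * w⁻¹) * z'⁻¹ * w'⁻¹ := by group
        _ = ⁅w, w'⁆ := by rw [← cz', commutatorElement_def]; group
    rw [e]
    exact Subgroup.commutator_mem_commutator hw hw'
  refine ⟨P, inferInstance, inferInstance, σ, ⟨?_, ?_, ?_⟩, ?_⟩
  · intro g
    obtain ⟨w, hw, e⟩ := hmap.ge g.2
    exact ⟨⟨w, hw⟩, Subtype.ext e⟩
  · intro w hw
    have := hψk ▸ (hker w).1 hw
    exact Subgroup.mem_center_iff.2 fun g => Subtype.ext (Subgroup.mem_center_iff.1 this g)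
  · intro w _
    have h : (w : chevE6.SteinbergGroup K) ∈ ⁅P, P⁆ := hperf.ge w.2
    rw [← Subgroup.map_subtype_commutator] at h
    obtain ⟨w', hw', e⟩ := h
    rwa [← Subtype.ext (a1 := w') (a2 := w) e]
  · let ι : σ.ker →* Subgroup.center (chevE6.SteinbergGroup K) :=
      ((P.subtype).comp σ.ker.subtype).codRestrict _ fun w => hψk ▸ (hker w.1).1 w.2
    have hι : Function.Injective ι := fun a b e =>
      Subtype.ext (Subtype.ext (congrArg
        (fun z : Subgroup.center (chevE6.SteinbergGroup K) => (z : chevE6.SteinbergGroup K)) e :))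
    have hdvd : Nat.card σ.ker ∣ 3 := hZ ▸ Subgroup.card_dvd_of_injective ι hι
    refine ((Nat.dvd_prime Nat.prime_three).1 hdvd).resolve_left fun h1 => hz1 ?_
    haveI := (Nat.card_eq_one_iff_unique.1 h1).1
    have := Subsingleton.elim (⟨⟨η c, hzP⟩, (hker _).2 hz0⟩ : σ.ker) 1
    exact congrArg (fun x : σ.ker => ((x : P) : chevE6.SteinbergGroup K)) this

end Cfsg.Agent.H74.RootExt.E6
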