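import Cfsg.Agent.Linear.Mult.Lifts
import Mathlib

/-!
Canonical lifts of `p`-elements in a central extension whose kernel has order prime to `p`.
-/

set_option autoImplicit false

namespace Cfsg.Agent.H74.RootExt

open Subgroup

universe u v

/-- `g` has `p`-power order. -/
def IsP {G : Type*} [Group G] (p : ℕ) (g : G) : Prop := ∃ k : ℕ, g ^ p ^ k = 1

theorem isP_one {G : Type*} [Group G] (p : ℕ) : IsP p (1 : G) := ⟨0, one_pow _⟩

theorem IsP.inv {G : Type*} [Group G] {p : ℕ} {g : G} (h : IsP p g) : IsP p g⁻¹ := by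
  obtain ⟨k, hk⟩ := h
  exact ⟨k, by rw [inv_pow, hk, inv_one]⟩

theorem IsP.conj {G : Type*} [Group G] {p : ℕ} {g : G} (h : IsP p g) (a : G) :
    IsP p (a * g * a⁻¹) := by
  obtain ⟨k, hk⟩ := h
  exact ⟨k, by rw [conj_pow, hk, mul_one, mul_inv_cancel]⟩

theorem IsP.map {G G' : Type*} [Group G] [Group G'] {p : ℕ} {g : G} (h : IsP p g) (f : G →* G') :
    IsP p (f g) := by
  obtain ⟨k, hk⟩ := h
  exact ⟨k, by rw [← map_pow, hk, map_one]⟩

theorem isP_of_mem {G : Type*} [Group G] {p : ℕ} {P : Subgroup G} (hP : IsPGroup p P) {g : G}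
    (hg : g ∈ P) : IsP p g := by
  obtain ⟨k, hk⟩ := hP ⟨g, hg⟩
  exact ⟨k, congrArg Subtype.val hk⟩

/-- A central extension with finite kernel of order prime to `p`. -/
structure PExt (p : ℕ) (X : Type u) (G : Type v) [Group X] [Group G]
    extends Linear.Mult.CExtData X G where
  hp : p.Prime
  fin : Finite proj.ker
  coprime : ¬ p ∣ Nat.card proj.ker

namespace PExt

variable {p : ℕ} {X : Type u} {G : Type v} [Group X] [Group G] (E : PExt p X G)

theorem coprime_pow (k : ℕ) : (p ^ k).Coprime (Nat.card E.proj.ker) :=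
  Nat.Coprime.pow_left k (E.hp.coprime_iff_not_dvd.2 E.coprime)

theorem ker_comm {z : X} (hz : E.proj z = 1) (x : X) : Commute x z :=
  mem_center_iff.1 (E.central hz) x

theorem ker_eq_one {z : X} (hz : E.proj z = 1) (h : IsP p z) : z = 1 := by
  haveI := E.fin
  obtain ⟨k, hk⟩ := h
  have h1 : z ^ Nat.card E.proj.ker = 1 := congrArg Subtype.val (pow_card_eq_one' (x := (⟨z, hz⟩ : E.proj.ker)))
  have := pow_gcd_eq_one.2 ⟨hk, h1⟩
  rwa [(E.coprime_pow k).gcd_eq_one, pow_one] at this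

/-- Two lifts of `p`-power order agree. -/
theorem eq_of_isP {a b : X} (ha : IsP p a) (hb : IsP p b) (h : E.proj a = E.proj b) : a = b := by
  have hz : E.proj (b⁻¹ * a) = 1 := by rw [map_mul, map_inv, h, inv_mul_cancel]
  have hc : Commute b⁻¹ a := by
    have h2 := (E.ker_comm hz b).eq
    rw [mul_inv_cancel_left] at h2
    show b⁻¹ * a = a * b⁻¹
    exact eq_mul_inv_of_mul_eq h2.symm
  obtain ⟨k, hk⟩ := ha
  obtain ⟨l, hl⟩ := hb
  refine inv_mul_eq_one.1 (E.ker_eq_one hz ⟨k + l, ?_⟩) |>.symm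
  have ea : a ^ p ^ (k + l) = 1 := by rw [pow_add, pow_mul, hk, one_pow]
  have eb : b ^ p ^ (k + l) = 1 := by rw [pow_add, mul_comm, pow_mul, hl, one_pow]
  rw [hc.mul_pow, inv_pow, ea, eb, inv_one, one_mul]

theorem exists_can {x : G} (hx : IsP p x) : ∃ a, E.proj a = x ∧ IsP p a := by
  haveI := E.fin
  obtain ⟨k, hk⟩ := hx
  have hz : E.proj (E.lift x ^ p ^ k) = 1 := by rw [map_pow, E.proj_lift, hk]
  have hco : (Nat.card E.proj.ker).Coprime (p ^ k) := (E.coprime_pow k).symm
  obtain ⟨w, hw⟩ : ∃ w : E.proj.ker, (w : X) ^ p ^ k = E.lift x ^ p ^ k :=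
    ⟨(powCoprime hco).symm ⟨_, hz⟩,
      congrArg Subtype.val (Equiv.apply_symm_apply (powCoprime hco) _)⟩
  have hw1 : E.proj (w : X) = 1 := w.2
  refine ⟨E.lift x * (w : X)⁻¹, by rw [map_mul, map_inv, hw1, inv_one, mul_one, E.proj_lift], k, ?_⟩
  rw [((E.ker_comm hw1 (E.lift x)).inv_right).mul_pow, inv_pow, hw, mul_inv_cancel]

open Classical in
/-- The lift of `p`-power order. -/
noncomputable def can (x : G) : X := if h : IsP p x then (E.exists_can h).choose else 1

theorem proj_can {x : G} (hx : IsP p x) : E.proj (E.can x) = x := by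
  rw [can, dif_pos hx]; exact (E.exists_can hx).choose_spec.1

theorem isP_can {x : G} (hx : IsP p x) : IsP p (E.can x) := by
  rw [can, dif_pos hx]; exact (E.exists_can hx).choose_spec.2

theorem eq_can {a : X} {x : G} (ha : IsP p a) (h : E.proj a = x) : a = E.can x := by
  have hx : IsP p x := h ▸ ha.map _
  exact E.eq_of_isP ha (E.isP_can hx) (h.trans (E.proj_can hx).symm)

theorem can_one : E.can 1 = 1 := (E.eq_can (isP_one p) (map_one _)).symm

theorem can_inv {x : G} (hx : IsP p x) : E.can x⁻¹ = (E.can x)⁻¹ :=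
  (E.eq_can (E.isP_can hx).inv (by rw [map_inv, E.proj_can hx])).symm

theorem can_conj {x : G} (hx : IsP p x) {a : X} {g : G} (ha : E.proj a = g) :
    a * E.can x * a⁻¹ = E.can (g * x * g⁻¹) :=
  E.eq_can ((E.isP_can hx).conj a) (by rw [map_mul, map_mul, map_inv, ha, E.proj_can hx])

theorem isP_mul [Finite X] {P : Subgroup G} (hP : IsPGroup p P) {a b : X} (ha : IsP p a)
    (hb : IsP p b) (ha' : E.proj a ∈ P) (hb' : E.proj b ∈ P) : IsP p (a * b) := by
  haveI := Fact.mk E.hp
  haveI : Finite G := Finite.of_surjective _ E.surj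
  set V := P.comap E.proj
  let f : V →* P := (E.proj.comp V.subtype).codRestrict P fun x => x.2
  have hker : f.ker ≤ center V := fun x hx => by
    rw [mem_center_iff]
    intro y
    exact Subtype.ext (E.ker_comm (z := (x : X)) (congrArg Subtype.val hx) y).eq
  haveI : (center V).FiniteIndex := ⟨Subgroup.index_ne_zero_of_finite⟩
  obtain ⟨j, hj⟩ : ∃ j, (center V).index = p ^ j := by
    have hd := Subgroup.index_dvd_of_le hker
    obtain ⟨m, hm⟩ := IsPGroup.iff_card.1 hP
    have hd2 : f.ker.index ∣ p ^ m := by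
      rw [Subgroup.index_ker, ← hm]; exact Subgroup.card_subgroup_dvd_card f.range
    obtain ⟨j, -, hj⟩ := (Nat.dvd_prime_pow E.hp).1 (hd.trans hd2)
    exact ⟨j, hj⟩
  obtain ⟨k, hk⟩ := ha
  obtain ⟨l, hl⟩ := hb
  let A : V := ⟨a, ha'⟩
  let B : V := ⟨b, hb'⟩
  let t := MonoidHom.transferCenterPow V
  have ht : ∀ g : V, ((t g : V)) = g ^ p ^ j := fun g => by
    rw [MonoidHom.transferCenterPow_apply, hj]
  refine ⟨j + (k + l), ?_⟩
  have hA : A ^ p ^ (k + l) = 1 := Subtype.ext (by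
    show a ^ p ^ (k + l) = 1
    rw [pow_add, pow_mul, hk, one_pow])
  have hB : B ^ p ^ (k + l) = 1 := Subtype.ext (by
    show b ^ p ^ (k + l) = 1
    rw [pow_add, mul_comm, pow_mul, hl, one_pow])
  have h1 : t (A * B) ^ p ^ (k + l) = 1 := by
    rw [← map_pow t, map_pow, map_mul,
      Commute.mul_pow (Subtype.ext (mem_center_iff.1 (t B).2 _) : Commute (t A) (t B)),
      ← map_pow, ← map_pow, hA, hB, map_one, one_mul]
  have h2 : ((A * B) ^ p ^ j) ^ p ^ (k + l) = 1 := by
    rw [← ht, ← SubmonoidClass.coe_pow, h1]; rfl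
  rw [← pow_mul, ← pow_add] at h2
  exact congrArg Subtype.val h2

theorem can_mul [Finite X] {P : Subgroup G} (hP : IsPGroup p P) {x y : G} (hx : x ∈ P)
    (hy : y ∈ P) : E.can (x * y) = E.can x * E.can y := by
  have hx' := isP_of_mem hP hx
  have hy' := isP_of_mem hP hy
  refine (E.eq_can (E.isP_mul hP (E.isP_can hx') (E.isP_can hy') ?_ ?_) ?_).symm
  · rw [E.proj_can hx']; exact hx
  · rw [E.proj_can hy']; exact hy
  · rw [map_mul, E.proj_can hx', E.proj_can hy']

end PExt

end Cfsg.Agent.H74.RootExt
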