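import Cfsg.Agent.H13.Split.Basic
import Cfsg.Agent.H74.RootExt.Canon

/-!
Split Tits systems: fundamental root groups, their transport by elements of the Weyl group, exchange.
-/

set_option autoImplicit false
set_option linter.unusedSectionVars false

namespace Cfsg.Agent.H74.RootExt

open Cfsg.Agent.H28 Cfsg.Agent.H54.BNC
open Cfsg.Agent.H13.Split
open Cfsg.Agent.H37 (Tits.Ambient)

variable {G W : Type*} [Group G] [Group W] {A : Tits.Ambient G W} {p : ℕ}

/-- A split Tits system in characteristic `p` with the longest element `w₀`. -/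
structure SBase (A : Tits.Ambient G W) (p : ℕ) (w₀ : W) : Prop where
  hp : p.Prime
  full : A.Uw w₀ = A.U
  pU : IsPGroup p A.U
  pH : ¬ p ∣ Nat.card A.H
  opp : ∀ s ∈ A.S, A.Uw s ≤ rad A (w₀ * s)

namespace SBase

variable {w₀ : W} (hA : SBase A p w₀)
include hA

theorem mem_U_of_pElem {b : G} (hb : b ∈ A.B) (hk : IsP p b) : b ∈ A.U := by
  obtain ⟨u, hu, h, hh, rfl⟩ := hb
  obtain ⟨k, hk⟩ := hk
  obtain ⟨u', hu', e⟩ := pow_uh A hu hh (p ^ k)
  rw [hk] at e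
  have h1 := (A.unique (one_mem _) hu' (one_mem _) (pow_mem hh _) (one_mem (A.Uw 1))
    (one_mem (A.Uw 1)) (show 1 * 1 * A.n 1 * 1 = u' * h ^ p ^ k * A.n 1 * 1 by
      rw [← e]; group)).2.2.1
  have h2 : orderOf h ∣ p ^ k := orderOf_dvd_of_pow_eq_one h1.symm
  have h3 : orderOf h ∣ Nat.card A.H := by
    have := orderOf_dvd_natCard (⟨h, hh⟩ : ↥A.H)
    rwa [Subgroup.orderOf_mk] at this
  have h4 : h = 1 := orderOf_eq_one_iff.1 (Nat.dvd_one.1
    ((Nat.Coprime.pow_left k (hA.hp.coprime_iff_not_dvd.2 hA.pH)) ▸ Nat.dvd_gcd h2 h3))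
  rwa [h4, mul_one]

theorem isP_U {u : G} (hu : u ∈ A.U) : IsP p u := isP_of_mem hA.pU hu

theorem conj_mem_U {g d : G} (hd : d ∈ A.U) (hm : g * d * g⁻¹ ∈ A.B) : g * d * g⁻¹ ∈ A.U :=
  hA.mem_U_of_pElem hm ((hA.isP_U hd).conj g)

/-- The radicals decrease along reduced products. -/
theorem rad_le {a b : W} (h : ell A (a * b) = ell A a + ell A b) : rad A (a * b) ≤ rad A b := by
  induction hn : ell A b using Nat.strong_induction_on generalizing a b with
  | _ n ih =>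
  subst hn
  intro d hd
  by_cases hb : b = 1
  · subst hb
    exact (mem_rad A).2 ⟨hd.1, by rw [A.n_one]; simpa using hd.1⟩
  obtain ⟨s, hs, e⟩ := exists_right_descent A hb
  set b' := b * s with hb'
  have hbe : b = b' * s := by rw [hb', mul_assoc, A.sq_S s hs, mul_one]
  have h1 := ell_mul_le A a b'
  have h2 := ell_mul_le A (a * b') s
  have hab : a * b' * s = a * b := by rw [hbe, mul_assoc]
  rw [hab, ell_S A hs] at h2
  have h3 : ell A (a * b' * s) = ell A (a * b') + ell A s := by rw [hab, ell_S A hs]; omega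
  obtain ⟨k, hk, ek⟩ := A.n_mul (a * b') s
  rw [hab] at ek
  have hout : A.n (a * b') * (A.n s * d * (A.n s)⁻¹) * (A.n (a * b'))⁻¹ ∈ A.U := by
    rw [show A.n (a * b') * (A.n s * d * (A.n s)⁻¹) * (A.n (a * b'))⁻¹ =
      (A.n (a * b') * A.n s) * d * (A.n (a * b') * A.n s)⁻¹ by group, ek,
      show k * A.n (a * b) * d * (k * A.n (a * b))⁻¹ =
        k * (A.n (a * b) * d * (A.n (a * b))⁻¹) * k⁻¹ by group]
    exact A.H_conj_U k hk _ hd.2
  set g := A.n s * d * (A.n s)⁻¹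
  have hgB : g ∈ A.B := by
    rcases axiom_left (P := A.pair) (nS_mem A hs) (n_mem A s) (A.U_le_B hd.1) with hc | hc <;>
      have hg : g = A.n s * d * A.n s * (A.n s * A.n s)⁻¹ := by simp only [g]; group
    · rw [dc_of_mem_B (A.pair.sq_mem _ (nS_mem A hs)), mem_dc_one] at hc
      rw [hg]
      exact mul_mem hc (inv_mem (A.pair.sq_mem _ (nS_mem A hs)))
    · exfalso
      have hgc : g ∈ cell A s :=
        hg ▸ cell_right A hc (inv_mem (A.pair.sq_mem _ (nS_mem A hs)))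
      have h4 : A.n (a * b') * g ∈ cell A (a * b') := by
        rw [show A.n (a * b') * g = (A.n (a * b') * g * (A.n (a * b'))⁻¹) * A.n (a * b') by group]
        exact cell_left A (A.U_le_B hout) (n_mem_cell A _)
      exact S_ne_one A hs (mul_eq_left.1
        (cell_inj A (cell_mul A h3 (n_mem_cell A _) hgc) h4))
  have hgU : g ∈ A.U := hA.conj_mem_U hd.1 hgB
  have hin : g ∈ rad A b' := ih (ell A b') (by omega)
    (a := a) (b := b') (by rw [ell_S A hs] at h3; omega) rfl ((mem_rad A).2 ⟨hgU, hout⟩)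
  refine (mem_rad A).2 ⟨hd.1, ?_⟩
  obtain ⟨l, hl, el⟩ := A.n_mul b' s
  rw [← hbe] at el
  rw [show A.n b = l⁻¹ * (A.n b' * A.n s) by rw [el]; group,
    show l⁻¹ * (A.n b' * A.n s) * d * (l⁻¹ * (A.n b' * A.n s))⁻¹ =
      l⁻¹ * (A.n b' * g * (A.n b')⁻¹) * l⁻¹⁻¹ by simp only [g]; group]
  exact A.H_conj_U _ (inv_mem hl) _ hin.2

theorem exists_rad_mul (w : W) {u : G} (hu : u ∈ A.U) :
    ∃ k ∈ rad A w, ∃ v ∈ A.Uw w, u = k * v := by
  obtain ⟨x, hx, h, hh, v, hv, e⟩ := cell_nf A (cell_right A (n_mem_cell A w) (A.U_le_B hu))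
  have e' : A.n w * (u * v⁻¹) * (A.n w)⁻¹ = x * h := by
    rw [show A.n w * (u * v⁻¹) * (A.n w)⁻¹ = A.n w * u * (v⁻¹ * (A.n w)⁻¹) by group, e]; group
  have hk : u * v⁻¹ ∈ A.U := mul_mem hu (inv_mem (A.Uw_le w hv))
  exact ⟨u * v⁻¹, (mem_rad A).2 ⟨hk, hA.conj_mem_U hk (e' ▸ ⟨x, hx, h, hh, rfl⟩)⟩, v, hv, by group⟩

theorem rad_w₀ : rad A w₀ = ⊥ := by
  refine eq_bot_iff.2 fun u hu => Subgroup.mem_bot.2 ?_
  exact (A.unique (one_mem _) hu.2 (one_mem _) (one_mem _) (hA.full.symm ▸ hu.1) (one_mem _)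
    (show 1 * 1 * A.n w₀ * u = A.n w₀ * u * (A.n w₀)⁻¹ * 1 * A.n w₀ * 1 by group)).2.2.2

theorem conj_H_rad (w : W) {h d : G} (hh : h ∈ A.H) (hd : d ∈ rad A w) : h * d * h⁻¹ ∈ rad A w := by
  refine (mem_rad A).2 ⟨A.H_conj_U h hh d hd.1, ?_⟩
  rw [show A.n w * (h * d * h⁻¹) * (A.n w)⁻¹ =
    (A.n w * h * (A.n w)⁻¹) * (A.n w * d * (A.n w)⁻¹) * (A.n w * h * (A.n w)⁻¹)⁻¹ by group]
  exact A.H_conj_U _ (A.n_conj_H w h hh) _ hd.2

/-- The fundamental root group is the set of elements of `U` carried into `U` by `w₀ s`. -/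
theorem rad_inf {s : W} {d : G} (hd : d ∈ rad A s) (hd' : d ∈ rad A (w₀ * s)) : d = 1 := by
  obtain ⟨l, hl, el⟩ := A.n_mul w₀ s
  have h1 : A.n s * d * (A.n s)⁻¹ ∈ rad A w₀ := by
    refine (mem_rad A).2 ⟨hd.2, ?_⟩
    rw [show A.n w₀ * (A.n s * d * (A.n s)⁻¹) * (A.n w₀)⁻¹ =
      (A.n w₀ * A.n s) * d * (A.n w₀ * A.n s)⁻¹ by group, el,
      show l * A.n (w₀ * s) * d * (l * A.n (w₀ * s))⁻¹ =
        l * (A.n (w₀ * s) * d * (A.n (w₀ * s))⁻¹) * l⁻¹ by group]
    exact A.H_conj_U l hl _ hd'.2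
  rw [hA.rad_w₀, Subgroup.mem_bot] at h1
  exact conj_eq_one_iff.1 h1

theorem mem_Uw_iff {s : W} (hs : s ∈ A.S) {x : G} : x ∈ A.Uw s ↔ x ∈ rad A (w₀ * s) := by
  refine ⟨fun h => hA.opp s hs h, fun h => ?_⟩
  obtain ⟨k, hk, v, hv, e⟩ := hA.exists_rad_mul s h.1
  have hk' : k ∈ rad A (w₀ * s) := by
    rw [show k = x * v⁻¹ by rw [e]; group]
    exact mul_mem h (inv_mem (hA.opp s hs hv))
  rw [e, hA.rad_inf hk hk', one_mul]
  exact hv

theorem H_conj_Uw {s : W} (hs : s ∈ A.S) {h x : G} (hh : h ∈ A.H) (hx : x ∈ A.Uw s) :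
    h * x * h⁻¹ ∈ A.Uw s :=
  (hA.mem_Uw_iff hs).2 (hA.conj_H_rad _ hh ((hA.mem_Uw_iff hs).1 hx))

variable [Finite G]

theorem ell_w₀_mul (y : W) : ell A (w₀ * y⁻¹) + ell A y = ell A w₀ :=
  (ell_full A hA.full y).symm

theorem Uw_le_rad {s w : W} (hs : s ∈ A.S) (h : ell A (w * s) = ell A w + 1) :
    A.Uw s ≤ rad A w := by
  refine (hA.opp s hs).trans ?_
  have h1 := hA.ell_w₀_mul (w * s)
  have h2 := (descent_of_full A hA.full hs).1
  rw [mul_inv_rev, A.S_inv hs] at h1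
  have e : w₀ * s = w₀ * (s * w⁻¹) * w := by group
  rw [e]
  refine hA.rad_le ?_
  rw [← e]
  omega

/-- `n v` carries the root group of `t` into that of `s` when `s v = v t` is reduced. -/
theorem conj_Uw {s t v : W} (hs : s ∈ A.S) (ht : t ∈ A.S) (hst : s * v = v * t)
    (hl : ell A (v * t) = ell A v + 1) {x : G} (hx : x ∈ A.Uw t) :
    A.n v * x * (A.n v)⁻¹ ∈ A.Uw s := by
  refine (hA.mem_Uw_iff hs).2 ((mem_rad A).2 ⟨(hA.Uw_le_rad ht hl hx).2, ?_⟩)
  have h1 := hA.ell_w₀_mul v⁻¹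
  rw [inv_inv, ell_inv] at h1
  have h2 := hA.ell_w₀_mul (v * t)⁻¹
  rw [inv_inv, ell_inv, ← mul_assoc] at h2
  have h3 : x ∈ rad A (w₀ * v * t) := hA.Uw_le_rad ht (by
    rw [mul_assoc, A.sq_S t ht, mul_one]; omega) hx
  obtain ⟨k, hk, ek⟩ := A.n_mul (w₀ * s) v
  have e : w₀ * s * v = w₀ * v * t := by rw [mul_assoc, hst, mul_assoc]
  rw [e] at ek
  rw [show A.n (w₀ * s) * (A.n v * x * (A.n v)⁻¹) * (A.n (w₀ * s))⁻¹ =
      (A.n (w₀ * s) * A.n v) * x * (A.n (w₀ * s) * A.n v)⁻¹ by group, ek,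
    show k * A.n (w₀ * v * t) * x * (k * A.n (w₀ * v * t))⁻¹ =
      k * (A.n (w₀ * v * t) * x * (A.n (w₀ * v * t))⁻¹) * k⁻¹ by group]
  exact A.H_conj_U k hk _ h3.2

end SBase

/-- If `s v t` is not longer than `v` while `s v` and `v t` are longer, then `s v = v t`. -/
theorem exchange_eq {s t v : W} (hs : s ∈ A.S) (ht : t ∈ A.S)
    (h1 : ell A (s * v) = ell A v + 1) (h2 : ell A (v * t) = ell A v + 1)
    (h3 : ell A (s * (v * t)) + 1 = ell A (v * t)) : s * v = v * t := by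
  set w := v * t with hw
  have hw' : ell A (s * (s * w)) = ell A s + ell A (s * w) := by
    rw [← mul_assoc, A.sq_S s hs, one_mul, ell_S A hs]; omega
  obtain ⟨b, hb, hb'⟩ := exists_conj_mem_dc (P := A.pair) (nS_mem A hs)
  have hg : A.n s * b * A.n s * A.n (s * w) ∈ cell A w := by
    have := cell_mul A hw' (show A.n s * b * A.n s ∈ cell A s from hb') (n_mem_cell A (s * w))
    rwa [show s * (s * w) = w by rw [← mul_assoc, A.sq_S s hs, one_mul]] at this
  obtain ⟨k, hk, ek⟩ := A.n_mul s (s * w)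
  rw [show s * (s * w) = w by rw [← mul_assoc, A.sq_S s hs, one_mul]] at ek
  obtain ⟨l, hl, el⟩ := A.n_mul v t
  -- the same element as a product of a cell of `s v` with `n t`
  set g := A.n s * b * A.n s * A.n (s * w) with hgdef
  have e : g = A.n s * (b * k * l⁻¹) * A.n v * A.n t := by
    rw [hgdef, show A.n s * b * A.n s * A.n (s * w) = A.n s * b * (A.n s * A.n (s * w)) by group,
      ek, mul_assoc (A.n s * (b * k * l⁻¹)), el, hw]
    group
  have hbB : b * k * l⁻¹ ∈ A.B :=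
    mul_mem (mul_mem hb (A.H_le_B hk)) (A.H_le_B (inv_mem hl))
  have hsv : ell A (s * v) = ell A s + ell A v := by rw [ell_S A hs]; omega
  have hd : A.n s * (b * k * l⁻¹) * A.n v ∈ cell A (s * v) :=
    cell_mul A hsv (cell_right A (n_mem_cell A s) hbB) (n_mem_cell A v)
  obtain ⟨b1, hb1, b2, hb2, e2⟩ := (mem_dc A.pair).1 hd
  rw [e, e2, show b1 * A.n (s * v) * b2 * A.n t = b1 * (A.n (s * v) * b2 * A.n t) by group] at hg
  rcases axiom_right (P := A.pair) (nS_mem A ht) (n_mem A (s * v)) hb2 with hc | hc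
  · rw [dc_n_mul] at hc
    have hw2 := cell_inj A hg (cell_left A hb1 hc)
    rw [hw, mul_assoc s] at hw2
    exact absurd (right_eq_mul.1 hw2) (S_ne_one A hs)
  · exact (cell_inj A hg (cell_left A hb1 hc)).symm

/-- Exchange: a left descent `s` of `w` moves through a reduced factor of `w`. -/
theorem exists_split {s w : W} (hs : s ∈ A.S) (h : ell A (s * w) + 1 = ell A w) :
    ∃ v, ∃ t ∈ A.S, ∃ r, w = v * t * r ∧ ell A w = ell A v + 1 + ell A r ∧ s * v = v * t ∧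
      ell A (v * t) = ell A v + 1 := by
  induction hn : ell A w using Nat.strong_induction_on generalizing w with
  | _ n ih =>
  subst hn
  have hw1 : w ≠ 1 := fun e => by rw [e, mul_one, ell_S A hs, ell_one] at h; omega
  obtain ⟨t₀, ht₀, e₀⟩ := exists_right_descent A hw1
  set w' := w * t₀ with hw'
  have hwe : w = w' * t₀ := by rw [hw', mul_assoc, A.sq_S t₀ ht₀, mul_one]
  rcases ell_cases A hs w' with h' | h'
  · refine ⟨w', t₀, ht₀, 1, by rw [mul_one, ← hwe], by rw [ell_one]; omega, ?_,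
      by rw [← hwe]; omega⟩
    exact exchange_eq hs ht₀ h' (by rw [← hwe]; omega) (by rw [← hwe]; exact h)
  · obtain ⟨v, t, ht, r, e, el, est, evt⟩ := ih _ (by omega) h' rfl
    refine ⟨v, t, ht, r * t₀, by rw [← mul_assoc, ← e, ← hwe], ?_, est, evt⟩
    have h1 := ell_mul_le A r t₀
    have h2 := ell_mul_le A (v * t) (r * t₀)
    rw [← mul_assoc, ← e, ← hwe, evt] at h2
    rw [ell_S A ht₀] at h1
    omega

end Cfsg.Agent.H74.RootExt
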