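import Cfsg.Agent.H74.RootExt.SL2Lift
import Cfsg.Agent.H74.RootExt.SplitBase

/-!
Central extensions, with kernel of order prime to `p`, of a split Tits system with rank one root
groups over finite fields: the kernel lies in the group generated by the rank one tori.
-/

set_option autoImplicit false
set_option linter.unusedSectionVars false

namespace Cfsg.Agent.H74.RootExt

open Cfsg.Agent.H28 Cfsg.Agent.H54.BNC Cfsg.Agent.H54.Presentation Cfsg.Agent.H87
open Cfsg.Agent.H13.Split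
open Cfsg.Agent.H37 (Tits.Ambient)

variable {G W : Type*} [Group G] [Group W] {ι : Type*} {k : ι → Type*} [∀ i, Field (k i)]

/-- Rank one root groups of the fundamental reflections. -/
structure Gens (A : Tits.Ambient G W) (sw : ι → W) (x y : ∀ i, k i → G) : Prop where
  S_eq : A.S = Set.range sw
  rels : ∀ i, SL2Rels (x i) (y i)
  inj : ∀ i, Function.Injective (x i)
  mem : ∀ i v, v ∈ A.Uw (sw i) ↔ ∃ t, x i t = v
  w_mem : ∀ i t, t ≠ 0 → ∃ h ∈ A.H, wEl (x i) (y i) t = h * A.n (sw i)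
  gen : Subgroup.closure (⋃ i, Set.range (x i) ∪ Set.range (y i)) = ⊤

/-- A finite join of subgroups normalising each other has order dividing the product of theirs. -/
theorem card_finset_sup_dvd {X : Type*} [Group X] [Finite X] {κ : Type*} (C : κ → Subgroup X)
    (h : ∀ i j, C i ≤ Subgroup.normalizer (C j : Set X)) (s : Finset κ) :
    Nat.card ↥(s.sup C) ∣ ∏ i ∈ s, Nat.card (C i) := by
  classical
  induction s using Finset.induction_on with
  | empty => simp [Subgroup.card_bot]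
  | insert a s ha ih =>
    rw [Finset.sup_insert, Finset.prod_insert ha, sup_comm]
    set A := s.sup C
    have hle : C a ≤ Subgroup.normalizer (A : Set X) := by
      intro g hg
      have hmap : ∀ g ∈ C a, A.map (MulAut.conj g).toMonoidHom ≤ A := by
        intro g hg
        rw [show A = s.sup C from rfl, Finset.sup_eq_iSup, Subgroup.map_iSup]
        refine iSup_le fun i => ?_
        rw [Subgroup.map_iSup]
        refine iSup_le fun hi => le_trans ?_ (le_iSup₂_of_le i hi le_rfl)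
        rintro _ ⟨c, hc, rfl⟩
        exact ((Subgroup.mem_normalizer_iff.1 (h a i hg)) c).1 hc
      rw [Subgroup.mem_normalizer_iff]
      intro z
      refine ⟨fun hz => hmap g hg (Subgroup.mem_map_of_mem _ hz), fun hz => ?_⟩
      have := hmap g⁻¹ (inv_mem hg) (Subgroup.mem_map_of_mem _ hz)
      simpa [mul_assoc] using this
    set T := A ⊔ C a
    haveI hn : (A.subgroupOf T).Normal := by
      rw [Subgroup.normal_subgroupOf_iff_le_normalizer le_sup_left]
      exact sup_le Subgroup.le_normalizer hle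
    have h1 : A.relIndex T = A.relIndex (C a) := by
      have hC : C a ≤ T := le_sup_right
      have e : A.subgroupOf T ⊔ (C a).subgroupOf T = ⊤ := by
        rw [← Subgroup.subgroupOf_sup le_sup_left hC, Subgroup.subgroupOf_self]
      have := Subgroup.relIndex_sup_left (K := A.subgroupOf T) (H := (C a).subgroupOf T)
      rw [e, Subgroup.relIndex_top_right, Subgroup.relIndex_subgroupOf hC] at this
      exact this
    have h2 := Subgroup.card_mul_index (A.subgroupOf T)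
    rw [Nat.card_congr (Subgroup.subgroupOfEquivOfLe (le_sup_left : A ≤ T)).toEquiv,
      show (A.subgroupOf T).index = A.relIndex T from rfl, h1] at h2
    rw [← h2, mul_comm (Nat.card (C a))]
    exact mul_dvd_mul ih (Subgroup.relIndex_dvd_card A (C a))

/-- The normalizer of the join contains what normalises each. -/
theorem conj_iSup_le {X : Type*} [Group X] {κ : Sort*} (C : κ → Subgroup X) {g : X}
    (h : ∀ i, ∀ c ∈ C i, g * c * g⁻¹ ∈ ⨆ j, C j) {c : X} (hc : c ∈ ⨆ j, C j) :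
    g * c * g⁻¹ ∈ ⨆ j, C j := by
  refine (show (⨆ j, C j) ≤ (⨆ j, C j).comap (MulAut.conj g).toMonoidHom from
    iSup_le fun i c hc => ?_) hc
  exact h i c hc

namespace Bruhat

variable {A : Tits.Ambient G W} {p : ℕ} {w₀ : W} {sw : ι → W} {x y : ∀ i, k i → G}
  (hA : SBase A p w₀) (hg : Gens A sw x y) {X : Type*} [Group X] (E : PExt p X G)

section
include hg

theorem sw_mem (i : ι) : sw i ∈ A.S := hg.S_eq ▸ ⟨i, rfl⟩

theorem x_mem_Uw (i : ι) (t : k i) : x i t ∈ A.Uw (sw i) := (hg.mem i _).2 ⟨t, rfl⟩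

theorem x_mem_U (i : ι) (t : k i) : x i t ∈ A.U := A.Uw_le _ (x_mem_Uw hg i t)

theorem n_sq_mem (i : ι) : A.n (sw i) * A.n (sw i) ∈ A.H := by
  obtain ⟨h, hh, e⟩ := A.n_mul (sw i) (sw i)
  rw [A.sq_S _ (sw_mem hg i), A.n_one, mul_one] at e
  exact e ▸ hh

theorem h_mem (i : ι) {t : k i} (ht : t ≠ 0) : SL2Rels.hEl (x i) (y i) t ∈ A.H := by
  obtain ⟨a, ha, ea⟩ := hg.w_mem i t ht
  obtain ⟨b, hb, eb⟩ := hg.w_mem i (-1) (neg_ne_zero.2 one_ne_zero)
  rw [SL2Rels.hEl, ea, eb, show a * A.n (sw i) * (b * A.n (sw i)) =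
    a * (A.n (sw i) * b * (A.n (sw i))⁻¹) * (A.n (sw i) * A.n (sw i)) by group]
  exact mul_mem (mul_mem ha (A.n_conj_H _ _ hb)) (n_sq_mem hg i)

theorem y_eq (i : ι) (v : k i) :
    y i v = wEl (x i) (y i) 1 * x i (-v) * (wEl (x i) (y i) 1)⁻¹ := by
  have h := (hg.rels i).w_conj 1 (-v) one_ne_zero
  rw [inv_one, one_pow, one_mul, neg_neg] at h
  exact h.symm

theorem n_conj_y (i : ι) (t : k i) :
    ∃ h ∈ A.H, ∃ u, A.n (sw i) * x i t * (A.n (sw i))⁻¹ = h * y i u * h⁻¹ := by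
  obtain ⟨h, hh, e⟩ := hg.w_mem i 1 one_ne_zero
  refine ⟨h⁻¹, inv_mem hh, -t, ?_⟩
  rw [y_eq hg i, neg_neg, e]
  group

end

include hA hg

variable [Finite G]

theorem H_conj_x (i : ι) {h : G} (hh : h ∈ A.H) (t : k i) : ∃ u, h * x i t * h⁻¹ = x i u :=
  ((hg.mem i _).1 (hA.H_conj_Uw (sw_mem hg i) hh (x_mem_Uw hg i t))).imp fun _ e => e.symm

theorem H_conj_y (i : ι) {h : G} (hh : h ∈ A.H) (t : k i) : ∃ u, h * y i t * h⁻¹ = y i u := by
  obtain ⟨a, ha, e⟩ := hg.w_mem i 1 one_ne_zero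
  set n := A.n (sw i)
  have hk : (a * n)⁻¹ * h * (a * n) ∈ A.H := by
    rw [show (a * n)⁻¹ * h * (a * n) = n⁻¹ * (a⁻¹ * h * a) * n by group]
    exact A.n_conj_H' _ (mul_mem (mul_mem (inv_mem ha) hh) ha)
  obtain ⟨u, hu⟩ := H_conj_x hA hg i hk (-t)
  refine ⟨-u, ?_⟩
  rw [y_eq hg i t, y_eq hg i (-u), neg_neg, ← hu, e]
  group

/-- Transport of the rank one group of `t` to that of `s` when `s v = v t` is reduced. -/
theorem conj_xy {v : W} {i j : ι} (hst : sw i * v = v * sw j)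
    (hl : ell A (v * sw j) = ell A v + 1) {g : G} {h : G} (hh : h ∈ A.H) (hg' : g = h * A.n v)
    (t : k j) : (∃ u, g * x j t * g⁻¹ = x i u) ∧ ∃ u, g * y j t * g⁻¹ = y i u := by
  subst hg'
  have hX : ∀ t : k j, ∃ u, h * A.n v * x j t * (h * A.n v)⁻¹ = x i u := fun t => by
    obtain ⟨u, hu⟩ := (hg.mem i _).1
      (hA.conj_Uw (sw_mem hg i) (sw_mem hg j) hst hl (x_mem_Uw hg j t))
    obtain ⟨u', hu'⟩ := H_conj_x hA hg i hh u
    exact ⟨u', by rw [← hu', hu]; group⟩
  refine ⟨hX t, ?_⟩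
  obtain ⟨a, ha, e⟩ := hg.w_mem j 1 one_ne_zero
  obtain ⟨b, hb, eb⟩ := A.n_mul v (sw j)
  obtain ⟨c, hc, ec⟩ := A.n_mul (sw i) v
  set g := h * A.n v
  obtain ⟨u, hu⟩ := hX (-t)
  obtain ⟨m, hm, u', hu'⟩ := n_conj_y hg i u
  have hmem : g * (a * A.n (sw j)) * g⁻¹ =
      h * (A.n v * a * (A.n v)⁻¹) * (b * c⁻¹) * (A.n (sw i) * h⁻¹ * (A.n (sw i))⁻¹) *
        A.n (sw i) := by
    have e1 : A.n v * A.n (sw j) = b * c⁻¹ * (A.n (sw i) * A.n v) := by
      rw [eb, ec, hst]; group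
    calc g * (a * A.n (sw j)) * g⁻¹
        = h * (A.n v * a * (A.n v)⁻¹) * (A.n v * A.n (sw j)) * (A.n v)⁻¹ * h⁻¹ := by
          simp only [g]; group
      _ = _ := by rw [e1]; group
  set l := h * (A.n v * a * (A.n v)⁻¹) * (b * c⁻¹) * (A.n (sw i) * h⁻¹ * (A.n (sw i))⁻¹)
  have hl' : l * m ∈ A.H := mul_mem (mul_mem (mul_mem (mul_mem hh (A.n_conj_H _ _ ha))
    (mul_mem hb (inv_mem hc))) (A.n_conj_H _ _ (inv_mem hh))) hm
  obtain ⟨u'', hu''⟩ := H_conj_y hA hg i hl' u'
  refine ⟨u'', ?_⟩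
  rw [y_eq hg j t, e, show g * (a * A.n (sw j) * x j (-t) * (a * A.n (sw j))⁻¹) * g⁻¹ =
    (g * (a * A.n (sw j)) * g⁻¹) * (g * x j (-t) * g⁻¹) * (g * (a * A.n (sw j)) * g⁻¹)⁻¹ by group,
    hmem, hu, show l * A.n (sw i) * x i u * (l * A.n (sw i))⁻¹ =
      l * (A.n (sw i) * x i u * (A.n (sw i))⁻¹) * l⁻¹ by group, hu', ← hu'']
  group

variable [Finite X] [∀ i, Finite (k i)]

/-- The homomorphism of `SL₂` lifting the rank one group. -/
noncomputable def psi (i : ι) : Matrix.SpecialLinearGroup (Fin 2) (k i) →* X :=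
  (exists_sl2Hom (lifted_rels E (hg.rels i) hA.pU (x_mem_U hg i)).2).choose

theorem psi_up (i : ι) (t : k i) : psi hA hg E i (upMat t) = E.can (x i t) :=
  (exists_sl2Hom (lifted_rels E (hg.rels i) hA.pU (x_mem_U hg i)).2).choose_spec.1 t

theorem psi_low (i : ι) (t : k i) : psi hA hg E i (lowMat t) = E.can (y i t) :=
  (exists_sl2Hom (lifted_rels E (hg.rels i) hA.pU (x_mem_U hg i)).2).choose_spec.2 t

theorem isP_x (i : ι) (t : k i) : IsP p (x i t) := hA.isP_U (x_mem_U hg i t)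

theorem isP_y (i : ι) (t : k i) : IsP p (y i t) := by
  rw [y_eq hg i t]
  exact (hA.isP_U (x_mem_U hg i _)).conj _

theorem proj_psi_up (i : ι) (t : k i) : E.proj (psi hA hg E i (upMat t)) = x i t := by
  rw [psi_up, E.proj_can (isP_x hA hg i t)]

theorem proj_psi_low (i : ι) (t : k i) : E.proj (psi hA hg E i (lowMat t)) = y i t := by
  rw [psi_low, E.proj_can (isP_y hA hg i t)]

theorem proj_psi_w (i : ι) (t : k i) :
    E.proj (psi hA hg E i (wEl upMat lowMat t)) = wEl (x i) (y i) t := by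
  simp only [wEl, map_mul, proj_psi_up, proj_psi_low]

theorem proj_psi_dg (i : ι) (a : (k i)ˣ) : E.proj (psi hA hg E i (dg a)) ∈ A.H := by
  show E.proj (psi hA hg E i (wEl upMat lowMat (a : k i) * wEl upMat lowMat (-1))) ∈ A.H
  rw [map_mul, map_mul, proj_psi_w, proj_psi_w]
  exact h_mem hg i a.ne_zero

/-- The lift of a fundamental reflection. -/
noncomputable def nh (i : ι) : X := psi hA hg E i wOne

theorem proj_nh (i : ι) : ∃ h ∈ A.H, E.proj (nh hA hg E i) = h * A.n (sw i) := by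
  obtain ⟨h, hh, e⟩ := hg.w_mem i 1 one_ne_zero
  exact ⟨h, hh, (proj_psi_w hA hg E i 1).trans e⟩

/-- The rank one torus. -/
noncomputable def C (i : ι) : Subgroup X := ((psi hA hg E i).comp dg).range

/-- The torus. -/
noncomputable def T : Subgroup X := ⨆ i, C hA hg E i

theorem dg_mem_T (i : ι) (a : (k i)ˣ) : psi hA hg E i (dg a) ∈ T hA hg E :=
  le_iSup (C hA hg E) i (show psi hA hg E i (dg a) ∈ C hA hg E i from ⟨a, rfl⟩)

theorem proj_T {a : X} (ha : a ∈ T hA hg E) : E.proj a ∈ A.H := by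
  refine (show T hA hg E ≤ A.H.comap E.proj from iSup_le fun i => ?_) ha
  rintro _ ⟨b, rfl⟩
  exact proj_psi_dg hA hg E i b

theorem mem_C_of_proj (i : ι) {g : Matrix.SpecialLinearGroup (Fin 2) (k i)}
    (hgH : E.proj (psi hA hg E i g) ∈ A.H) : psi hA hg E i g ∈ C hA hg E i := by
  rcases sl2_cases g with ⟨u, a, rfl⟩ | ⟨u, a, v, rfl⟩
  · rw [map_mul, map_mul, proj_psi_up] at hgH
    have hu : x i u ∈ A.H := by
      have := mul_mem hgH (inv_mem (proj_psi_dg hA hg E i a))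
      rwa [mul_inv_cancel_right] at this
    have h1 := (A.unique (x_mem_U hg i u) (one_mem _) (one_mem _) hu (one_mem (A.Uw 1))
      (one_mem (A.Uw 1)) (show x i u * 1 * A.n 1 * 1 = 1 * x i u * A.n 1 * 1 by group)).2.1
    have hu0 : u = 0 := hg.inj i (h1.trans (hg.rels i).x_zero.symm)
    rw [hu0, upMat_zero, one_mul]
    exact ⟨a, rfl⟩
  · exfalso
    obtain ⟨b, hb, eb⟩ := proj_nh hA hg E i
    rw [map_mul, map_mul, map_mul, map_mul, map_mul, map_mul, proj_psi_up, proj_psi_up,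
      show psi hA hg E i wOne = nh hA hg E i from rfl, eb,
      show x i u * E.proj (psi hA hg E i (dg a)) * (b * A.n (sw i)) * x i v =
        x i u * (E.proj (psi hA hg E i (dg a)) * b) * A.n (sw i) * x i v by group] at hgH
    have h1 := nf_mem_cell A (w := sw i) (x_mem_U hg i u)
      (mul_mem (proj_psi_dg hA hg E i a) hb) (x_mem_U hg i v)
    have h2 := nf_mem_cell A (w := 1) (one_mem _) hgH (one_mem A.U)
    rw [A.n_one, one_mul, mul_one, mul_one] at h2
    exact S_ne_one A (sw_mem hg i) (cell_inj A h1 h2)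

theorem conj_range {i j : ι} {a : X}
    (hX : ∀ t : k j, ∃ u, E.proj a * x j t * (E.proj a)⁻¹ = x i u)
    (hY : ∀ t : k j, ∃ u, E.proj a * y j t * (E.proj a)⁻¹ = y i u)
    (g : Matrix.SpecialLinearGroup (Fin 2) (k j)) :
    ∃ g', a * psi hA hg E j g * a⁻¹ = psi hA hg E i g' := by
  induction g using sl2_induction with
  | h1 => exact ⟨1, by simp⟩
  | hup t g ih =>
    obtain ⟨g', e⟩ := ih
    obtain ⟨u, hu⟩ := hX t
    refine ⟨upMat u * g', ?_⟩
    rw [map_mul, map_mul, ← e, psi_up, psi_up, ← hu, ← E.can_conj (isP_x hA hg j t) rfl]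
    group
  | hlow t g ih =>
    obtain ⟨g', e⟩ := ih
    obtain ⟨u, hu⟩ := hY t
    refine ⟨lowMat u * g', ?_⟩
    rw [map_mul, map_mul, ← e, psi_low, psi_low, ← hu, ← E.can_conj (isP_y hA hg j t) rfl]
    group

theorem conj_H (i : ι) {a : X} (ha : E.proj a ∈ A.H) (g : Matrix.SpecialLinearGroup (Fin 2) (k i)) :
    ∃ g', a * psi hA hg E i g * a⁻¹ = psi hA hg E i g' :=
  conj_range hA hg E (H_conj_x hA hg i ha) (H_conj_y hA hg i ha) g

theorem C_le_normalizer (i j : ι) :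
    C hA hg E i ≤ Subgroup.normalizer (C hA hg E j : Set X) := by
  have key : ∀ a ∈ C hA hg E i, ∀ c ∈ C hA hg E j, a * c * a⁻¹ ∈ C hA hg E j := by
    rintro _ ⟨a, rfl⟩ _ ⟨b, rfl⟩
    have ha : E.proj (psi hA hg E i (dg a)) ∈ A.H := proj_psi_dg hA hg E i a
    obtain ⟨g', e⟩ := conj_H hA hg E j ha (dg b)
    show psi hA hg E i (dg a) * psi hA hg E j (dg b) * (psi hA hg E i (dg a))⁻¹ ∈ _
    rw [e]
    refine mem_C_of_proj hA hg E j ?_
    rw [← e, map_mul, map_mul, map_inv]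
    exact mul_mem (mul_mem ha (proj_psi_dg hA hg E j b)) (inv_mem ha)
  intro a ha
  rw [Subgroup.mem_normalizer_iff]
  intro c
  refine ⟨key a ha c, fun h => ?_⟩
  simpa [mul_assoc] using key a⁻¹ (inv_mem ha) _ h

theorem nh_conj_T (i : ι) {c : X} (hc : c ∈ T hA hg E) :
    nh hA hg E i * c * (nh hA hg E i)⁻¹ ∈ T hA hg E := by
  refine conj_iSup_le _ (fun j c hc => ?_) hc
  obtain ⟨b, rfl⟩ := hc
  set c := psi hA hg E j (dg b)
  have hcH : E.proj c ∈ A.H := proj_psi_dg hA hg E j b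
  obtain ⟨g', e⟩ := conj_H hA hg E i hcH wOne⁻¹
  have e2 : nh hA hg E i * c * (nh hA hg E i)⁻¹ * c⁻¹ = psi hA hg E i (wOne * g') := by
    rw [map_mul, ← e, map_inv, nh]
    group
  have e3 : psi hA hg E i (wOne * g') ∈ C hA hg E i := by
    refine mem_C_of_proj hA hg E i ?_
    obtain ⟨h, hh, eh⟩ := proj_nh hA hg E i
    rw [← e2, map_mul, map_mul, map_mul, map_inv, map_inv, eh,
      show h * A.n (sw i) * E.proj c * (h * A.n (sw i))⁻¹ * (E.proj c)⁻¹ =
        h * (A.n (sw i) * E.proj c * (A.n (sw i))⁻¹) * h⁻¹ * (E.proj c)⁻¹ by group]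
    exact mul_mem (mul_mem (mul_mem hh (A.n_conj_H _ _ hcH)) (inv_mem hh)) (inv_mem hcH)
  show nh hA hg E i * c * (nh hA hg E i)⁻¹ ∈ ⨆ j, C hA hg E j
  rw [show nh hA hg E i * c * (nh hA hg E i)⁻¹ =
    (nh hA hg E i * c * (nh hA hg E i)⁻¹ * c⁻¹) * c by group, e2]
  exact mul_mem (le_iSup (C hA hg E) i e3) (dg_mem_T hA hg E j b)

theorem nh_conj_T' (i : ι) {c : X} (hc : c ∈ T hA hg E) :
    (nh hA hg E i)⁻¹ * c * nh hA hg E i ∈ T hA hg E := by
  have hd : nh hA hg E i * nh hA hg E i ∈ T hA hg E := by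
    rw [nh, ← map_mul, wOne_mul_wOne]
    exact dg_mem_T hA hg E i (-1)
  rw [show (nh hA hg E i)⁻¹ * c * nh hA hg E i =
    nh hA hg E i * ((nh hA hg E i * nh hA hg E i)⁻¹ * c * (nh hA hg E i * nh hA hg E i)) *
      (nh hA hg E i)⁻¹ by group]
  exact nh_conj_T hA hg E i (mul_mem (mul_mem (inv_mem hd) hc) hd)

/-- Products of lifted reflections along reduced words. -/
inductive Lift : W → X → Prop
  | one : Lift 1 1
  | snoc {w : W} {a : X} (i : ι) :
      Lift w a → ell A (w * sw i) = ell A w + 1 → Lift (w * sw i) (a * nh hA hg E i)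

theorem Lift.proj {w : W} {a : X} (h : Lift hA hg E w a) :
    ∃ h ∈ A.H, E.proj a = h * A.n w := by
  induction h with
  | one => exact ⟨1, one_mem _, by rw [map_one, A.n_one, one_mul]⟩
  | @snoc w a i _ _ ih =>
    obtain ⟨h, hh, e⟩ := ih
    obtain ⟨h', hh', e'⟩ := proj_nh hA hg E i
    obtain ⟨l, hl, el⟩ := A.n_mul w (sw i)
    refine ⟨h * (A.n w * h' * (A.n w)⁻¹) * l, mul_mem (mul_mem hh (A.n_conj_H _ _ hh')) hl, ?_⟩
    rw [map_mul, e, e', mul_assoc (h * _) l, ← el]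
    group

theorem Lift.conj_T {w : W} {a : X} (h : Lift hA hg E w a) {c : X} (hc : c ∈ T hA hg E) :
    a * c * a⁻¹ ∈ T hA hg E ∧ a⁻¹ * c * a ∈ T hA hg E := by
  induction h generalizing c with
  | one => exact ⟨by rwa [inv_one, one_mul, mul_one], by rwa [inv_one, one_mul, mul_one]⟩
  | @snoc w a i _ _ ih =>
    constructor
    · rw [show a * nh hA hg E i * c * (a * nh hA hg E i)⁻¹ =
        a * (nh hA hg E i * c * (nh hA hg E i)⁻¹) * a⁻¹ by group]
      exact (ih (nh_conj_T hA hg E i hc)).1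
    · rw [show (a * nh hA hg E i)⁻¹ * c * (a * nh hA hg E i) =
        (nh hA hg E i)⁻¹ * (a⁻¹ * c * a) * nh hA hg E i by group]
      exact nh_conj_T' hA hg E i (ih hc).2

theorem Lift.cons {w : W} {a : X} (h : Lift hA hg E w a) (i : ι)
    (hl : ell A (sw i * w) = ell A w + 1) : Lift hA hg E (sw i * w) (nh hA hg E i * a) := by
  induction h with
  | one =>
    rw [mul_one, mul_one]
    have := Lift.snoc (hA := hA) (hg := hg) (E := E) i Lift.one
      (by rw [one_mul, ell_one, ell_S A (sw_mem hg i)])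
    rwa [one_mul, one_mul] at this
  | @snoc w a j _ hj ih =>
    rw [← mul_assoc] at hl
    have h1 := ell_mul_le A (sw i * w) (sw j)
    have h2 := ell_mul_le A (sw i) w
    rw [ell_S A (sw_mem hg j)] at h1
    rw [ell_S A (sw_mem hg i)] at h2
    rw [← mul_assoc, ← mul_assoc]
    exact Lift.snoc j (ih (by omega)) (by omega)

theorem exists_lift (w : W) : ∃ a, Lift hA hg E w a := by
  induction hn : ell A w using Nat.strong_induction_on generalizing w with
  | _ n ih =>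
  subst hn
  by_cases hw : w = 1
  · exact hw ▸ ⟨1, Lift.one⟩
  obtain ⟨s, hs, e⟩ := exists_right_descent A hw
  obtain ⟨i, rfl⟩ : s ∈ Set.range sw := hg.S_eq ▸ hs
  obtain ⟨a, ha⟩ := ih (ell A (w * sw i)) (by omega) _ rfl
  refine ⟨a * nh hA hg E i, ?_⟩
  have := Lift.snoc i ha (by rw [mul_assoc, A.sq_S _ hs, mul_one]; omega)
  rwa [mul_assoc w, A.sq_S _ hs, mul_one] at this

/-- A left descent splits off. -/
theorem Lift.split {w : W} {a : X} (h : Lift hA hg E w a) (i : ι)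
    (hd : ell A (sw i * w) + 1 = ell A w) :
    ∃ b, Lift hA hg E (sw i * w) b ∧ ∃ c ∈ T hA hg E, a = nh hA hg E i * b * c := by
  induction h with
  | one => rw [mul_one, ell_S A (sw_mem hg i), ell_one] at hd; omega
  | @snoc w a j hw hj ih =>
    rcases ell_cases A (sw_mem hg i) w with hc | hc
    · have est : sw i * w = w * sw j :=
        exchange_eq (sw_mem hg i) (sw_mem hg j) hc hj hd
      obtain ⟨h0, hh0, e0⟩ := hw.proj hA hg E
      obtain ⟨g', eg⟩ := conj_range hA hg E (i := i) (j := j) (a := a)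
        (fun t => (conj_xy hA hg est hj hh0 e0 t).1) (fun t => (conj_xy hA hg est hj hh0 e0 t).2)
        wOne
      have hC : psi hA hg E i (wOne⁻¹ * g') ∈ C hA hg E i := by
        refine mem_C_of_proj hA hg E i ?_
        obtain ⟨a1, ha1, e1⟩ := proj_nh hA hg E i
        obtain ⟨a2, ha2, e2⟩ := proj_nh hA hg E j
        obtain ⟨b, hb, eb⟩ := A.n_mul w (sw j)
        obtain ⟨b', hb', eb'⟩ := A.n_mul (sw i) w
        rw [map_mul, map_mul, map_inv, map_inv, ← eg, map_mul, map_mul, map_inv,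
          show psi hA hg E j wOne = nh hA hg E j from rfl,
          show psi hA hg E i wOne = nh hA hg E i from rfl, e0, e1, e2]
        have e3 : A.n w * A.n (sw j) = b * b'⁻¹ * (A.n (sw i) * A.n w) := by
          rw [eb, eb', est]; group
        rw [show (a1 * A.n (sw i))⁻¹ * (h0 * A.n w * (a2 * A.n (sw j)) * (h0 * A.n w)⁻¹) =
          (A.n (sw i))⁻¹ * (a1⁻¹ * h0 * (A.n w * a2 * (A.n w)⁻¹)) * (A.n w * A.n (sw j)) *
            (A.n w)⁻¹ * h0⁻¹ by group, e3,
          show (A.n (sw i))⁻¹ * (a1⁻¹ * h0 * (A.n w * a2 * (A.n w)⁻¹)) *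
              (b * b'⁻¹ * (A.n (sw i) * A.n w)) * (A.n w)⁻¹ * h0⁻¹ =
            ((A.n (sw i))⁻¹ * (a1⁻¹ * h0 * (A.n w * a2 * (A.n w)⁻¹) * (b * b'⁻¹)) * A.n (sw i)) *
              h0⁻¹ by group]
        exact mul_mem (A.n_conj_H' _ (mul_mem (mul_mem (mul_mem (inv_mem ha1) hh0)
          (A.n_conj_H _ _ ha2)) (mul_mem hb (inv_mem hb')))) (inv_mem hh0)
      refine ⟨a, ?_, a⁻¹ * psi hA hg E i (wOne⁻¹ * g') * a,
        (hw.conj_T hA hg E (le_iSup (C hA hg E) i hC)).2, ?_⟩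
      · rwa [← est, ← mul_assoc, A.sq_S _ (sw_mem hg i), one_mul]
      · rw [map_mul, ← eg, map_inv, nh, nh]
        group
    · obtain ⟨b, hb, c, hcT, e⟩ := ih hc
      rw [← mul_assoc] at hd ⊢
      refine ⟨b * nh hA hg E j, Lift.snoc j hb (by omega),
        (nh hA hg E j)⁻¹ * c * nh hA hg E j, nh_conj_T' hA hg E j hcT, ?_⟩
      rw [e]
      group

theorem Lift.eq_one {a : X} {w : W} (h : Lift hA hg E w a) (hw : w = 1) : a = 1 := by
  induction h with
  | one => rfl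
  | @snoc w a i _ hl _ => rw [hw, ell_one] at hl; omega

theorem Lift.congr : ∀ {w : W} {a b : X}, Lift hA hg E w a → Lift hA hg E w b →
    a⁻¹ * b ∈ T hA hg E := by
  intro w
  induction hn : ell A w using Nat.strong_induction_on generalizing w with
  | _ n ih =>
  subst hn
  intro a b ha hb
  by_cases hw : w = 1
  · rw [ha.eq_one hA hg E hw, hb.eq_one hA hg E hw, inv_one, one_mul]
    exact one_mem _
  obtain ⟨s, hs, e⟩ := exists_left_descent A hw
  obtain ⟨i, rfl⟩ : s ∈ Set.range sw := hg.S_eq ▸ hs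
  obtain ⟨a', ha', c, hc, rfl⟩ := ha.split hA hg E i e
  obtain ⟨b', hb', d, hd, rfl⟩ := hb.split hA hg E i e
  have h1 := ih (ell A (sw i * w)) (by omega) rfl ha' hb'
  rw [show (nh hA hg E i * a' * c)⁻¹ * (nh hA hg E i * b' * d) = c⁻¹ * (a'⁻¹ * b') * d by group]
  exact mul_mem (mul_mem (inv_mem hc) h1) hd

/-- The Bruhat set of lifts. -/
def R : Set X :=
  {g | ∃ u ∈ A.U, ∃ w a, Lift hA hg E w a ∧ ∃ c ∈ T hA hg E, ∃ v ∈ A.U,
    g = E.can u * a * c * E.can v}

theorem can_mul_U {u v : G} (hu : u ∈ A.U) (hv : v ∈ A.U) :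
    E.can (u * v) = E.can u * E.can v := E.can_mul hA.pU hu hv

theorem up_mul_R (i : ι) (t : k i) {g : X} (h : g ∈ R hA hg E) :
    psi hA hg E i (upMat t) * g ∈ R hA hg E := by
  obtain ⟨u, hu, w, a, ha, c, hc, v, hv, rfl⟩ := h
  refine ⟨x i t * u, mul_mem (x_mem_U hg i t) hu, w, a, ha, c, hc, v, hv, ?_⟩
  rw [can_mul_U hA hg E (x_mem_U hg i t) hu, psi_up]
  group

theorem psi_mul_lift (i : ι) {w : W} {a : X} (ha : Lift hA hg E w a)
    (hl : ell A (sw i * w) = ell A w + 1) (g : Matrix.SpecialLinearGroup (Fin 2) (k i))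
    {c : X} (hc : c ∈ T hA hg E) {v : G} (hv : v ∈ A.U) :
    psi hA hg E i g * a * c * E.can v ∈ R hA hg E := by
  rcases sl2_cases g with ⟨u, b, rfl⟩ | ⟨u, b, z, rfl⟩
  · refine ⟨x i u, x_mem_U hg i u, w, a, ha, (a⁻¹ * psi hA hg E i (dg b) * a) * c,
      mul_mem (ha.conj_T hA hg E (dg_mem_T hA hg E i b)).2 hc, v, hv, ?_⟩
    rw [map_mul, psi_up]
    group
  · obtain ⟨h, hh, e⟩ := ha.proj hA hg E
    have hxw : (E.proj a)⁻¹ * x i z * E.proj a ∈ A.U := by
      have h1 : x i z ∈ rad A w⁻¹ := hA.Uw_le_rad (sw_mem hg i) (s := sw i) (by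
        rw [ell_inv, ← ell_inv A (w⁻¹ * sw i), mul_inv_rev, inv_inv, A.S_inv (sw_mem hg i), hl])
        (x_mem_Uw hg i z)
      obtain ⟨l, hl', el⟩ := A.n_inv w
      obtain ⟨t', et⟩ := H_conj_x hA hg i (inv_mem hh) z
      rw [inv_inv] at et
      rw [e, show (h * A.n w)⁻¹ * x i z * (h * A.n w) =
        (A.n w)⁻¹ * (h⁻¹ * x i z * h) * A.n w by group, et]
      have h2 : x i t' ∈ rad A w⁻¹ := hA.Uw_le_rad (sw_mem hg i) (s := sw i) (by
        rw [ell_inv, ← ell_inv A (w⁻¹ * sw i), mul_inv_rev, inv_inv, A.S_inv (sw_mem hg i), hl])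
        (x_mem_Uw hg i t')
      rw [el, show l * A.n w⁻¹ * x i t' * A.n w = l * (A.n w⁻¹ * x i t' * (A.n w⁻¹)⁻¹) * l⁻¹ by
        rw [show A.n w = (l * A.n w⁻¹)⁻¹ by rw [← el, inv_inv]]; group]
      exact A.H_conj_U l hl' _ h2.2
    set v' := (E.proj a)⁻¹ * x i z * E.proj a with hv'
    have hav : psi hA hg E i (upMat z) * a = a * E.can v' := by
      rw [psi_up, hv', show (E.proj a)⁻¹ * x i z * E.proj a =
        E.proj a⁻¹ * x i z * (E.proj a⁻¹)⁻¹ by rw [map_inv, inv_inv],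
        ← E.can_conj (isP_x hA hg i z) rfl]
      group
    set cb := (nh hA hg E i * a)⁻¹ * psi hA hg E i (dg b) * (nh hA hg E i * a) with hcb
    have hcbT : cb ∈ T hA hg E := ((ha.cons hA hg E i hl).conj_T hA hg E (dg_mem_T hA hg E i b)).2
    refine ⟨x i u, x_mem_U hg i u, _, _, ha.cons hA hg E i hl, cb * c, mul_mem hcbT hc,
      E.proj c⁻¹ * v' * (E.proj c⁻¹)⁻¹ * v,
      mul_mem (A.H_conj_U _ (by rw [map_inv]; exact inv_mem (proj_T hA hg E hc)) _ hxw) hv, ?_⟩
    rw [can_mul_U hA hg E (A.H_conj_U _ (by rw [map_inv]; exact inv_mem (proj_T hA hg E hc)) _ hxw)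
      hv, ← E.can_conj (hA.isP_U hxw) rfl, map_mul, map_mul, map_mul, hcb]
    simp only [psi_up] at hav ⊢
    rw [show psi hA hg E i wOne = nh hA hg E i from rfl]
    calc E.can (x i u) * psi hA hg E i (dg b) * nh hA hg E i * E.can (x i z) * a * c * E.can v
        = E.can (x i u) * psi hA hg E i (dg b) * nh hA hg E i * (E.can (x i z) * a) * c *
          E.can v := by group
      _ = _ := by rw [hav]; group

theorem nh_mul_R (i : ι) {g : X} (h : g ∈ R hA hg E) : nh hA hg E i * g ∈ R hA hg E := by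
  obtain ⟨u, hu, w, a, ha, c, hc, v, hv, rfl⟩ := h
  obtain ⟨r, hr, z, hz, rfl⟩ := hA.exists_rad_mul (sw i) hu
  obtain ⟨t, rfl⟩ := (hg.mem i z).1 hz
  obtain ⟨h0, hh0, e0⟩ := proj_nh hA hg E i
  have hr' : E.proj (nh hA hg E i) * r * (E.proj (nh hA hg E i))⁻¹ ∈ A.U := by
    rw [e0, show h0 * A.n (sw i) * r * (h0 * A.n (sw i))⁻¹ =
      h0 * (A.n (sw i) * r * (A.n (sw i))⁻¹) * h0⁻¹ by group]
    exact A.H_conj_U _ hh0 _ hr.2
  have hmain : nh hA hg E i * (E.can (r * x i t) * a * c * E.can v) =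
      E.can (E.proj (nh hA hg E i) * r * (E.proj (nh hA hg E i))⁻¹) *
        (psi hA hg E i (wOne * upMat t) * a * c * E.can v) := by
    rw [can_mul_U hA hg E hr.1 (x_mem_U hg i t), ← E.can_conj (hA.isP_U hr.1) rfl, map_mul,
      psi_up, nh]
    group
  have hgen : psi hA hg E i (wOne * upMat t) * a * c * E.can v ∈ R hA hg E := by
    rcases ell_cases A (sw_mem hg i) w with hl | hl
    · exact psi_mul_lift hA hg E i ha hl _ hc hv
    · obtain ⟨b, hb, d, hd, rfl⟩ := ha.split hA hg E i hl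
      have := psi_mul_lift hA hg E i hb (w := sw i * w) (by
        rw [← mul_assoc, A.sq_S _ (sw_mem hg i), one_mul]; omega)
        (wOne * upMat t * wOne) (mul_mem hd hc) hv
      rw [map_mul _ (wOne * upMat t) wOne] at this
      simpa only [nh, mul_assoc] using this
  rw [hmain]
  obtain ⟨u', hu', w', a', ha', c', hc', v', hv', e'⟩ := hgen
  refine ⟨_ * u', mul_mem hr' hu', w', a', ha', c', hc', v', hv', ?_⟩
  rw [e', can_mul_U hA hg E hr' hu']
  group

theorem one_mem_R : (1 : X) ∈ R hA hg E :=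
  ⟨1, one_mem _, 1, 1, Lift.one, 1, one_mem _, 1, one_mem _, by rw [E.can_one]; group⟩

theorem psi_mul_R (i : ι) (g : Matrix.SpecialLinearGroup (Fin 2) (k i)) {z : X}
    (hz : z ∈ R hA hg E) : psi hA hg E i g * z ∈ R hA hg E := by
  induction g using sl2_induction generalizing z with
  | h1 => rwa [map_one, one_mul]
  | hup t g ih =>
    rw [map_mul, mul_assoc]
    exact up_mul_R hA hg E i t (ih hz)
  | hlow t g ih =>
    have e : (lowMat t : Matrix.SpecialLinearGroup (Fin 2) (k i)) =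
        wOne * upMat (-t) * (wOne * (wOne * wOne)) := by
      have h4 : (wOne : Matrix.SpecialLinearGroup (Fin 2) (k i)) * (wOne * (wOne * wOne)) = 1 := by
        rw [← mul_assoc, wOne_mul_wOne, ← map_mul, neg_one_mul, neg_neg, map_one]
      rw [← inv_eq_of_mul_eq_one_right h4, wOne_conj_upMat, neg_neg]
    rw [e]
    simp only [map_mul, mul_assoc]
    exact nh_mul_R hA hg E i (up_mul_R hA hg E i _
      (nh_mul_R hA hg E i (nh_mul_R hA hg E i (nh_mul_R hA hg E i (ih hz)))))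

theorem range_eq_top (hker : E.proj.ker ≤ commutator X) :
    (⨆ i, (psi hA hg E i).range) = ⊤ := by
  set M := ⨆ i, (psi hA hg E i).range
  have hs : ∀ z : X, ∃ m ∈ M, ∃ c, E.proj c = 1 ∧ z = m * c := by
    intro z
    have hle : (⊤ : Subgroup G) ≤ M.map E.proj := by
      rw [← hg.gen, Subgroup.closure_le]
      rintro g hg'
      obtain ⟨i, hi⟩ := Set.mem_iUnion.1 hg'
      rcases hi with ⟨t, rfl⟩ | ⟨t, rfl⟩
      · exact ⟨_, le_iSup (fun i => (psi hA hg E i).range) i ⟨upMat t, rfl⟩,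
          proj_psi_up hA hg E i t⟩
      · exact ⟨_, le_iSup (fun i => (psi hA hg E i).range) i ⟨lowMat t, rfl⟩,
          proj_psi_low hA hg E i t⟩
    obtain ⟨m, hm, e⟩ := hle (Subgroup.mem_top (E.proj z))
    exact ⟨m, hm, m⁻¹ * z, by rw [map_mul, map_inv, e, inv_mul_cancel],
      (mul_inv_cancel_left _ _).symm⟩
  have hcomm : commutator X ≤ M := by
    rw [_root_.commutator_def, Subgroup.commutator_le]
    intro a _ b _
    obtain ⟨m, hm, c, hc, rfl⟩ := hs a
    obtain ⟨m', hm', c', hc', rfl⟩ := hs b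
    rw [E.cm_eq (a := m * c) (b := m' * c') rfl rfl, ← E.cm_eq (a := m) (b := m')
      (by rw [map_mul, hc, mul_one]) (by rw [map_mul, hc', mul_one])]
    exact mul_mem (mul_mem (mul_mem hm hm') (inv_mem hm)) (inv_mem hm')
  refine eq_top_iff.2 fun z _ => ?_
  obtain ⟨m, hm, c, hc, rfl⟩ := hs z
  exact mul_mem hm (hcomm (hker hc))

theorem mem_R (hker : E.proj.ker ≤ commutator X) (z : X) : z ∈ R hA hg E := by
  have hz : z ∈ ⨆ i, (psi hA hg E i).range := range_eq_top hA hg E hker ▸ Subgroup.mem_top z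
  have key : ∀ z' ∈ R hA hg E, z * z' ∈ R hA hg E := by
    refine Subgroup.iSup_induction (fun i => (psi hA hg E i).range)
      (C := fun z => ∀ z' ∈ R hA hg E, z * z' ∈ R hA hg E) hz ?_ ?_ ?_
    · rintro i _ ⟨g, rfl⟩ z' hz'
      exact psi_mul_R hA hg E i g hz'
    · intro z' hz'; rwa [one_mul]
    · intro a b iha ihb z' hz'
      rw [mul_assoc]
      exact iha _ (ihb _ hz')
  simpa using key 1 (one_mem_R hA hg E)

theorem proj_R {z : X} (hz : z ∈ R hA hg E) (hH : E.proj z ∈ A.H) :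
    z ∈ T hA hg E := by
  obtain ⟨u, hu, w, a, ha, c, hc, v, hv, e⟩ := hz
  obtain ⟨h, hh, eh⟩ := ha.proj hA hg E
  have hcH := proj_T hA hg E hc
  have e1 : E.proj z = u * (h * A.n w) * E.proj c * v := by
    rw [e, map_mul, map_mul, map_mul, E.proj_can (hA.isP_U hu), E.proj_can (hA.isP_U hv), eh]
  have hw : w = 1 := by
    refine cell_inj A (g := E.proj z) ?_ ?_
    · rw [e1, show u * (h * A.n w) * E.proj c * v = u * h * A.n w * (E.proj c * v) by group]
      exact cell_right A (cell_left A ⟨u, hu, h, hh, rfl⟩ (n_mem_cell A w))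
        (mul_mem (A.H_le_B hcH) (A.U_le_B hv))
    · have := nf_mem_cell A (w := (1 : W)) (one_mem _) hH (one_mem A.U)
      rwa [A.n_one, one_mul, mul_one, mul_one] at this
  have ha1 : a = 1 := ha.eq_one hA hg E hw
  subst ha1
  rw [map_one, hw, A.n_one, mul_one] at eh
  subst eh
  rw [hw, A.n_one, mul_one, mul_one] at e1
  have h2 := A.unique (w := 1) (w' := 1) (one_mem _)
    (mul_mem hu (A.H_conj_U _ hcH _ hv)) hH hcH (one_mem (A.Uw 1)) (one_mem (A.Uw 1))
    (show 1 * E.proj z * A.n 1 * 1 = u * (E.proj c * v * (E.proj c)⁻¹) * E.proj c * A.n 1 * 1 by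
      rw [e1]; group)
  have hcv : c * E.can v = E.can (E.proj c * v * (E.proj c)⁻¹) * c := by
    rw [← E.can_conj (hA.isP_U hv) rfl]; group
  rw [e, mul_one, mul_assoc (E.can u) c, hcv,
    show E.proj c * v * (E.proj c)⁻¹ = u⁻¹ from eq_inv_of_mul_eq_one_right h2.2.1.symm,
    E.can_inv (hA.isP_U hu), mul_inv_cancel_left]
  exact hc

theorem ker_le (hker : E.proj.ker ≤ commutator X) : E.proj.ker ≤ T hA hg E := fun z hz =>
  proj_R hA hg E (mem_R hA hg E hker z) ((MonoidHom.mem_ker.1 hz).symm ▸ one_mem _)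

theorem map_T (hker : E.proj.ker ≤ commutator X) : (T hA hg E).map E.proj = A.H := by
  refine le_antisymm ?_ fun h hh => ?_
  · rintro _ ⟨c, hc, rfl⟩
    exact proj_T hA hg E hc
  exact ⟨E.lift h, proj_R hA hg E (mem_R hA hg E hker (E.lift h))
    (by rw [E.proj_lift]; exact hh), E.proj_lift h⟩

/-- The orders of the kernel and of `H` multiply into the orders of the rank one tori. -/
theorem card_ker_mul_dvd [Fintype ι] (hker : E.proj.ker ≤ commutator X) :
    Nat.card E.proj.ker * Nat.card A.H ∣ ∏ i, (Nat.card (k i) - 1) := by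
  have h1 : Nat.card (T hA hg E) = Nat.card E.proj.ker * Nat.card A.H := by
    have h2 := Subgroup.card_mul_index (E.proj.ker.subgroupOf (T hA hg E))
    rw [Nat.card_congr (Subgroup.subgroupOfEquivOfLe (ker_le hA hg E hker)).toEquiv] at h2
    rw [← h2, ← map_T hA hg E hker]
    congr 1
    rw [show (T hA hg E).map E.proj = (E.proj.comp (T hA hg E).subtype).range by
      rw [MonoidHom.range_comp, Subgroup.range_subtype], ← Subgroup.index_ker]
    rfl
  rw [← h1]
  have hsup : T hA hg E = Finset.univ.sup (C hA hg E) := by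
    rw [Finset.sup_univ_eq_iSup]; rfl
  rw [hsup]
  refine (card_finset_sup_dvd _ (C_le_normalizer hA hg E) _).trans
    (Finset.prod_dvd_prod_of_dvd _ _ fun i _ => ?_)
  refine (Subgroup.card_range_dvd ((psi hA hg E i).comp dg)).trans ?_
  rw [Nat.card_units]

end Bruhat

end Cfsg.Agent.H74.RootExt
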