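import Cfsg.Agent.H74.RootExt.TwData
import Cfsg.Agent.H56.TwAut.D4

/-!
`³D₄(q)`, `q ≥ 3`: the unipotent radical is killed in extensions by a kernel of prime order.
-/

set_option autoImplicit false
set_option maxRecDepth 100000

namespace Cfsg.Agent.H74.RootExt.D4

open Cfsg.Lie Cfsg.Agent.H37 Cfsg.Agent.H37.RootSys Cfsg.Agent.H37.Twist Cfsg.Agent.H37.Twist.D4
open Cfsg.Agent.H74.RootExt.Tw

/-- The orbits of positive roots by height. -/
def O : Fin 6 → List ℕ := ![[12, 13, 18], [14], [15, 16, 19], [17, 20, 21], [22], [23]]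

/-- Their heights. -/
def hts : Fin 6 → ℤ := ![1, 1, 2, 3, 4, 5]

/-- Exponents that separate the orbits. -/
def Ws : List (Fin 4 → Fin 3 → ℤ) :=
  [![![-1, 0, 1], ![0, 0, 0], ![1, -1, 0], ![0, 1, -1]],
   ![![-1, 0, 0], ![0, 0, 0], ![0, -1, 0], ![0, 0, -1]],
   ![![0, 0, 0], ![1, 1, 1], ![0, 0, 0], ![0, 0, 0]],
   ![![-1, 0, 0], ![-1, -1, -1], ![0, -1, 0], ![0, 0, -1]],
   ![![-1, -1, -1], ![-1, -1, -1], ![-1, -1, -1], ![-1, -1, -1]]]

theorem check1 : ∀ i : Fin 6, (decide ((O i).Pairwise (· < ·)) && commB chevD4 (O i) &&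
    (O i).all fun r => decide (r < chevD4.nroots ∧ chevD4.nroots / 2 ≤ r) &&
      (O i).contains (tables.rh r)) = true := by
  decide +kernel

theorem check2 : ((List.range chevD4.nroots).all fun r => decide (r < chevD4.nroots / 2) ||
    (List.finRange 6).any fun i => (O i).contains r) = true := by
  decide +kernel

theorem check3 : ∀ i j : Fin 6, i < j → ((O i).all fun r => !(O j).contains r) = true := by
  decide +kernel

theorem check4 : ∀ i : Fin 6, ((O i).all fun r =>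
    ((List.range chevD4.rank).map (Chevalley.D4.cert.cf r)).sum == hts i) = true := by
  decide +kernel

theorem check5 : ∀ i : Fin 6, ((O i).all fun r => (O i).all fun s => (r == s) ||
    (List.range chevD4.nroots).all fun k => decide (k < chevD4.nroots / 2) ||
      (List.finRange 12).all fun a => (List.finRange 12).all fun b =>
        (a.val == 0) || (b.val == 0) || (List.finRange chevD4.rank).any fun m =>
          decide (Chevalley.D4.cert.cf k m.val ≠
            ((a.val : ℕ) : ℤ) * Chevalley.D4.cert.cf r m.val +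
              ((b.val : ℕ) : ℤ) * Chevalley.D4.cert.cf s m.val)) = true := by
  decide +kernel

theorem orbits (K : Type*) [Field K] : Orbits (QD K) tables.rh O := by
  refine Orbits.of_check (fun i => ?_) (fun r hr => ?_) (fun i j hij r hr => ?_)
    ⟨hts, fun i => ⟨(show ∀ i : Fin 6, 0 < hts i ∧ hts i < 12 by decide) i, fun r hr => ?_⟩,
      fun i j h => (show ∀ i j : Fin 6, i < j → hts i ≤ hts j by decide) i j h⟩ ?_
  · have h := check1 i
    simp only [Bool.and_eq_true, decide_eq_true_eq, List.all_eq_true, List.contains_iff_mem] at h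
    exact ⟨h.1.1, h.1.2, fun r hr => ⟨(h.2 r hr).1.1, (h.2 r hr).1.2, (h.2 r hr).2⟩⟩
  · have h := check2
    simp only [List.all_eq_true, List.mem_range, Bool.or_eq_true, decide_eq_true_eq,
      List.any_eq_true, List.contains_iff_mem] at h
    rcases h r.val r.isLt with h' | ⟨i, -, hi⟩
    · omega
    · exact ⟨i, hi⟩
  · have h := check3 i j hij
    simp only [List.all_eq_true, Bool.not_eq_true'] at h
    intro hj
    have := h r hr
    rw [List.contains_iff_mem.2 hj] at this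
    exact Bool.noConfusion this
  · have h := check4 i
    simp only [List.all_eq_true, beq_iff_eq] at h
    exact h r hr
  · intro i r hr s hs hne k hk a b ha hb
    have h := check5 i
    simp only [List.all_eq_true, Bool.or_eq_true, beq_iff_eq, List.mem_range, decide_eq_true_eq,
      List.any_eq_true] at h
    rcases h r hr s hs with h' | h'
    · exact absurd h' hne
    rcases h' k.val k.isLt with h' | h'
    · omega
    rcases h' a (List.mem_finRange a) b (List.mem_finRange b) with (h' | h') | ⟨m, -, hm⟩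
    · omega
    · omega
    · exact ⟨m, hm⟩

theorem p_table : ∀ i : Fin 4, tables.p i.val = ((![2, 1, 3, 0] : Fin 4 → Fin 4) i).val := by
  decide +kernel

variable {K : Type*} [Field K]

theorem fixW_of (φ : K →+* K) {W : Fin 4 → Fin 3 → ℤ}
    (h : ∀ i : Fin 4, W ((![2, 1, 3, 0] : Fin 4 → Fin 4) i) = rot (W i)) :
    FixW (D := chevD4) (endo φ) W := by
  intro i j hij
  have e : (endo φ).s.T.p i.val = ((![2, 1, 3, 0] : Fin 4 → Fin 4) i).val := p_table i
  have : j = ((![2, 1, 3, 0] : Fin 4 → Fin 4) i) := Fin.ext (hij.symm.trans e)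
  rw [this]
  exact h i

theorem ws_fix : ∀ W ∈ Ws, ∀ i : Fin 4, W ((![2, 1, 3, 0] : Fin 4 → Fin 4) i) = rot (W i) := by
  decide +kernel

theorem ws_moves : ∀ i : Fin 6,
    (Ws.any fun W => (O i).all fun r => decide (SmallVec (expo (D := chevD4) W r))) = true := by
  decide +kernel

theorem ws_sep : ∀ i j : Fin 6, i < j →
    (Ws.any fun W => ((O i).all fun r => decide (expo (D := chevD4) W r = 0)) &&
        ((O j).all fun s => decide (SmallVec (expo (D := chevD4) W s))) ||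
      ((O j).all fun s => decide (expo (D := chevD4) W s = 0)) &&
        ((O i).all fun r => decide (SmallVec (expo (D := chevD4) W r)))) = true := by
  decide +kernel

theorem witness (φ : K →+* K) : Witness (d := 3) (endo φ) O Ws := by
  refine ⟨fun W hW => fixW_of φ (ws_fix W hW), fun i => ?_, fun i j hij => ?_⟩
  · have h := ws_moves i
    simp only [List.any_eq_true, List.all_eq_true, decide_eq_true_eq] at h
    exact h
  · have h := ws_sep i j hij
    simp only [List.any_eq_true, List.all_eq_true, decide_eq_true_eq, Bool.or_eq_true,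
      Bool.and_eq_true] at h
    exact h

theorem long_tables :
    longB chevD4 tables.rh Sym.dataD4a.sg 14 23 1 1 = true ∧
    longB chevD4 tables.rh Sym.dataD4a.sg 22 9 23 1 = true ∧
    longB chevD4 tables.rh Sym.dataD4a.sg 23 14 22 1 = true := by
  decide +kernel

theorem cycle_tables :
    (∀ s ∈ O 0, ∃ k : Fin 3, tables.rh^[k.val] 12 = s) ∧
    (∀ s ∈ O 2, ∃ k : Fin 3, tables.rh^[k.val] 15 = s) ∧
    (∀ s ∈ O 3, ∃ k : Fin 3, tables.rh^[k.val] 17 = s) := by
  decide +kernel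

theorem real_tables :
    ((∀ i : Fin 4, (![![0, 1, 0], ![0, 0, 0], ![0, 0, 1], ![1, 0, 0]] : Fin 4 → Fin 3 → ℤ)
        ((![2, 1, 3, 0] : Fin 4 → Fin 4) i) =
          rot ((![![0, 1, 0], ![0, 0, 0], ![0, 0, 1], ![1, 0, 0]] : Fin 4 → Fin 3 → ℤ) i)) ∧
      expo (D := chevD4) (![![0, 1, 0], ![0, 0, 0], ![0, 0, 1], ![1, 0, 0]] : Fin 4 → Fin 3 → ℤ)
        12 = fun k => 2 * unit0 k) ∧
    ((∀ i : Fin 4, (![![-1, 0, -1], ![0, 0, 0], ![-1, -1, 0], ![0, -1, -1]] : Fin 4 → Fin 3 → ℤ)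
        ((![2, 1, 3, 0] : Fin 4 → Fin 4) i) =
          rot ((![![-1, 0, -1], ![0, 0, 0], ![-1, -1, 0], ![0, -1, -1]] : Fin 4 → Fin 3 → ℤ) i)) ∧
      expo (D := chevD4)
        (![![-1, 0, -1], ![0, 0, 0], ![-1, -1, 0], ![0, -1, -1]] : Fin 4 → Fin 3 → ℤ) 15 =
          fun k => 2 * unit0 k) ∧
    ((∀ i : Fin 4, (![![0, 1, 1], ![0, 0, 0], ![1, 0, 1], ![1, 1, 0]] : Fin 4 → Fin 3 → ℤ)
        ((![2, 1, 3, 0] : Fin 4 → Fin 4) i) =
          rot ((![![0, 1, 1], ![0, 0, 0], ![1, 0, 1], ![1, 1, 0]] : Fin 4 → Fin 3 → ℤ) i)) ∧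
      expo (D := chevD4) (![![0, 1, 1], ![0, 0, 0], ![1, 0, 1], ![1, 1, 0]] : Fin 4 → Fin 3 → ℤ)
        17 = fun k => 2 * unit0 k) := by
  decide +kernel

theorem odd_tables :
    ((∀ i : Fin 4, (![![0, 0, 0], ![1, 1, 1], ![0, 0, 0], ![0, 0, 0]] : Fin 4 → Fin 3 → ℤ)
        ((![2, 1, 3, 0] : Fin 4 → Fin 4) i) =
          rot ((![![0, 0, 0], ![1, 1, 1], ![0, 0, 0], ![0, 0, 0]] : Fin 4 → Fin 3 → ℤ) i)) ∧
      ∀ k : Fin 3, expo (D := chevD4)
        (![![0, 0, 0], ![1, 1, 1], ![0, 0, 0], ![0, 0, 0]] : Fin 4 → Fin 3 → ℤ) 12 k % 2 = 1) ∧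
    ((∀ i : Fin 4, (![![-1, 0, 0], ![0, 0, 0], ![0, -1, 0], ![0, 0, -1]] : Fin 4 → Fin 3 → ℤ)
        ((![2, 1, 3, 0] : Fin 4 → Fin 4) i) =
          rot ((![![-1, 0, 0], ![0, 0, 0], ![0, -1, 0], ![0, 0, -1]] : Fin 4 → Fin 3 → ℤ) i)) ∧
      ∀ r ∈ [15, 17], ∀ k : Fin 3, expo (D := chevD4)
        (![![-1, 0, 0], ![0, 0, 0], ![0, -1, 0], ![0, 0, -1]] : Fin 4 → Fin 3 → ℤ) r k % 2 = 1) := by
  decide +kernel

variable [Fintype K] {φ : K →+* K} {q : ℕ} (hφ : ∀ t, φ t = t ^ q) (hK : Fintype.card K = q ^ 3)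
include hφ hK

theorem realised (i : Fin 6) (hi : i = 0 ∨ i = 2 ∨ i = 3) :
    ∃ r, Realised (E := endo φ) (O := O) q i r := by
  obtain ⟨c0, c2, c3⟩ := cycle_tables
  obtain ⟨⟨a0, a0'⟩, ⟨a2, a2'⟩, a3, a3'⟩ := real_tables
  obtain ⟨⟨b0, b0'⟩, b2, b2'⟩ := odd_tables
  have hd : Odd 3 := ⟨1, rfl⟩
  have ho : ∀ {x : ℤ}, x % 2 = 1 → Odd x := fun h => Int.odd_iff.2 h
  rcases hi with rfl | rfl | rfl
  · refine ⟨12, fun s hs => (c0 s hs).elim fun k e => ⟨k.val, e⟩, by decide, ?_⟩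
    exact realised_of_odd hK (fixW_of φ a0) (fixW_of φ b0) hd a0' fun k => ho (b0' k)
  · refine ⟨15, fun s hs => (c2 s hs).elim fun k e => ⟨k.val, e⟩, by decide, ?_⟩
    exact realised_of_odd hK (fixW_of φ a2) (fixW_of φ b2) hd a2' fun k => ho (b2' 15 (by simp) k)
  · refine ⟨17, fun s hs => (c3 s hs).elim fun k e => ⟨k.val, e⟩, by decide, ?_⟩
    exact realised_of_odd hK (fixW_of φ a3) (fixW_of φ b2) hd a3' fun k => ho (b2' 17 (by simp) k)

theorem killed (hq : 3 ≤ q) {p : ℕ} {X : Type*} [Group X]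
    (L : Linear.Mult.LExt p X ↥(model hφ hK).T) : L.Killed (model hφ hK).tw.U := by
  have hns := noSign (φ := φ) hφ
  have hneg : (-1 : K) ^ q = -1 := by rw [← hφ, map_neg, map_one]
  have hfq : ∀ r, r < chevD4.nroots → ∀ t, (endo φ).f r t = (Sym.dataD4a.sg r : K) * t ^ q :=
    fun r _ t => (graphEndo_f r t).trans (by rw [hφ])
  have hf : ∀ r, r < chevD4.nroots →
      (endo φ).f r 1 ≠ 0 ∧ ∀ t, (endo φ).f r t = (endo φ).f r 1 * t ^ q := by
    intro r hr
    refine ⟨((endo φ).f_inv r hr 1 one_ne_zero).1, fun t => ?_⟩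
    rw [hfq r hr t, hfq r hr 1, one_pow, mul_one]
  refine Tw.killed (model hφ hK) (orbits K) hK hq hns (witness φ) L fun i => ?_
  have hadd : ∀ t u : K, (t + u) ^ q = t ^ q + u ^ q := fun t u => by
    rw [← hφ, ← hφ, ← hφ, map_add]
  have h5 : 5 ≤ Fintype.card K := by
    rw [hK]
    calc 5 ≤ 3 ^ 3 := by norm_num
      _ ≤ q ^ 3 := Nat.pow_le_pow_left hq 3
  obtain ⟨l1, l4, l5⟩ := long_tables
  by_cases hi : i = 0 ∨ i = 2 ∨ i = 3
  · obtain ⟨r, hr⟩ := realised hφ hK i hi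
    exact self_realised (model hφ hK) (orbits K) hns hf hadd h5 hr L
  · obtain rfl | rfl | rfl : i = 1 ∨ i = 4 ∨ i = 5 := by omega
    · exact self_long (model hφ hK) (orbits K) (long_of rfl hfq hneg l1) L
    · exact self_long (model hφ hK) (orbits K) (long_of rfl hfq hneg l4) L
    · exact self_long (model hφ hK) (orbits K) (long_of rfl hfq hneg l5) L

end Cfsg.Agent.H74.RootExt.D4
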