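import Cfsg.Agent.Linear.Mult.Killed

/-!
The kernel of a finite stem extension has order prime to `p` when there is no stem extension with
kernel of order `p`.
-/

set_option autoImplicit false

namespace Cfsg.Agent.H74.RootExt

open Subgroup

universe u

theorem not_dvd_card_ker {p : ℕ} (hp : p.Prime) {G : Type u} [Group G]
    (h : Linear.Mult.NoStem p G) {Γ : Type u} [Group Γ] [Finite Γ] {σ : Γ →* G}
    (hσ : Cfsg.IsStemExtension σ) : ¬ p ∣ Nat.card σ.ker := by
  intro hdvd
  haveI := Fact.mk hp
  have hcomm : ∀ a b : σ.ker, a * b = b * a := fun a b =>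
    Subtype.ext (mem_center_iff.1 (hσ.2.1 b.2) a.1)
  let _ : CommGroup σ.ker := { (inferInstance : Group σ.ker) with mul_comm := hcomm }
  -- a maximal subgroup containing the `p`-th powers
  let P : Subgroup σ.ker := (powMonoidHom p : σ.ker →* σ.ker).range
  have hP : P ≠ ⊤ := by
    intro htop
    have hinj := Finite.injective_iff_surjective.2 (MonoidHom.range_eq_top.1 htop)
    obtain ⟨z, hz⟩ := exists_prime_orderOf_dvd_card' (G := σ.ker) p hdvd
    have h1 : (powMonoidHom p : σ.ker →* σ.ker) z = 1 := by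
      rw [powMonoidHom_apply, ← hz, pow_orderOf_eq_one]
    rw [hinj (h1.trans (map_one _).symm), orderOf_one] at hz
    exact hp.one_lt.ne hz
  obtain ⟨M, hM, hPM⟩ := (eq_top_or_exists_le_coatom P).resolve_left hP
  have hidx : M.index = p := by
    haveI : IsSimpleGroup (σ.ker ⧸ M) := by
      haveI : Nontrivial (σ.ker ⧸ M) := QuotientGroup.nontrivial_iff.2 hM.1
      refine ⟨fun H _ => ?_⟩
      have hs := QuotientGroup.mk'_surjective M
      have hMH : M ≤ H.comap (QuotientGroup.mk' M) := by
        conv_lhs => rw [← QuotientGroup.ker_mk' M]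
        exact ker_le_comap _ H
      rcases hM.le_iff.1 hMH with e | e
      · right
        rw [← comap_top (QuotientGroup.mk' M)] at e
        exact comap_injective hs e
      · left
        rw [← map_comap_eq_self_of_surjective hs H, e, QuotientGroup.map_mk'_self]
    have hpr : M.index.Prime := IsSimpleGroup.prime_card (α := σ.ker ⧸ M)
    haveI := Fact.mk hpr
    obtain ⟨y, hy⟩ := exists_prime_orderOf_dvd_card' (G := σ.ker ⧸ M) M.index dvd_rfl
    have hy1 : y ^ p = 1 := by
      obtain ⟨x, rfl⟩ := QuotientGroup.mk_surjective y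
      rw [← QuotientGroup.mk_pow, QuotientGroup.eq_one_iff]
      exact hPM ⟨x, rfl⟩
    exact (Nat.prime_dvd_prime_iff_eq hpr hp).1 (hy ▸ orderOf_dvd_of_pow_eq_one hy1)
  let N : Subgroup Γ := M.map σ.ker.subtype
  have hNker : N ≤ σ.ker := map_subtype_le M
  have hN : N.Normal :=
    ⟨fun z hz g => by rw [mem_center_iff.1 (hσ.2.1 (hNker hz)) g, mul_inv_cancel_right]; exact hz⟩
  let τ := QuotientGroup.lift N σ hNker
  have hτ : Cfsg.IsStemExtension τ := by
    refine ⟨fun g => ?_, ?_, ?_⟩
    · obtain ⟨x, hx⟩ := hσ.1 g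
      exact ⟨QuotientGroup.mk x, hx⟩
    · intro y hy
      obtain ⟨x, rfl⟩ := QuotientGroup.mk_surjective y
      rw [mem_center_iff]
      intro y'
      obtain ⟨x', rfl⟩ := QuotientGroup.mk_surjective y'
      exact congrArg (QuotientGroup.mk' N) (mem_center_iff.1 (hσ.2.1 hy) x')
    · intro y hy
      obtain ⟨x, rfl⟩ := QuotientGroup.mk_surjective y
      rw [_root_.commutator_def,
        ← map_top_of_surjective (QuotientGroup.mk' N) (QuotientGroup.mk'_surjective N),
        ← map_commutator, ← _root_.commutator_def]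
      exact mem_map_of_mem _ (hσ.2.2 hy)
  let θ : σ.ker →* τ.ker :=
    ((QuotientGroup.mk' N).comp σ.ker.subtype).codRestrict τ.ker fun z => z.2
  have hθ : Function.Surjective θ := fun y => by
    obtain ⟨x, hx⟩ := QuotientGroup.mk_surjective (y : Γ ⧸ N)
    exact ⟨⟨x, by have := y.2; rwa [← hx] at this⟩, Subtype.ext hx⟩
  have hθk : θ.ker = M := by
    ext z
    rw [MonoidHom.mem_ker, ← OneMemClass.coe_eq_one]
    show QuotientGroup.mk' N (z : Γ) = 1 ↔ _
    rw [← MonoidHom.mem_ker, QuotientGroup.ker_mk']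
    exact mem_map_iff_mem σ.ker.subtype_injective
  refine h (Γ ⧸ N) τ hτ ?_
  rw [← hidx, ← hθk, Subgroup.index_ker, MonoidHom.range_eq_top.2 hθ, Subgroup.card_top]

end Cfsg.Agent.H74.RootExt
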