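import Cfsg.Agent.H56.TwAut.Twisted
import Cfsg.Agent.H74.RootExt.BruhatBound
import Cfsg.Agent.H74.RootExt.StemQuot

/-!
Stem extensions of a twisted group: from a `p`-trivial multiplier to the bound by the orders of the
rank one tori.
-/

set_option autoImplicit false
set_option linter.unusedSectionVars false

namespace Cfsg.Agent.H74.RootExt.Tw

open Cfsg.Lie Cfsg.Agent.H37 Cfsg.Agent.H37.RootSys Cfsg.Agent.H37.Twist Cfsg.Agent.H56.ChevAut
open Cfsg.Agent.H56.TwAut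
open Cfsg.Agent.H54.Presentation

universe u

variable {D : ChevalleyDatum} {K : Type u} [Field K] [Fintype K] {S : Setup D K} {E : Endo S.Q}
  {W' : Type*} [Group W'] {Φ : Fold E W'} {Md : Model Φ} {q : ℕ} (P : Spec Md q)

theorem tx_zero (i : Fin Φ.k) : P.tx i 0 = 1 :=
  mul_eq_left.1 ((P.tx_add i 0 0).trans (by rw [add_zero]))

theorem ty_zero (i : Fin Φ.k) : P.ty i 0 = 1 :=
  mul_eq_left.1 ((P.ty_add i 0 0).trans (by rw [add_zero]))

theorem wEl_neg (i : Fin Φ.k) (t : P.k i) :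
    (wEl (P.tx i) (P.ty i) t)⁻¹ = wEl (P.tx i) (P.ty i) (-t) := by
  refine inv_eq_of_mul_eq_one_right ?_
  simp only [wEl, inv_neg, neg_neg]
  rw [show P.tx i t * P.ty i (-t⁻¹) * P.tx i t * (P.tx i (-t) * P.ty i t⁻¹ * P.tx i (-t)) =
    P.tx i t * (P.ty i (-t⁻¹) * (P.tx i t * P.tx i (-t)) * P.ty i t⁻¹) * P.tx i (-t) by group,
    P.tx_add, add_neg_cancel, tx_zero, mul_one, P.ty_add, neg_add_cancel, ty_zero, mul_one,
    P.tx_add, add_neg_cancel, tx_zero]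

theorem w_one_conj (i : Fin Φ.k) (u : P.k i) :
    wEl (P.tx i) (P.ty i) 1 * P.tx i u * (wEl (P.tx i) (P.ty i) 1)⁻¹ = P.ty i (-u) := by
  refine lift_injective Md ?_
  simp only [wEl]
  rw [H56.TwAut.lift_mul Md _ _⁻¹, H56.TwAut.lift_mul Md _ (P.tx i u), H56.TwAut.lift_inv Md,
    P.lift_nt, P.lift_tx, P.lift_ty]
  have h1 : pn S (P.O i) (P.par ((1 : P.k i) : K)) = pn S (P.O i) fun _ => 1 :=
    congrArg List.prod (List.map_congr_left fun a _ => by rw [OneMemClass.coe_one, P.par_one])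
  rw [h1, pn_conj S (P.orth i)]
  exact py_congr S fun a _ => by rw [Subfield.coe_neg, P.par_neg]

theorem sl2Rels (i : Fin Φ.k) : SL2Rels (P.tx i) (P.ty i) where
  x_add := P.tx_add i
  y_add := P.ty_add i
  w_conj t u ht := by
    obtain ⟨c', hc', htor⟩ := P.torus' i i t ht
    set g := wEl (P.tx i) (P.ty i) t * wEl (P.tx i) (P.ty i) (-1) with hg
    have hgH : g ∈ Md.tw.H := by
      obtain ⟨a, ha, ea⟩ := P.nt_mem i t ht
      obtain ⟨b, hb, eb⟩ := P.nt_mem i (-1) (neg_ne_zero.2 one_ne_zero)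
      obtain ⟨l, hl, el⟩ := Md.tw.n_mul (Φ.gens i) (Φ.gens i)
      rw [Φ.sq_gens, Md.tw.n_one, mul_one] at el
      rw [hg, wEl, wEl, ea, eb, show a * Md.tw.n (Φ.gens i) * (b * Md.tw.n (Φ.gens i)) =
        a * (Md.tw.n (Φ.gens i) * b * (Md.tw.n (Φ.gens i))⁻¹) *
          (Md.tw.n (Φ.gens i) * Md.tw.n (Φ.gens i)) by group]
      exact mul_mem (mul_mem ha (Md.tw.n_conj_H _ _ hb)) (el ▸ hl)
    obtain ⟨c, hc⟩ := P.H_conj g hgH i
    have hcc : (c : P.k i) = c' := by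
      have h1 := (hc 1).1
      have h2 := htor 1
      rw [mul_one] at h1 h2
      refine P.tx_inj i (h1.symm.trans (Eq.trans ?_ h2))
      simp only [hg, wEl, inv_neg, inv_one, neg_neg]
    have hct : (c : P.k i) = t ^ 2 := by
      rw [hcc]
      exact Subtype.ext (by rw [hc', P.chi_self]; rfl)
    have hw : wEl (P.tx i) (P.ty i) t = g * wEl (P.tx i) (P.ty i) 1 := by
      rw [hg, mul_assoc, ← wEl_neg P i 1, inv_mul_cancel, mul_one]
    rw [hw, show g * wEl (P.tx i) (P.ty i) 1 * P.tx i u * (g * wEl (P.tx i) (P.ty i) 1)⁻¹ =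
      g * (wEl (P.tx i) (P.ty i) 1 * P.tx i u * (wEl (P.tx i) (P.ty i) 1)⁻¹) * g⁻¹ by group,
      w_one_conj P i u, (hc (-u)).2]
    congr 1
    rw [Units.val_inv_eq_inv_val, hct, inv_pow, mul_neg]

theorem gens : Gens Md.tw Φ.gens P.tx P.ty where
  S_eq := rfl
  rels := sl2Rels P
  inj := P.tx_inj
  mem i v := ⟨fun hv => (P.mem_tw_Uw i v hv).imp fun _ e => e.symm,
    fun ⟨t, e⟩ => e ▸ P.tx_mem_Uw i t⟩
  w_mem i t ht := P.nt_mem i t ht
  gen := by
    set L := Subgroup.closure (⋃ i, Set.range (P.tx i) ∪ Set.range (P.ty i))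
    refine eq_top_iff.2 fun g _ => ?_
    have hle : Md.T ≤ L.map Md.T.subtype := P.gen _
      (fun i t ht => ⟨P.tx i ⟨t, ht⟩, Subgroup.subset_closure
        (Set.mem_iUnion.2 ⟨i, Or.inl ⟨_, rfl⟩⟩), rfl⟩)
      (fun i t ht => ⟨P.ty i ⟨t, ht⟩, Subgroup.subset_closure
        (Set.mem_iUnion.2 ⟨i, Or.inr ⟨_, rfl⟩⟩), rfl⟩)
    obtain ⟨z, hz, e⟩ := hle g.2
    rwa [← Subtype.ext (a1 := z) (a2 := g) e]

include P in
theorem not_dvd_card_H : ¬ ringChar K ∣ Nat.card Md.tw.H := by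
  haveI := S.Q.X.good.finite
  haveI : Finite W' := Finite.of_injective Φ.ι Φ.ι_inj
  haveI := Fintype.ofFinite W'
  intro h
  refine index_U Md (h.trans ⟨∑ w, Nat.card (Md.tw.Uw w), ?_⟩)
  have h1 := Md.tw.U.card_mul_index
  rw [Md.tw.toNormalForm.card_eq, mul_assoc] at h1
  exact mul_left_cancel₀ Nat.card_pos.ne' h1

include P in
theorem sbase : SBase Md.tw (ringChar K) Md.w0 where
  hp := by
    haveI := ringChar.charP K
    exact CharP.char_is_prime K _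
  full := Md.tw_Uw_w0
  pU := isPGroup_U Md
  pH := not_dvd_card_H P
  opp s hs d hd := by
    obtain ⟨i, rfl⟩ := hs
    obtain ⟨t, rfl⟩ := P.mem_tw_Uw i d hd
    obtain ⟨t', et'⟩ := P.n_conj i t
    obtain ⟨t'', et''⟩ := P.w0_conj i t'
    obtain ⟨l, hl, el⟩ := Md.tw.n_mul Md.w0 (Φ.gens i)
    refine (H13.Split.mem_rad Md.tw).2 ⟨Md.tw.Uw_le _ hd, ?_⟩
    rw [show Md.tw.n (Md.w0 * Φ.gens i) = l⁻¹ * (Md.tw.n Md.w0 * Md.tw.n (Φ.gens i)) by
      rw [el]; group,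
      show l⁻¹ * (Md.tw.n Md.w0 * Md.tw.n (Φ.gens i)) * P.tx i t *
        (l⁻¹ * (Md.tw.n Md.w0 * Md.tw.n (Φ.gens i)))⁻¹ = l⁻¹ * (Md.tw.n Md.w0 *
          (Md.tw.n (Φ.gens i) * P.tx i t * (Md.tw.n (Φ.gens i))⁻¹) * (Md.tw.n Md.w0)⁻¹) * l⁻¹⁻¹
        by group, et', et'']
    exact Md.tw.H_conj_U _ (inv_mem hl) _ (Md.tw.Uw_le _ (P.tx_mem_Uw i t''))

include P in
/-- The kernel of a stem extension is bounded by the orders of the tori. -/
theorem card_ker_mul_dvd (hp : Linear.Mult.NoStem (ringChar K) ↥Md.T) {Γ : Type u} [Group Γ]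
    [Finite Γ] {σ : Γ →* ↥Md.T} (hσ : Cfsg.IsStemExtension σ) :
    Nat.card σ.ker * Nat.card Md.tw.H ∣ ∏ i, (Nat.card (P.k i) - 1) := by
  have hA := sbase P
  let X : PExt (ringChar K) Γ ↥Md.T :=
    { proj := σ, surj := hσ.1, central := hσ.2.1, hp := hA.hp, fin := inferInstance
      coprime := not_dvd_card_ker hA.hp hp hσ }
  exact Bruhat.card_ker_mul_dvd hA (gens P) X hσ.2.2

theorem noStem_char (h : ∀ (Γ : Type u) [Group Γ] [Finite Γ]
    (L : Linear.Mult.LExt (ringChar K) Γ ↥Md.T), L.Killed Md.tw.U) :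
    Linear.Mult.NoStem (ringChar K) ↥Md.T := by
  haveI := ringChar.charP K
  exact Linear.Mult.noStem_of_killed (CharP.char_is_prime K _)
    fun Γ _ _ L => ⟨Md.tw.U, h Γ L, index_U Md⟩

end Cfsg.Agent.H74.RootExt.Tw
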