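import Cfsg.Agent.H74.RootExt.D4Two
import Cfsg.Agent.H74.RootExt.TwGens
import Cfsg.Agent.H56.TwAut.D4

/-!
The multiplier of `³D₄(q)`.
-/

set_option autoImplicit false

namespace Cfsg.Agent.H74.RootExt.D4

open Cfsg.Lie Cfsg.Agent.H37 Cfsg.Agent.H37.Twist Cfsg.Agent.H37.Twist.D4 Cfsg.Agent.H56.TwAut

variable {K : Type*} [Field K] [Fintype K]

theorem killed_any {φ : K →+* K} {q : ℕ} (hφ : ∀ t, φ t = t ^ q) (hK : Fintype.card K = q ^ 3)
    {p : ℕ} {X : Type*} [Group X] (L : Linear.Mult.LExt p X ↥(model hφ hK).T) :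
    L.Killed (model hφ hK).tw.U := by
  rcases (two_le hK).eq_or_lt with e | e
  · subst e
    exact Two.killed hφ hK L
  · exact killed hφ hK e L

theorem ker_eq_bot.{u} {K : Type u} [Field K] [Fintype K] {φ : K →+* K} {q : ℕ}
    (hφ : ∀ t, φ t = t ^ q) (hK : Fintype.card K = q ^ 3) {Γ : Type u} [Group Γ] [Finite Γ]
    {σ : Γ →* ↥(model hφ hK).T} (hσ : Cfsg.IsStemExtension σ) : σ.ker = ⊥ := by
  have hq2 := two_le hK
  have hp : Linear.Mult.NoStem (ringChar K) ↥(model hφ hK).T :=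
    Tw.noStem_char (S := H56.TwAut.D4.su K) (Md := model hφ hK) fun _ _ _ L => killed_any hφ hK L
  have hdvd := Tw.card_ker_mul_dvd (H56.TwAut.D4.spec hφ hK) hp hσ
  have hH : Nat.card ↥(model hφ hK).tw.H = (q - 1) ^ 2 * (q ^ 2 + q + 1) := by
    rw [(model hφ hK).tw_H, ← (model hφ hK).card_inf_eq]
    exact Twist.D4.card_H hφ hK
  have hC : ∏ i : Fin 2, (Nat.card ((H56.TwAut.D4.spec hφ hK).k i) - 1) =
      (q - 1) ^ 2 * (q ^ 2 + q + 1) := by
    rw [Fin.prod_univ_two]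
    show (Nat.card (⊤ : Subfield K) - 1) *
      (Nat.card (RingHom.eqLocusField φ (RingHom.id K)) - 1) = _
    rw [H56.TwAut.card_top, card_fix hφ three_ne_zero hK, Nat.card_eq_fintype_card, hK,
      ← sub_one_mul_geom q 3 (by omega)]
    simp only [Finset.sum_range_succ, Finset.sum_range_zero]
    ring
  have hpos : 0 < (q - 1) ^ 2 * (q ^ 2 + q + 1) := by
    have : 0 < q - 1 := by omega
    positivity
  have h1 : Nat.card σ.ker * ((q - 1) ^ 2 * (q ^ 2 + q + 1)) ∣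
      1 * ((q - 1) ^ 2 * (q ^ 2 + q + 1)) := by
    rw [one_mul]
    nth_rw 1 [← hH]
    exact hdvd.trans (dvd_of_eq hC)
  exact Subgroup.card_eq_one.1 (Nat.dvd_one.1 (Nat.dvd_of_mul_dvd_mul_right hpos h1))

/-- `³D₄(q)` has trivial multiplier. -/
theorem trivialMultiplier {q : ℕ} (hq : IsPrimePow q) (hK : Fintype.card K = q ^ 3) :
    Cfsg.HasCyclicSchurMultiplier ↥(twistedD4 K q) 1 := by
  obtain ⟨φ, hφ⟩ := exists_powHom hq hK
  exact (H50.hasTrivialMultiplier_iff (G := ↥(model hφ hK).T)).2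
    fun Γ _ _ σ hσ => ker_eq_bot hφ hK hσ

end Cfsg.Agent.H74.RootExt.D4
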