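import Cfsg.Agent.H74.RootExt.Pairing

/-!
Killing a unipotent group of class four with three long involutions `e, f, g`, `⁅e, f⁆ = g`, and
three pieces moved by a torus that fixes the involutions (the Sylow `2`-subgroup of `³D₄(2)`).
-/

set_option autoImplicit false
set_option linter.unusedSectionVars false

namespace Cfsg.Agent.H74.RootExt

open Subgroup Cfsg.Agent.Linear.Mult
open scoped commutatorElement

variable {G X : Type*} [Group G] [Group X] {p : ℕ} (E : LExt p X G)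

/-- The group-theoretic data. -/
structure TwoData (Y0 Y2 Y3 : Subgroup G) (e f g a c n : G) : Prop where
  comm0 : ∀ x ∈ Y0, ∀ y ∈ Y0, Commute x y
  comm2 : ∀ x ∈ Y2, ∀ y ∈ Y2, Commute x y
  comm3 : ∀ x ∈ Y3, ∀ y ∈ Y3, Commute x y
  self0 : ∀ x ∈ Y0, ∀ y ∈ Y0, E.cm x y = 1
  self2 : ∀ x ∈ Y2, ∀ y ∈ Y2, E.cm x y = 1
  self3 : ∀ x ∈ Y3, ∀ y ∈ Y3, E.cm x y = 1
  stable0 : ∀ x ∈ Y0, a * x * a⁻¹ ∈ Y0 ∧ c * x * c⁻¹ ∈ Y0
  stable2 : ∀ x ∈ Y2, a * x * a⁻¹ ∈ Y2 ∧ c * x * c⁻¹ ∈ Y2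
  stable3 : ∀ x ∈ Y3, a * x * a⁻¹ ∈ Y3 ∧ c * x * c⁻¹ ∈ Y3
  moves0 : Moves a Y0
  moves2 : Moves a Y2
  moves3 : Moves a Y3
  ac : Commute a c
  hadd : ∀ x ∈ Y0, c * x * c⁻¹ = x * (a * x * a⁻¹)
  hphi : ∀ w ∈ Y2, a * (c * w * c⁻¹) * a⁻¹ * (c * w * c⁻¹) * (a * w * a⁻¹)⁻¹ = 1 → w = 1
  fix_e : ∀ t ∈ ({a, c} : Set G), Commute t e ∧ E.cm t e = 1
  fix_f : ∀ t ∈ ({a, c} : Set G), Commute t f ∧ E.cm t f = 1
  fix_g : ∀ t ∈ ({a, c} : Set G), Commute t g ∧ E.cm t g = 1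
  f_sq : f * f = 1
  g_sq : g * g = 1
  ef : ⁅e, f⁆ = g
  g_comm : Commute g e ∧ Commute g f ∧ ∀ x, x ∈ Y0 ∨ x ∈ Y2 ∨ x ∈ Y3 → Commute g x
  f_comm : ∀ x, x ∈ Y0 ∨ x ∈ Y2 ∨ x ∈ Y3 → Commute f x
  e_comm : ∀ x, x ∈ Y2 ∨ x ∈ Y3 → Commute e x
  g_eq : ∃ v ∈ Y2, ∃ y ∈ Y3, ⁅v, y⁆ = g
  br03 : ∀ u ∈ Y0, ∀ y ∈ Y3, ⁅u, y⁆ ∈ closure ({f, g} : Set G)
  br02 : ∀ u ∈ Y0, ∀ v ∈ Y2, ∃ y ∈ Y3, ∃ k ∈ closure ({f, g} : Set G), ⁅u, v⁆ = y * k
  br0e : ∀ u ∈ Y0, ∃ v ∈ Y2, ∃ y ∈ Y3, ∃ k ∈ closure ({f, g} : Set G), ⁅u, e⁆ = v * y * k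
  lead : ∀ v ∈ Y2, ∃ u ∈ Y0, ∃ y ∈ Y3, ∃ k ∈ closure ({f, g} : Set G), ⁅u, e⁆ = v * y * k
  n_spec : n * f * n⁻¹ = g ∧ (∀ x ∈ Y0, n * x * n⁻¹ ∈ Y2) ∧ ∀ x ∈ Y3, n * x * n⁻¹ ∈ Y3
  indep : ∀ v ∈ Y2, ∀ y ∈ Y3, ∀ k ∈ closure ({f, g} : Set G),
    v * y * k = 1 → v = 1 ∧ y = 1 ∧ k = 1
  fg_ne : f ≠ 1 ∧ g ≠ 1 ∧ f ≠ g

namespace TwoData

variable {E} {Y0 Y2 Y3 : Subgroup G} {e f g a c n : G} (D : TwoData E Y0 Y2 Y3 e f g a c n)
  [Finite G]
include D

/-- Centralised by what fixes it, an element pairs trivially with a moved piece. -/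
theorem cm_moved {Y : Subgroup G} (hY : ∀ x ∈ Y, a * x * a⁻¹ ∈ Y) (hm : Moves a Y) {z : G}
    (hz : Commute a z) (hc : ∀ x ∈ Y, Commute z x) {x : G} (hx : x ∈ Y) : E.cm x z = 1 := by
  obtain ⟨y, hy, rfl⟩ := hm x hx
  have h1 : E.cm (a * y * a⁻¹) z = E.cm y z := by
    have := E.conj_cm (E.proj_lift a) y z
    rw [hz.eq, mul_inv_cancel_right,
      CExtData.conj_central (E.cm_mem_center (hc y hy).symm)] at this
    exact this.symm
  have h2 : E.cm y⁻¹ z = (E.cm y z)⁻¹ := by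
    refine eq_inv_of_mul_eq_one_left ?_
    rw [← E.cm_mul_left_of_commute (hc _ (inv_mem hy)).symm, mul_inv_cancel, E.cm_one_left]
  rw [commutatorElement_def, E.cm_mul_left_of_commute (hc _ (inv_mem hy)).symm, h1, h2,
    inv_mul_cancel]

theorem cm_g {x : G} (hx : x ∈ Y0 ∨ x ∈ Y2 ∨ x ∈ Y3) : E.cm x g = 1 := by
  have ha : Commute a g := (D.fix_g a (by simp)).1
  rcases hx with hx | hx | hx
  · exact D.cm_moved (fun y hy => (D.stable0 y hy).1) D.moves0 ha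
      (fun y hy => D.g_comm.2.2 y (Or.inl hy)) hx
  · exact D.cm_moved (fun y hy => (D.stable2 y hy).1) D.moves2 ha
      (fun y hy => D.g_comm.2.2 y (Or.inr (Or.inl hy))) hx
  · exact D.cm_moved (fun y hy => (D.stable3 y hy).1) D.moves3 ha
      (fun y hy => D.g_comm.2.2 y (Or.inr (Or.inr hy))) hx

theorem cm_f {x : G} (hx : x ∈ Y0 ∨ x ∈ Y2 ∨ x ∈ Y3) : E.cm x f = 1 := by
  have ha : Commute a f := (D.fix_f a (by simp)).1
  rcases hx with hx | hx | hx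
  · exact D.cm_moved (fun y hy => (D.stable0 y hy).1) D.moves0 ha
      (fun y hy => D.f_comm y (Or.inl hy)) hx
  · exact D.cm_moved (fun y hy => (D.stable2 y hy).1) D.moves2 ha
      (fun y hy => D.f_comm y (Or.inr (Or.inl hy))) hx
  · exact D.cm_moved (fun y hy => (D.stable3 y hy).1) D.moves3 ha
      (fun y hy => D.f_comm y (Or.inr (Or.inr hy))) hx

theorem cm_e {x : G} (hx : x ∈ Y2 ∨ x ∈ Y3) : E.cm x e = 1 := by
  have ha : Commute a e := (D.fix_e a (by simp)).1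
  rcases hx with hx | hx
  · exact D.cm_moved (fun y hy => (D.stable2 y hy).1) D.moves2 ha
      (fun y hy => D.e_comm y (Or.inl hy)) hx
  · exact D.cm_moved (fun y hy => (D.stable3 y hy).1) D.moves3 ha
      (fun y hy => D.e_comm y (Or.inr hy)) hx

theorem cm_eg : E.cm e g = 1 := by
  obtain ⟨v, hv, y, hy, hvy⟩ := D.g_eq
  rw [← hvy]
  exact E.cm_commutator_eq_one (D.e_comm v (Or.inl hv)) (D.e_comm y (Or.inr hy))

theorem cm_fg : E.cm f g = 1 := by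
  obtain ⟨v, hv, y, hy, hvy⟩ := D.g_eq
  rw [← hvy]
  exact E.cm_commutator_eq_one (D.f_comm v (Or.inr (Or.inl hv)))
    (D.f_comm y (Or.inr (Or.inr hy)))

theorem mem_fg {k : G} (hk : k ∈ closure ({f, g} : Set G)) :
    k = 1 ∨ k = f ∨ k = g ∨ k = f * g := by
  have hgf : g * f = f * g := D.g_comm.2.1.eq
  induction hk using closure_induction_left with
  | one => exact Or.inl rfl
  | mul_left x hx y _ ih =>
    rcases (show x = f ∨ x = g by simpa using hx) with rfl | rfl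
    · rcases ih with rfl | rfl | rfl | rfl
      · exact Or.inr (Or.inl (mul_one _))
      · exact Or.inl D.f_sq
      · exact Or.inr (Or.inr (Or.inr rfl))
      · exact Or.inr (Or.inr (Or.inl (by rw [← mul_assoc, D.f_sq, one_mul])))
    · rcases ih with rfl | rfl | rfl | rfl
      · exact Or.inr (Or.inr (Or.inl (mul_one _)))
      · exact Or.inr (Or.inr (Or.inr hgf))
      · exact Or.inl D.g_sq
      · exact Or.inr (Or.inl (by rw [← mul_assoc, hgf, mul_assoc, D.g_sq, mul_one]))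
  | inv_mul_cancel x hx y _ ih =>
    rcases (show x = f ∨ x = g by simpa using hx) with rfl | rfl
    · rw [inv_eq_of_mul_eq_one_right D.f_sq]
      rcases ih with rfl | rfl | rfl | rfl
      · exact Or.inr (Or.inl (mul_one _))
      · exact Or.inl D.f_sq
      · exact Or.inr (Or.inr (Or.inr rfl))
      · exact Or.inr (Or.inr (Or.inl (by rw [← mul_assoc, D.f_sq, one_mul])))
    · rw [inv_eq_of_mul_eq_one_right D.g_sq]
      rcases ih with rfl | rfl | rfl | rfl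
      · exact Or.inr (Or.inr (Or.inl (mul_one _)))
      · exact Or.inr (Or.inr (Or.inr hgf))
      · exact Or.inl D.g_sq
      · exact Or.inr (Or.inl (by rw [← mul_assoc, hgf, mul_assoc, D.g_sq, mul_one]))

/-- Lifts of `g` commute with lifts of what pairs trivially with it. -/
theorem commute_over_g {q : G} {b Qq : X} (hb : E.proj b = g ∨ E.proj b = 1) (hQ : E.proj Qq = q)
    (hq : E.cm q g = 1) : Commute Qq b := by
  rcases hb with hb | hb
  · exact E.commute_of_cm hq hQ hb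
  · exact mem_center_iff.1 (E.central hb) Qq

/-- The lift of `g`. -/
noncomputable def cc (_D : TwoData E Y0 Y2 Y3 e f g a c n) : X := E.cm e f

theorem proj_cc : E.proj D.cc = g := by rw [cc, E.proj_cm, D.ef]

theorem cm_ef_sq : D.cc * D.cc = 1 := by
  have h := E.cm_mul_right e f f
  rw [D.f_sq, E.cm_one_right] at h
  have hc : Commute (E.lift f) (E.cm e f) :=
    D.commute_over_g (Or.inl D.proj_cc) (E.proj_lift f) D.cm_fg
  rw [hc.eq, mul_inv_cancel_right] at h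
  exact h.symm

theorem cm_e_fg {k : G} (hk : k ∈ closure ({f, g} : Set G)) :
    E.cm e k = 1 ∨ E.cm e k = D.cc := by
  rcases D.mem_fg hk with rfl | rfl | rfl | rfl
  · exact Or.inl (E.cm_one_right e)
  · exact Or.inr rfl
  · exact Or.inl D.cm_eg
  · right
    rw [E.cm_mul_right_of_commute D.g_comm.1.symm, D.cm_eg, mul_one]
    rfl

theorem commute_fg {k : G} (hk : k ∈ closure ({f, g} : Set G)) {Kk : X} (hK : E.proj Kk = k)
    {q : G} (hf : E.cm q f = 1) (hg : E.cm q g = 1) {Qq : X} (hQ : E.proj Qq = q) :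
    Commute Qq Kk := by
  refine E.commute_of_cm ?_ hQ hK
  rcases D.mem_fg hk with rfl | rfl | rfl | rfl
  · exact E.cm_one_right q
  · exact hf
  · exact hg
  · rw [E.cm_mul_right, hf, hg, mul_one, mul_inv_cancel, mul_one]

theorem commute_fg_fg {k k' : G} (hk : k ∈ closure ({f, g} : Set G))
    (hk' : k' ∈ closure ({f, g} : Set G)) {A B : X} (hA : E.proj A = k) (hB : E.proj B = k') :
    Commute A B := by
  have hf : E.cm k f = 1 ∧ E.cm k g = 1 := by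
    have hgf : E.cm g f = 1 := E.cm_symm D.cm_fg
    rcases D.mem_fg hk with rfl | rfl | rfl | rfl
    · exact ⟨E.cm_one_left f, E.cm_one_left g⟩
    · exact ⟨E.cm_self _, D.cm_fg⟩
    · exact ⟨hgf, E.cm_self _⟩
    · constructor <;> rw [E.cm_mul_left]
      · rw [hgf, E.cm_self, mul_one, mul_one, mul_inv_cancel]
      · rw [E.cm_self, D.cm_fg, mul_one, mul_one, mul_inv_cancel]
  exact D.commute_fg hk' hB hf.1 hf.2 hA

/-- The pairing of the two middle pieces. -/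
theorem cm23 {v y : G} (hv : v ∈ Y2) (hy : y ∈ Y3) : E.cm v y = 1 ∨ E.cm v y = D.cc := by
  obtain ⟨u, hu, y', hy', k, hk, e0⟩ := D.lead v hv
  have hs := D.br03 u hu y hy
  set s := ⁅u, y⁆ with hsdef
  set V := E.lift v
  set Y' := E.lift y'
  set Kk := E.lift k
  set Ee := E.lift e
  set Ss := E.lift s
  set Yy := E.lift y
  have h0 : E.cm e y = 1 := E.cm_symm (D.cm_e (Or.inr hy))
  have h1 : ⁅V * Y' * Kk * Ee, Ss * Yy⁆ = 1 := by
    have hcon := E.conj_cm (E.proj_lift u) e y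
    rw [h0, mul_one, mul_inv_cancel] at hcon
    rw [E.cm_eq (g := u * e * u⁻¹) (h := u * y * u⁻¹) ?_ ?_, ← hcon]
    · simp only [map_mul, V, Y', Kk, Ee, E.proj_lift]
      rw [← e0, commutatorElement_def]; group
    · simp only [map_mul, Ss, Yy, E.proj_lift]
      rw [hsdef, commutatorElement_def]; group
  have pg : ∀ {q : G}, q ∈ Y0 ∨ q ∈ Y2 ∨ q ∈ Y3 → E.cm q g = 1 := fun h => D.cm_g h
  have c_ey : Commute Ee Yy := E.commute_of_cm h0 (E.proj_lift _) (E.proj_lift _)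
  have c_y'y : Commute Y' Yy :=
    E.commute_of_cm (D.self3 y' hy' y hy) (E.proj_lift _) (E.proj_lift _)
  have c_yk : Commute Yy Kk :=
    D.commute_fg hk (E.proj_lift _) (D.cm_f (Or.inr (Or.inr hy))) (pg (Or.inr (Or.inr hy)))
      (E.proj_lift _)
  have c_vs : Commute V Ss :=
    D.commute_fg hs (E.proj_lift _) (D.cm_f (Or.inr (Or.inl hv))) (pg (Or.inr (Or.inl hv)))
      (E.proj_lift _)
  have c_y's : Commute Y' Ss :=
    D.commute_fg hs (E.proj_lift _) (D.cm_f (Or.inr (Or.inr hy'))) (pg (Or.inr (Or.inr hy')))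
      (E.proj_lift _)
  have c_ks : Commute Kk Ss := D.commute_fg_fg hk hs (E.proj_lift _) (E.proj_lift _)
  set d := ⁅Ee, Ss⁆ with hd
  set b := ⁅V, Yy⁆ with hb
  have hdval : d = 1 ∨ d = D.cc := by
    rw [hd, E.cm_eq (E.proj_lift e) (E.proj_lift s)]
    exact D.cm_e_fg hs
  have hdg : E.proj d = g ∨ E.proj d = 1 := by
    rcases hdval with h | h <;> rw [h]
    · exact Or.inr (map_one _)
    · exact Or.inl D.proj_cc
  have cdv : Commute V d := D.commute_over_g hdg (E.proj_lift _) (pg (Or.inr (Or.inl hv)))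
  have cdy' : Commute Y' d := D.commute_over_g hdg (E.proj_lift _) (pg (Or.inr (Or.inr hy')))
  have cdy : Commute Yy d := D.commute_over_g hdg (E.proj_lift _) (pg (Or.inr (Or.inr hy)))
  have cds : Commute Ss d := D.commute_fg hs (E.proj_lift _)
    (by
      rcases hdg with h | h <;> rw [h]
      · exact E.cm_symm D.cm_fg
      · exact E.cm_one_left f)
    (by
      rcases hdg with h | h <;> rw [h]
      · exact E.cm_self g
      · exact E.cm_one_left g) rfl |>.symm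
  have cdk : Commute Kk d := D.commute_fg hk (E.proj_lift _)
    (by
      rcases hdg with h | h <;> rw [h]
      · exact E.cm_symm D.cm_fg
      · exact E.cm_one_left f)
    (by
      rcases hdg with h | h <;> rw [h]
      · exact E.cm_self g
      · exact E.cm_one_left g) rfl |>.symm
  set R := V * Y' * Kk with hR
  have hes : Ee * Ss = d * (Ss * Ee) := by rw [hd, commutatorElement_def]; group
  have hRS : Commute R Ss := (c_vs.mul_left c_y's).mul_left c_ks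
  have hRd : Commute R d := (cdv.mul_left cdy').mul_left cdk
  have hRy : R * Yy = b * (Yy * R) := by
    rw [hR, hb, commutatorElement_def]
    calc V * Y' * Kk * Yy = V * (Y' * Yy) * Kk := by rw [mul_assoc (V * Y'), ← c_yk.eq]; group
      _ = V * Yy * Y' * Kk := by rw [c_y'y.eq]; group
      _ = _ := by group
  have h2 : R * Ee * (Ss * Yy) = Ss * Yy * (R * Ee) := by
    rw [commutatorElement_eq_one_iff_mul_comm] at h1
    exact h1
  have h3 : d * Ss * (R * Yy) * Ee = Ss * Yy * R * Ee := by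
    calc d * Ss * (R * Yy) * Ee = d * (Ss * R) * (Yy * Ee) := by group
      _ = (d * R) * Ss * (Ee * Yy) := by rw [hRS.eq.symm, ← c_ey.eq]; group
      _ = R * (d * (Ss * Ee)) * Yy := by rw [← hRd.eq]; group
      _ = R * Ee * (Ss * Yy) := by rw [← hes]; group
      _ = _ := by rw [h2]; group
  have h4 : d * Ss * b = Ss := by
    rw [hRy] at h3
    have h5 : d * Ss * b * (Yy * R * Ee) = Ss * (Yy * R * Ee) := by
      calc d * Ss * b * (Yy * R * Ee) = d * Ss * (b * (Yy * R)) * Ee := by group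
        _ = _ := by rw [h3]; group
    exact mul_right_cancel h5
  have h6 : b = d⁻¹ := by
    refine eq_inv_of_mul_eq_one_right (mul_left_cancel (a := Ss) ?_)
    rw [mul_one, ← mul_assoc, cds.eq, h4]
  have hdd : d⁻¹ = 1 ∨ d⁻¹ = D.cc := by
    rcases hdval with h | h <;> rw [h]
    · exact Or.inl inv_one
    · exact Or.inr (inv_eq_of_mul_eq_one_right D.cm_ef_sq)
  rw [← h6, hb, E.cm_eq (E.proj_lift v) (E.proj_lift y)] at hdd
  exact hdd

/-- The lift of `f`. -/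
noncomputable def ff (D : TwoData E Y0 Y2 Y3 e f g a c n) : X :=
  (E.lift n)⁻¹ * D.cc * E.lift n

theorem proj_ff : E.proj D.ff = f := by
  rw [ff, map_mul, map_mul, map_inv, D.proj_cc, E.proj_lift]
  rw [← D.n_spec.1]; group

theorem ff_sq : D.ff * D.ff = 1 := by
  rw [ff, show (E.lift n)⁻¹ * D.cc * E.lift n * ((E.lift n)⁻¹ * D.cc * E.lift n) =
    (E.lift n)⁻¹ * (D.cc * D.cc) * E.lift n by group, D.cm_ef_sq]
  group

theorem cm03 {u y : G} (hu : u ∈ Y0) (hy : y ∈ Y3) : E.cm u y = 1 ∨ E.cm u y = D.ff := by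
  have h := E.conj_cm (E.proj_lift n) u y
  have e1 : E.cm u y = (E.lift n)⁻¹ * E.cm (n * u * n⁻¹) (n * y * n⁻¹) * E.lift n := by
    rw [← h]; group
  rcases D.cm23 (D.n_spec.2.1 u hu) (D.n_spec.2.2 y hy) with h' | h' <;> rw [e1, h']
  · left; group
  · exact Or.inr rfl

/-- The lift of a moved piece. -/
noncomputable def Z (_D : TwoData E Y0 Y2 Y3 e f g a c n) {Y : Subgroup G} (hm : Moves a Y)
    (x : G) : X :=
  open Classical in if h : x ∈ Y then E.cm a (hm x h).choose else 1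

theorem proj_Z {Y : Subgroup G} (hm : Moves a Y) {x : G} (hx : x ∈ Y) :
    E.proj (D.Z hm x) = x := by
  rw [Z, dif_pos hx, E.proj_cm, (hm x hx).choose_spec.2]

theorem Z_mul {Y : Subgroup G} (hm : Moves a Y) (hY : ∀ x ∈ Y, a * x * a⁻¹ ∈ Y)
    (hc : ∀ x ∈ Y, ∀ y ∈ Y, Commute x y) (hs : ∀ x ∈ Y, ∀ y ∈ Y, E.cm x y = 1) {x x' : G}
    (hx : x ∈ Y) (hx' : x' ∈ Y) : D.Z hm (x * x') = D.Z hm x * D.Z hm x' := by
  let φ : Y → Y := fun v => ⟨⁅a, (v : G)⁆, by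
    rw [commutatorElement_def]; exact mul_mem (hY _ v.2) (inv_mem v.2)⟩
  have hinj : Function.Injective φ := Finite.injective_iff_surjective.2 fun v => by
    obtain ⟨w, hw, ew⟩ := hm v v.2
    exact ⟨⟨w, hw⟩, Subtype.ext ew⟩
  have hZ : ∀ y ∈ Y, D.Z hm ⁅a, y⁆ = E.cm a y := fun y hy => by
    have hmem : ⁅a, y⁆ ∈ Y := (φ ⟨y, hy⟩).2
    rw [Z, dif_pos hmem]
    obtain ⟨hy', e'⟩ := (hm _ hmem).choose_spec
    exact congrArg (E.cm a) (congrArg Subtype.val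
      (hinj (a₁ := ⟨_, hy'⟩) (a₂ := ⟨y, hy⟩) (Subtype.ext e')))
  obtain ⟨y, hy, rfl⟩ := hm x hx
  obtain ⟨y', hy', rfl⟩ := hm x' hx'
  have hm' : ⁅a, y'⁆ ∈ Y := (φ ⟨y', hy'⟩).2
  have e0 : ⁅a, y⁆ * ⁅a, y'⁆ = ⁅a, y * y'⁆ := by
    rw [show ⁅a, y * y'⁆ = ⁅a, y⁆ * (y * ⁅a, y'⁆ * y⁻¹) by
      simp only [commutatorElement_def]; group, (hc y hy _ hm').eq, mul_inv_cancel_right]
  rw [e0, hZ _ (mul_mem hy hy'), hZ y hy, hZ y' hy', E.cm_mul_right,
    (E.commute_of_cm (hs y hy _ hm') (E.proj_lift y) (E.proj_cm a y')).eq, mul_inv_cancel_right]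

theorem Z_one {Y : Subgroup G} (hm : Moves a Y) (hY : ∀ x ∈ Y, a * x * a⁻¹ ∈ Y)
    (hc : ∀ x ∈ Y, ∀ y ∈ Y, Commute x y) (hs : ∀ x ∈ Y, ∀ y ∈ Y, E.cm x y = 1) :
    D.Z hm 1 = 1 := by
  have h := D.Z_mul hm hY hc hs (one_mem _) (one_mem _)
  rw [mul_one] at h
  exact left_eq_mul.1 h

/-- The lift of the middle piece `Y2`. -/
noncomputable def Bz (D : TwoData E Y0 Y2 Y3 e f g a c n) (x : G) : X := D.Z D.moves2 x

/-- The lift of the middle piece `Y3`. -/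
noncomputable def Cz (D : TwoData E Y0 Y2 Y3 e f g a c n) (x : G) : X := D.Z D.moves3 x

theorem proj_Bz {x : G} (hx : x ∈ Y2) : E.proj (D.Bz x) = x := D.proj_Z D.moves2 hx

theorem proj_Cz {x : G} (hx : x ∈ Y3) : E.proj (D.Cz x) = x := D.proj_Z D.moves3 hx

theorem Bz_mul {x x' : G} (hx : x ∈ Y2) (hx' : x' ∈ Y2) : D.Bz (x * x') = D.Bz x * D.Bz x' :=
  D.Z_mul D.moves2 (fun x hx => (D.stable2 x hx).1) D.comm2 D.self2 hx hx'

theorem Cz_mul {x x' : G} (hx : x ∈ Y3) (hx' : x' ∈ Y3) : D.Cz (x * x') = D.Cz x * D.Cz x' :=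
  D.Z_mul D.moves3 (fun x hx => (D.stable3 x hx).1) D.comm3 D.self3 hx hx'

theorem Bz_one : D.Bz 1 = 1 := D.Z_one D.moves2 (fun x hx => (D.stable2 x hx).1) D.comm2 D.self2

theorem Cz_one : D.Cz 1 = 1 := D.Z_one D.moves3 (fun x hx => (D.stable3 x hx).1) D.comm3 D.self3

theorem Bz_inv {x : G} (hx : x ∈ Y2) : D.Bz x⁻¹ = (D.Bz x)⁻¹ := by
  refine eq_inv_of_mul_eq_one_left ?_
  rw [← D.Bz_mul (inv_mem hx) hx, inv_mul_cancel, D.Bz_one]

theorem Cz_inv {x : G} (hx : x ∈ Y3) : D.Cz x⁻¹ = (D.Cz x)⁻¹ := by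
  refine eq_inv_of_mul_eq_one_left ?_
  rw [← D.Cz_mul (inv_mem hx) hx, inv_mul_cancel, D.Cz_one]

/-- The lift of `⟨f, g⟩`. -/
noncomputable def K4 (D : TwoData E Y0 Y2 Y3 e f g a c n) : Subgroup X :=
  closure {D.ff, D.cc}

theorem ff_cc_comm : Commute D.ff D.cc :=
  D.commute_over_g (Or.inl D.proj_cc) D.proj_ff D.cm_fg

theorem mem_K4 {k : X} (hk : k ∈ D.K4) :
    k = 1 ∨ k = D.ff ∨ k = D.cc ∨ k = D.ff * D.cc := by
  have hgf := D.ff_cc_comm.eq.symm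
  induction hk using closure_induction_left with
  | one => exact Or.inl rfl
  | mul_left x hx y _ ih =>
    rcases (show x = D.ff ∨ x = D.cc by simpa using hx) with rfl | rfl
    · rcases ih with rfl | rfl | rfl | rfl
      · exact Or.inr (Or.inl (mul_one _))
      · exact Or.inl D.ff_sq
      · exact Or.inr (Or.inr (Or.inr rfl))
      · exact Or.inr (Or.inr (Or.inl (by rw [← mul_assoc, D.ff_sq, one_mul])))
    · rcases ih with rfl | rfl | rfl | rfl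
      · exact Or.inr (Or.inr (Or.inl (mul_one _)))
      · exact Or.inr (Or.inr (Or.inr hgf))
      · exact Or.inl D.cm_ef_sq
      · exact Or.inr (Or.inl (by rw [← mul_assoc, hgf, mul_assoc, D.cm_ef_sq, mul_one]))
  | inv_mul_cancel x hx y _ ih =>
    rcases (show x = D.ff ∨ x = D.cc by simpa using hx) with rfl | rfl
    · rw [inv_eq_of_mul_eq_one_right D.ff_sq]
      rcases ih with rfl | rfl | rfl | rfl
      · exact Or.inr (Or.inl (mul_one _))
      · exact Or.inl D.ff_sq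
      · exact Or.inr (Or.inr (Or.inr rfl))
      · exact Or.inr (Or.inr (Or.inl (by rw [← mul_assoc, D.ff_sq, one_mul])))
    · rw [inv_eq_of_mul_eq_one_right D.cm_ef_sq]
      rcases ih with rfl | rfl | rfl | rfl
      · exact Or.inr (Or.inr (Or.inl (mul_one _)))
      · exact Or.inr (Or.inr (Or.inr hgf))
      · exact Or.inl D.cm_ef_sq
      · exact Or.inr (Or.inl (by rw [← mul_assoc, hgf, mul_assoc, D.cm_ef_sq, mul_one]))

theorem proj_K4 {k : X} (hk : k ∈ D.K4) : E.proj k ∈ closure ({f, g} : Set G) := by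
  refine (show D.K4 ≤ (closure ({f, g} : Set G)).comap E.proj from (closure_le _).2 ?_) hk
  rintro x (rfl | rfl)
  · exact Subgroup.mem_comap.2 (by rw [D.proj_ff]; exact subset_closure (by simp))
  · exact Subgroup.mem_comap.2 (by rw [D.proj_cc]; exact subset_closure (by simp))

theorem K4_ker {k : X} (hk : k ∈ D.K4) (h : E.proj k = 1) : k = 1 := by
  rcases D.mem_K4 hk with rfl | rfl | rfl | rfl
  · rfl
  · rw [D.proj_ff] at h; exact absurd h D.fg_ne.1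
  · rw [D.proj_cc] at h; exact absurd h D.fg_ne.2.1
  · rw [map_mul, D.proj_ff, D.proj_cc] at h
    refine absurd ?_ D.fg_ne.2.2
    rw [eq_inv_of_mul_eq_one_left h, inv_eq_of_mul_eq_one_right D.g_sq]

theorem K4_lift {k : G} (hk : k ∈ closure ({f, g} : Set G)) : ∃ K ∈ D.K4, E.proj K = k := by
  have h1 : D.ff ∈ D.K4 := subset_closure (by simp)
  have h2 : D.cc ∈ D.K4 := subset_closure (by simp)
  rcases D.mem_fg hk with rfl | rfl | rfl | rfl
  · exact ⟨1, one_mem _, map_one _⟩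
  · exact ⟨_, h1, D.proj_ff⟩
  · exact ⟨_, h2, D.proj_cc⟩
  · exact ⟨_, mul_mem h1 h2, by rw [map_mul, D.proj_ff, D.proj_cc]⟩

theorem K4_comm {q : G} (hq : q ∈ Y0 ∨ q ∈ Y2 ∨ q ∈ Y3) {Qq k : X} (hQ : E.proj Qq = q)
    (hk : k ∈ D.K4) : Commute Qq k :=
  D.commute_fg (D.proj_K4 hk) rfl (D.cm_f hq) (D.cm_g hq) hQ

/-- The lift of `Y3 · ⟨f, g⟩`. -/
noncomputable def M3 (D : TwoData E Y0 Y2 Y3 e f g a c n) : Subgroup X where
  carrier := {x | ∃ y ∈ Y3, ∃ k ∈ D.K4, x = D.Cz y * k}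
  one_mem' := ⟨1, one_mem _, 1, one_mem _, by rw [D.Cz_one, one_mul]⟩
  mul_mem' := by
    rintro _ _ ⟨y, hy, k, hk, rfl⟩ ⟨y', hy', k', hk', rfl⟩
    refine ⟨y * y', mul_mem hy hy', k * k', mul_mem hk hk', ?_⟩
    have hc := (D.K4_comm (Or.inr (Or.inr hy')) (D.proj_Cz hy') hk).eq
    rw [D.Cz_mul hy hy']
    calc D.Cz y * k * (D.Cz y' * k') = D.Cz y * (k * D.Cz y') * k' := by group
      _ = _ := by rw [← hc]; group
  inv_mem' := by
    rintro _ ⟨y, hy, k, hk, rfl⟩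
    refine ⟨y⁻¹, inv_mem hy, k⁻¹, inv_mem hk, ?_⟩
    rw [mul_inv_rev, D.Cz_inv hy, ((D.K4_comm (Or.inr (Or.inr hy)) (D.proj_Cz hy) hk).inv_left.inv_right).eq]

theorem K4_le_M3 {k : X} (hk : k ∈ D.K4) : k ∈ D.M3 :=
  ⟨1, one_mem _, k, hk, by rw [D.Cz_one, one_mul]⟩

theorem M3_ker {m : X} (hm : m ∈ D.M3) (h : E.proj m = 1) : m = 1 := by
  obtain ⟨y, hy, k, hk, rfl⟩ := hm
  rw [map_mul, D.proj_Cz hy] at h
  obtain ⟨-, rfl, hk1⟩ := D.indep 1 (one_mem _) y hy _ (D.proj_K4 hk) (by rw [one_mul]; exact h)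
  rw [D.Cz_one, one_mul]
  exact D.K4_ker hk hk1

theorem M3_lift {y k : G} (hy : y ∈ Y3) (hk : k ∈ closure ({f, g} : Set G)) :
    ∃ m ∈ D.M3, E.proj m = y * k := by
  obtain ⟨K, hK, rfl⟩ := D.K4_lift hk
  exact ⟨D.Cz y * K, ⟨y, hy, K, hK, rfl⟩, by rw [map_mul, D.proj_Cz hy]⟩

/-- An element with a trivial or listed pairing against `Y3` normalises `M3`. -/
theorem conj_M3 {q : G} {Qq : X} (hQ : E.proj Qq = q)
    (h3 : ∀ y ∈ Y3, E.cm q y ∈ D.K4) (hk : ∀ k ∈ D.K4, Qq * k * Qq⁻¹ ∈ D.K4) {m : X}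
    (hm : m ∈ D.M3) : Qq * m * Qq⁻¹ ∈ D.M3 := by
  obtain ⟨y, hy, k, hk', rfl⟩ := hm
  have e1 : Qq * (D.Cz y * k) * Qq⁻¹ = ⁅Qq, D.Cz y⁆ * D.Cz y * (Qq * k * Qq⁻¹) := by
    simp only [commutatorElement_def]; group
  rw [e1, E.cm_eq hQ (D.proj_Cz hy)]
  exact mul_mem (mul_mem (D.K4_le_M3 (h3 y hy)) ⟨y, hy, 1, one_mem _, (mul_one _).symm⟩)
    (D.K4_le_M3 (hk k hk'))

theorem ff_mem : D.ff ∈ D.K4 := subset_closure (by simp)

theorem cc_mem : D.cc ∈ D.K4 := subset_closure (by simp)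

theorem conj0_M3 {u : G} (hu : u ∈ Y0) {Qq : X} (hQ : E.proj Qq = u) {m : X} (hm : m ∈ D.M3) :
    Qq * m * Qq⁻¹ ∈ D.M3 := by
  refine D.conj_M3 hQ (fun y hy => ?_) (fun k hk => ?_) hm
  · rcases D.cm03 hu hy with h | h <;> rw [h]
    · exact one_mem _
    · exact D.ff_mem
  · rw [(D.K4_comm (Or.inl hu) hQ hk).eq, mul_inv_cancel_right]; exact hk

theorem conj2_M3 {v : G} (hv : v ∈ Y2) {Qq : X} (hQ : E.proj Qq = v) {m : X} (hm : m ∈ D.M3) :
    Qq * m * Qq⁻¹ ∈ D.M3 := by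
  refine D.conj_M3 hQ (fun y hy => ?_) (fun k hk => ?_) hm
  · rcases D.cm23 hv hy with h | h <;> rw [h]
    · exact one_mem _
    · exact D.cc_mem
  · rw [(D.K4_comm (Or.inr (Or.inl hv)) hQ hk).eq, mul_inv_cancel_right]; exact hk

theorem conj_t_M3 {t : G} (ht : t ∈ ({a, c} : Set G)) {m : X} (hm : m ∈ D.M3) :
    E.lift t * m * (E.lift t)⁻¹ ∈ D.M3 := by
  obtain ⟨y, hy, k, hk, rfl⟩ := hm
  have hy' : t * y * t⁻¹ ∈ Y3 := by
    rcases (show t = a ∨ t = c by simpa using ht) with rfl | rfl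
    · exact (D.stable3 y hy).1
    · exact (D.stable3 y hy).2
  have hat : t * a * t⁻¹ = a := by
    rcases (show t = a ∨ t = c by simpa using ht) with rfl | rfl
    · group
    · rw [D.ac.eq.symm, mul_inv_cancel_right]
  obtain ⟨y0, hy0, rfl⟩ := D.moves3 y hy
  have hy0' : t * y0 * t⁻¹ ∈ Y3 := by
    rcases (show t = a ∨ t = c by simpa using ht) with rfl | rfl
    · exact (D.stable3 y0 hy0).1
    · exact (D.stable3 y0 hy0).2
  have hC : E.lift t * D.Cz ⁅a, y0⁆ * (E.lift t)⁻¹ ∈ D.M3 := by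
    refine ⟨⁅a, t * y0 * t⁻¹⁆, ?_, 1, one_mem _, ?_⟩
    · rw [commutatorElement_def]
      exact mul_mem (D.stable3 _ hy0').1 (inv_mem hy0')
    · rw [mul_one]
      have hu : ∀ z, z ∈ Y3 → D.Cz ⁅a, z⁆ = E.cm a z := by
        intro z hz
        have hmem : ⁅a, z⁆ ∈ Y3 := by
          rw [commutatorElement_def]; exact mul_mem (D.stable3 _ hz).1 (inv_mem hz)
        rw [Cz, Z, dif_pos hmem]
        obtain ⟨hy', e'⟩ := (D.moves3 _ hmem).choose_spec
        let φ : Y3 → Y3 := fun v => ⟨⁅a, (v : G)⁆, by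
          rw [commutatorElement_def]; exact mul_mem (D.stable3 _ v.2).1 (inv_mem v.2)⟩
        have hinj : Function.Injective φ := Finite.injective_iff_surjective.2 fun v => by
          obtain ⟨w, hw, ew⟩ := D.moves3 v v.2
          exact ⟨⟨w, hw⟩, Subtype.ext ew⟩
        exact congrArg (E.cm a) (congrArg Subtype.val
          (hinj (a₁ := ⟨_, hy'⟩) (a₂ := ⟨z, hz⟩) (Subtype.ext e')))
      rw [hu _ hy0, hu _ hy0', E.conj_cm (E.proj_lift t), hat]
  have hk4 : Commute (E.lift t) k := by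
    refine E.commute_of_cm ?_ (E.proj_lift t) rfl
    rcases D.mem_fg (D.proj_K4 hk) with h | h | h | h <;> rw [h]
    · exact E.cm_one_right t
    · exact (D.fix_f t ht).2
    · exact (D.fix_g t ht).2
    · rw [E.cm_mul_right, (D.fix_f t ht).2, (D.fix_g t ht).2, mul_one, mul_inv_cancel, mul_one]
  rw [show E.lift t * (D.Cz ⁅a, y0⁆ * k) * (E.lift t)⁻¹ =
    (E.lift t * D.Cz ⁅a, y0⁆ * (E.lift t)⁻¹) * (E.lift t * k * (E.lift t)⁻¹) by group, hk4.eq,
    mul_inv_cancel_right]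
  exact mul_mem hC (D.K4_le_M3 hk)

/-- The kernel component of the pairing of `Y0` and `Y2`. -/
noncomputable def eps (D : TwoData E Y0 Y2 Y3 e f g a c n) (u v : G) : X :=
  open Classical in
  if h : ∃ z, E.proj z = 1 ∧ z⁻¹ * E.cm u v ∈ D.M3 then h.choose else 1

theorem eps_spec {u v : G} (hu : u ∈ Y0) (hv : v ∈ Y2) :
    E.proj (D.eps u v) = 1 ∧ (D.eps u v)⁻¹ * E.cm u v ∈ D.M3 := by
  have h : ∃ z, E.proj z = 1 ∧ z⁻¹ * E.cm u v ∈ D.M3 := by
    obtain ⟨y, hy, k, hk, he⟩ := D.br02 u hu v hv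
    obtain ⟨m, hm, em⟩ := D.M3_lift hy hk
    refine ⟨E.cm u v * m⁻¹, by rw [map_mul, map_inv, E.proj_cm, em, he, mul_inv_cancel], ?_⟩
    rw [mul_inv_rev, inv_inv, inv_mul_cancel_right]
    exact hm
  rw [eps, dif_pos h]
  exact h.choose_spec

theorem eps_unique {u v : G} (hu : u ∈ Y0) (hv : v ∈ Y2) {z m : X} (hz : E.proj z = 1)
    (hm : m ∈ D.M3) (h : E.cm u v = z * m) : D.eps u v = z := by
  obtain ⟨h1, h2⟩ := D.eps_spec hu hv
  rw [h] at h2
  have h3 : (D.eps u v)⁻¹ * z ∈ D.M3 := by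
    have := mul_mem h2 (inv_mem hm)
    rwa [mul_assoc, mul_inv_cancel_right] at this
  exact inv_mul_eq_one.1 (D.M3_ker h3 (by rw [map_mul, map_inv, h1, hz, inv_one, one_mul]))

theorem cm_eps {u v : G} (hu : u ∈ Y0) (hv : v ∈ Y2) :
    ∃ m ∈ D.M3, E.cm u v = D.eps u v * m :=
  ⟨_, (D.eps_spec hu hv).2, (mul_inv_cancel_left _ _).symm⟩

theorem eps_zero {u v : G} (hu : u ∈ Y0) (hv : v ∈ Y2) : D.eps u v = 1 := by
  have hker : ∀ {z : X}, E.proj z = 1 → ∀ x : X, x * z = z * x :=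
    fun hz x => E.ker_central hz x
  have hl : ∀ u ∈ Y0, ∀ u' ∈ Y0, ∀ v ∈ Y2,
      D.eps (u * u') v = D.eps u' v * D.eps u v := by
    intro u hu u' hu' v hv
    obtain ⟨m, hm, e1⟩ := D.cm_eps hu hv
    obtain ⟨m', hm', e2⟩ := D.cm_eps hu' hv
    refine D.eps_unique (mul_mem hu hu') hv
      (by rw [map_mul, (D.eps_spec hu' hv).1, (D.eps_spec hu hv).1, one_mul])
      (m := E.lift u * m' * (E.lift u)⁻¹ * m) (mul_mem (D.conj0_M3 hu (E.proj_lift u) hm') hm) ?_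
    have hz := hker (D.eps_spec hu hv).1
    have hz' := hker (D.eps_spec hu' hv).1
    rw [E.cm_mul_left, e1, e2]
    calc E.lift u * (D.eps u' v * m') * (E.lift u)⁻¹ * (D.eps u v * m)
        = (E.lift u * D.eps u' v) * m' * ((E.lift u)⁻¹ * D.eps u v) * m := by group
      _ = D.eps u' v * ((E.lift u * m' * (E.lift u)⁻¹) * D.eps u v) * m := by
          rw [hz' (E.lift u)]; group
      _ = _ := by rw [hz (E.lift u * m' * (E.lift u)⁻¹)]; group
  have hr : ∀ u ∈ Y0, ∀ v ∈ Y2, ∀ v' ∈ Y2,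
      D.eps u (v * v') = D.eps u v * D.eps u v' := by
    intro u hu v hv v' hv'
    obtain ⟨m, hm, e1⟩ := D.cm_eps hu hv
    obtain ⟨m', hm', e2⟩ := D.cm_eps hu hv'
    refine D.eps_unique hu (mul_mem hv hv')
      (by rw [map_mul, (D.eps_spec hu hv').1, (D.eps_spec hu hv).1, one_mul])
      (m := m * (E.lift v * m' * (E.lift v)⁻¹)) (mul_mem hm (D.conj2_M3 hv (E.proj_lift v) hm')) ?_
    have hz' := hker (D.eps_spec hu hv').1
    rw [E.cm_mul_right, e1, e2]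
    calc D.eps u v * m * (E.lift v * (D.eps u v' * m') * (E.lift v)⁻¹)
        = D.eps u v * (m * (E.lift v * D.eps u v')) * m' * (E.lift v)⁻¹ := by group
      _ = D.eps u v * ((m * D.eps u v') * E.lift v) * m' * (E.lift v)⁻¹ := by
          rw [hz' (E.lift v)]; group
      _ = _ := by rw [hz' m]; group
  have hinv : ∀ t ∈ ({a, c} : Set G), ∀ u ∈ Y0, ∀ v ∈ Y2,
      D.eps (t * u * t⁻¹) (t * v * t⁻¹) = D.eps u v := by
    intro t ht u hu v hv
    have htm : t * u * t⁻¹ ∈ Y0 ∧ t * v * t⁻¹ ∈ Y2 := by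
      rcases (show t = a ∨ t = c by simpa using ht) with rfl | rfl
      · exact ⟨(D.stable0 u hu).1, (D.stable2 v hv).1⟩
      · exact ⟨(D.stable0 u hu).2, (D.stable2 v hv).2⟩
    obtain ⟨m, hm, e1⟩ := D.cm_eps hu hv
    refine D.eps_unique htm.1 htm.2 (D.eps_spec hu hv).1 (D.conj_t_M3 ht hm) ?_
    rw [← E.conj_cm (E.proj_lift t), e1]
    calc E.lift t * (D.eps u v * m) * (E.lift t)⁻¹
        = (E.lift t * D.eps u v) * m * (E.lift t)⁻¹ := by group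
      _ = _ := by rw [hker (D.eps_spec hu hv).1 (E.lift t)]; group
  -- the scalings
  let φ : Y2 → Y2 := fun w =>
    ⟨a * (c * w * c⁻¹) * a⁻¹ * (c * w * c⁻¹) * (a * w * a⁻¹)⁻¹,
      mul_mem (mul_mem (D.stable2 _ (D.stable2 _ w.2).2).1 (D.stable2 _ w.2).2)
        (inv_mem (D.stable2 _ w.2).1)⟩
  have hφ : Function.Injective φ := by
    rintro ⟨v, hv⟩ ⟨w, hw⟩ e'
    have e0 : a * (c * v * c⁻¹) * a⁻¹ * (c * v * c⁻¹) * (a * v * a⁻¹)⁻¹ =
        a * (c * w * c⁻¹) * a⁻¹ * (c * w * c⁻¹) * (a * w * a⁻¹)⁻¹ := congrArg Subtype.val e'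
    have hm : v * w⁻¹ ∈ Y2 := mul_mem hv (inv_mem hw)
    refine Subtype.ext (mul_inv_eq_one.1 (D.hphi _ hm ?_))
    set ψ : Y2 →* Y2 := MonoidHom.mk' (fun w : Y2 => φ w) (by
      rintro ⟨x, hx⟩ ⟨y, hy⟩
      refine Subtype.ext ?_
      show a * (c * (x * y) * c⁻¹) * a⁻¹ * (c * (x * y) * c⁻¹) * (a * (x * y) * a⁻¹)⁻¹ =
        (a * (c * x * c⁻¹) * a⁻¹ * (c * x * c⁻¹) * (a * x * a⁻¹)⁻¹) *
          (a * (c * y * c⁻¹) * a⁻¹ * (c * y * c⁻¹) * (a * y * a⁻¹)⁻¹)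
      set P := a * (c * x * c⁻¹) * a⁻¹
      set Q := c * x * c⁻¹
      set R := a * x * a⁻¹
      set P' := a * (c * y * c⁻¹) * a⁻¹
      set Q' := c * y * c⁻¹
      set R' := a * y * a⁻¹
      have hP' : P' ∈ Y2 := (D.stable2 _ (D.stable2 _ hy).2).1
      have hQ : Q ∈ Y2 := (D.stable2 _ hx).2
      have hQ' : Q' ∈ Y2 := (D.stable2 _ hy).2
      have hR : R ∈ Y2 := (D.stable2 _ hx).1
      have hR' : R' ∈ Y2 := (D.stable2 _ hy).1
      rw [show a * (c * (x * y) * c⁻¹) * a⁻¹ = P * P' by simp only [P, P']; group,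
        show c * (x * y) * c⁻¹ = Q * Q' by simp only [Q, Q']; group,
        show a * (x * y) * a⁻¹ = R * R' by simp only [R, R']; group, mul_inv_rev]
      calc P * P' * (Q * Q') * (R'⁻¹ * R⁻¹) = P * (P' * Q) * Q' * R'⁻¹ * R⁻¹ := by group
        _ = P * Q * ((P' * Q' * R'⁻¹) * R⁻¹) := by rw [(D.comm2 _ hP' _ hQ).eq]; group
        _ = _ := by
          rw [(D.comm2 _ (mul_mem (mul_mem hP' hQ') (inv_mem hR')) _ (inv_mem hR)).eq]; group)
    have h1 : ψ (⟨v, hv⟩ * ⟨w, hw⟩⁻¹) = 1 := by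
      rw [map_mul, map_inv, show ψ ⟨v, hv⟩ = ψ ⟨w, hw⟩ from e', mul_inv_cancel]
    exact congrArg Subtype.val h1
  have hsurj := Finite.injective_iff_surjective.1 hφ
  obtain ⟨⟨w, hw⟩, ev⟩ := hsurj ⟨v, hv⟩
  have ev' : a * (c * w * c⁻¹) * a⁻¹ * (c * w * c⁻¹) * (a * w * a⁻¹)⁻¹ = v := congrArg Subtype.val ev
  set s := a * (c * w * c⁻¹) * a⁻¹ with hs
  have hsY : s ∈ Y2 := (D.stable2 _ (D.stable2 _ hw).2).1
  have haw := (D.stable2 _ hw).1
  have hcw := (D.stable2 _ hw).2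
  have hau := (D.stable0 _ hu).1
  have hcu := (D.stable0 _ hu).2
  have h1 : D.eps (c * u * c⁻¹) s = D.eps u (a * w * a⁻¹) := by
    rw [← hinv c (by simp) u hu _ haw]
    congr 1
    rw [hs, show a * (c * w * c⁻¹) * a⁻¹ = (a * c) * w * (a * c)⁻¹ by group, D.ac.eq]
    group
  have h2 : D.eps (a * u * a⁻¹) s = D.eps u (c * w * c⁻¹) := hinv a (by simp) u hu _ hcw
  have h3 : D.eps u (a * w * a⁻¹) = D.eps u (c * w * c⁻¹) * D.eps u s := by
    rw [← h2, ← h1, D.hadd u hu, hl u hu _ hau s hsY]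
  have h4 : D.eps u ((c * w * c⁻¹) * s) = D.eps u (v * (a * w * a⁻¹)) := by
    rw [← ev', inv_mul_cancel_right, (D.comm2 _ hcw _ hsY).eq]
  rw [hr u hu _ hcw _ hsY, hr u hu v hv _ haw, h3] at h4
  exact right_eq_mul.1 h4

theorem cm02 {u v : G} (hu : u ∈ Y0) (hv : v ∈ Y2) : E.cm u v ∈ D.M3 := by
  obtain ⟨m, hm, e1⟩ := D.cm_eps hu hv
  rw [e1, D.eps_zero hu hv, one_mul]
  exact hm

/-- The lift of `Y2 · Y3 · ⟨f, g⟩`. -/
noncomputable def M (D : TwoData E Y0 Y2 Y3 e f g a c n) : Subgroup X where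
  carrier := {x | ∃ v ∈ Y2, ∃ m ∈ D.M3, x = D.Bz v * m}
  one_mem' := ⟨1, one_mem _, 1, one_mem _, by rw [D.Bz_one, one_mul]⟩
  mul_mem' := by
    rintro _ _ ⟨v, hv, m, hm, rfl⟩ ⟨v', hv', m', hm', rfl⟩
    refine ⟨v * v', mul_mem hv hv', D.Bz v'⁻¹ * m * (D.Bz v'⁻¹)⁻¹ * m',
      mul_mem (D.conj2_M3 (inv_mem hv') (D.proj_Bz (inv_mem hv')) hm) hm', ?_⟩
    rw [D.Bz_mul hv hv', D.Bz_inv hv']
    group
  inv_mem' := by
    rintro _ ⟨v, hv, m, hm, rfl⟩
    refine ⟨v⁻¹, inv_mem hv, D.Bz v * m⁻¹ * (D.Bz v)⁻¹,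
      D.conj2_M3 hv (D.proj_Bz hv) (inv_mem hm), ?_⟩
    rw [D.Bz_inv hv]
    group

theorem M3_le_M {m : X} (hm : m ∈ D.M3) : m ∈ D.M :=
  ⟨1, one_mem _, m, hm, by rw [D.Bz_one, one_mul]⟩

theorem Bz_mem {v : G} (hv : v ∈ Y2) : D.Bz v ∈ D.M :=
  ⟨v, hv, 1, one_mem _, (mul_one _).symm⟩

theorem M_ker {m : X} (hm : m ∈ D.M) (h : E.proj m = 1) : m = 1 := by
  obtain ⟨v, hv, m, hm, rfl⟩ := hm
  obtain ⟨y, hy, k, hk, rfl⟩ := hm
  rw [map_mul, map_mul, D.proj_Bz hv, D.proj_Cz hy, ← mul_assoc] at h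
  obtain ⟨rfl, rfl, hk1⟩ := D.indep v hv y hy _ (D.proj_K4 hk) h
  rw [D.Bz_one, D.Cz_one, one_mul, one_mul]
  exact D.K4_ker hk hk1

theorem conj0_M {u : G} (hu : u ∈ Y0) {Qq : X} (hQ : E.proj Qq = u) {m : X} (hm : m ∈ D.M) :
    Qq * m * Qq⁻¹ ∈ D.M := by
  obtain ⟨v, hv, m, hm, rfl⟩ := hm
  rw [show Qq * (D.Bz v * m) * Qq⁻¹ = ⁅Qq, D.Bz v⁆ * D.Bz v * (Qq * m * Qq⁻¹) by
    simp only [commutatorElement_def]; group, E.cm_eq hQ (D.proj_Bz hv)]
  exact mul_mem (mul_mem (D.M3_le_M (D.cm02 hu hv)) (D.Bz_mem hv))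
    (D.M3_le_M (D.conj0_M3 hu hQ hm))

theorem cm_e_M3 {y : G} (hy : y ∈ Y3) : E.cm e y ∈ D.K4 := by
  rw [E.cm_symm (D.cm_e (Or.inr hy))]; exact one_mem _

theorem conj_e_K4 {Qq k : X} (hQ : E.proj Qq = e) (hk : k ∈ D.K4) : Qq * k * Qq⁻¹ ∈ D.K4 := by
  rw [show Qq * k * Qq⁻¹ = ⁅Qq, k⁆ * k by simp only [commutatorElement_def]; group,
    E.cm_eq hQ rfl]
  refine mul_mem ?_ hk
  rcases D.cm_e_fg (D.proj_K4 hk) with h | h <;> rw [h]
  · exact one_mem _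
  · exact D.cc_mem

theorem conj_e_M {Qq m : X} (hQ : E.proj Qq = e) (hm : m ∈ D.M) : Qq * m * Qq⁻¹ ∈ D.M := by
  obtain ⟨v, hv, m, hm, rfl⟩ := hm
  rw [show Qq * (D.Bz v * m) * Qq⁻¹ = ⁅Qq, D.Bz v⁆ * D.Bz v * (Qq * m * Qq⁻¹) by
    simp only [commutatorElement_def]; group, E.cm_eq hQ (D.proj_Bz hv),
    E.cm_symm (D.cm_e (Or.inl hv)), one_mul]
  exact mul_mem (D.Bz_mem hv)
    (D.M3_le_M (D.conj_M3 hQ (fun y hy => D.cm_e_M3 hy) (fun k hk => D.conj_e_K4 hQ hk) hm))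

theorem M_lift {v y k : G} (hv : v ∈ Y2) (hy : y ∈ Y3) (hk : k ∈ closure ({f, g} : Set G)) :
    ∃ m ∈ D.M, E.proj m = v * y * k := by
  obtain ⟨m, hm, em⟩ := D.M3_lift hy hk
  exact ⟨D.Bz v * m, ⟨v, hv, m, hm, rfl⟩, by rw [map_mul, em, D.proj_Bz hv, mul_assoc]⟩

theorem conj_t_M {t : G} (ht : t ∈ ({a, c} : Set G)) {m : X} (hm : m ∈ D.M) :
    E.lift t * m * (E.lift t)⁻¹ ∈ D.M := by
  obtain ⟨v, hv, m, hm, rfl⟩ := hm
  have hat : t * a * t⁻¹ = a := by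
    rcases (show t = a ∨ t = c by simpa using ht) with rfl | rfl
    · group
    · rw [D.ac.eq.symm, mul_inv_cancel_right]
  obtain ⟨v0, hv0, rfl⟩ := D.moves2 v hv
  have hv0' : t * v0 * t⁻¹ ∈ Y2 := by
    rcases (show t = a ∨ t = c by simpa using ht) with rfl | rfl
    · exact (D.stable2 v0 hv0).1
    · exact (D.stable2 v0 hv0).2
  have hu : ∀ z, z ∈ Y2 → D.Bz ⁅a, z⁆ = E.cm a z := by
    intro z hz
    have hmem : ⁅a, z⁆ ∈ Y2 := by
      rw [commutatorElement_def]; exact mul_mem (D.stable2 _ hz).1 (inv_mem hz)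
    rw [Bz, Z, dif_pos hmem]
    obtain ⟨hy', e'⟩ := (D.moves2 _ hmem).choose_spec
    let φ : Y2 → Y2 := fun v => ⟨⁅a, (v : G)⁆, by
      rw [commutatorElement_def]; exact mul_mem (D.stable2 _ v.2).1 (inv_mem v.2)⟩
    have hinj : Function.Injective φ := Finite.injective_iff_surjective.2 fun v => by
      obtain ⟨w, hw, ew⟩ := D.moves2 v v.2
      exact ⟨⟨w, hw⟩, Subtype.ext ew⟩
    exact congrArg (E.cm a) (congrArg Subtype.val
      (hinj (a₁ := ⟨_, hy'⟩) (a₂ := ⟨z, hz⟩) (Subtype.ext e')))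
  have hmem : ⁅a, t * v0 * t⁻¹⁆ ∈ Y2 := by
    rw [commutatorElement_def]; exact mul_mem (D.stable2 _ hv0').1 (inv_mem hv0')
  rw [show E.lift t * (D.Bz ⁅a, v0⁆ * m) * (E.lift t)⁻¹ =
    (E.lift t * D.Bz ⁅a, v0⁆ * (E.lift t)⁻¹) * (E.lift t * m * (E.lift t)⁻¹) by group, hu _ hv0,
    E.conj_cm (E.proj_lift t), hat, ← hu _ hv0']
  exact mul_mem (D.Bz_mem hmem) (D.M3_le_M (D.conj_t_M3 ht hm))

theorem cm0e {u : G} (hu : u ∈ Y0) : E.cm u e ∈ D.M := by
  obtain ⟨u', hu', rfl⟩ := D.moves0 u hu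
  obtain ⟨v, hv, y, hy, k, hk, e0⟩ := D.br0e u' hu'
  obtain ⟨m, hm, em⟩ := D.M_lift hv hy hk
  set z := E.cm u' e * m⁻¹ with hzdef
  have hz1 : E.proj z = 1 := by
    rw [hzdef, map_mul, map_inv, E.proj_cm, em, ← e0, mul_inv_cancel]
  have hz := E.ker_central hz1
  have h1 : E.cm u' e = z * m := by rw [hzdef, inv_mul_cancel_right]
  have haC : a * e * a⁻¹ = e := by
    rw [(D.fix_e a (by simp)).1.eq, mul_inv_cancel_right]
  set L := E.lift a
  have h2 : E.cm (a * u' * a⁻¹) e = z * (L * m * L⁻¹) := by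
    have := E.conj_cm (E.proj_lift a) u' e
    rw [haC] at this
    rw [← this, h1]
    calc L * (z * m) * L⁻¹ = (L * z) * m * L⁻¹ := by group
      _ = _ := by rw [hz L]; group
  set U := E.lift u'
  have h3 : E.cm u'⁻¹ e = (U⁻¹ * m⁻¹ * U) * z⁻¹ := by
    rw [← E.cm_eq (a := U⁻¹) (b := E.lift e) (by rw [map_inv, E.proj_lift]) (E.proj_lift e)]
    calc ⁅U⁻¹, E.lift e⁆ = U⁻¹ * (⁅U, E.lift e⁆)⁻¹ * U := by
          simp only [commutatorElement_def]; group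
      _ = U⁻¹ * m⁻¹ * (z⁻¹ * U) := by
          rw [E.cm_eq (E.proj_lift u') (E.proj_lift e), h1]; group
      _ = _ := by rw [((show Commute U z from hz U).inv_right).eq.symm]; group
  set U' := E.lift (a * u' * a⁻¹)
  rw [commutatorElement_def, E.cm_mul_left, h2, h3]
  have e4 : U' * ((U⁻¹ * m⁻¹ * U) * z⁻¹) * U'⁻¹ * (z * (L * m * L⁻¹)) =
      U' * (U⁻¹ * m⁻¹ * U) * U'⁻¹ * (L * m * L⁻¹) := by
    calc U' * ((U⁻¹ * m⁻¹ * U) * z⁻¹) * U'⁻¹ * (z * (L * m * L⁻¹))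
        = U' * (U⁻¹ * m⁻¹ * U) * (z⁻¹ * (U'⁻¹ * z)) * (L * m * L⁻¹) := by group
      _ = _ := by rw [hz U'⁻¹]; group
  rw [e4]
  refine mul_mem (D.conj0_M (D.stable0 _ hu').1 (E.proj_lift _) ?_) (D.conj_t_M (by simp) hm)
  have := D.conj0_M (inv_mem hu') (Qq := U⁻¹) (by rw [map_inv, E.proj_lift]) (inv_mem hm)
  rwa [inv_inv] at this

/-- The unipotent group is killed. -/
theorem killed : E.Killed (closure ((Y0 : Set G) ∪ Y2 ∪ Y3 ∪ {e, f, g})) := by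
  let H := closure ((Y0 : Set G) ∪ Y2 ∪ Y3 ∪ {e, f, g})
  let S : Set X := {x | E.proj x ∈ Y0} ∪ {x | E.proj x = e} ∪ {x | x ∈ D.M} ∪ {x | E.proj x = 1}
  have hker : ∀ {x : X}, E.proj x = 1 → ∀ y : X, y * x = x * y := fun h y => E.ker_central h y
  have hnorm : ∀ x ∈ S, ∀ m ∈ D.M, x * m * x⁻¹ ∈ D.M := by
    rintro x (((hx | hx) | hx) | hx) m hm
    · exact D.conj0_M hx rfl hm
    · exact D.conj_e_M hx hm
    · exact mul_mem (mul_mem hx hm) (inv_mem hx)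
    · rw [← hker hx m, mul_inv_cancel_right]; exact hm
  have hnorm' : ∀ x ∈ closure S, ∀ m ∈ D.M, x * m * x⁻¹ ∈ D.M := by
    intro x hx
    induction hx using closure_induction with
    | mem x hx => exact hnorm x hx
    | one => intro m hm; simpa using hm
    | mul x y _ _ ihx ihy =>
      intro m hm
      rw [show x * y * m * (x * y)⁻¹ = x * (y * m * y⁻¹) * x⁻¹ by group]
      exact ihx _ (ihy m hm)
    | inv x _ ih =>
      intro m hm
      have hM : Nat.card D.M ≠ 0 := by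
        haveI : Finite D.M := Finite.of_injective (fun m : D.M => E.proj (m : X)) fun m m' e' =>
          Subtype.ext (mul_inv_eq_one.1 (D.M_ker (mul_mem m.2 (inv_mem m'.2))
            (by rw [map_mul, map_inv, show E.proj (m : X) = E.proj m' from e', mul_inv_cancel])))
        exact Nat.card_pos.ne'
      haveI : Finite D.M := Nat.finite_of_card_ne_zero hM
      have hle : D.M.map (MulAut.conj x).toMonoidHom ≤ D.M := by
        rintro _ ⟨m, hm, rfl⟩; exact ih m hm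
      have heq := Subgroup.eq_of_le_of_card_ge hle
        (Nat.card_congr (Subgroup.equivMapOfInjective D.M _ (MulAut.conj x).injective).toEquiv).le
      obtain ⟨m', hm', rfl⟩ := heq.ge hm
      show x⁻¹ * (x * m' * x⁻¹) * x⁻¹⁻¹ ∈ D.M
      rwa [show x⁻¹ * (x * m' * x⁻¹) * x⁻¹⁻¹ = m' by group]
  have hgen : ∀ x ∈ S, ∀ y ∈ S, ⁅x, y⁆ ∈ D.M := by
    have hM1 : ∀ x ∈ S, ∀ y ∈ D.M, ⁅x, y⁆ ∈ D.M := fun x hx y hy => by
      rw [commutatorElement_def]; exact mul_mem (hnorm x hx y hy) (inv_mem hy)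
    have hz : ∀ {x : X}, E.proj x = 1 → ∀ y : X, ⁅y, x⁆ ∈ D.M := fun h y => by
      rw [commutatorElement_eq_one_iff_commute.2 (hker h y)]; exact one_mem _
    intro x hx y hy
    have hx0 := hx
    have hy0 := hy
    rcases hx with ((hx | hx) | hx) | hx
    · rcases hy with ((hy | hy) | hy) | hy
      · rw [E.cm_eq (a := x) (b := y) rfl rfl, D.self0 _ hx _ hy]; exact one_mem _
      · rw [E.cm_eq (a := x) rfl hy]; exact D.cm0e hx
      · exact hM1 x hx0 y hy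
      · exact hz hy x
    · rcases hy with ((hy | hy) | hy) | hy
      · rw [← commutatorElement_inv, E.cm_eq (a := y) rfl hx]
        exact inv_mem (D.cm0e hy)
      · rw [E.cm_eq hx hy, E.cm_self]; exact one_mem _
      · exact hM1 x hx0 y hy
      · exact hz hy x
    · rw [← commutatorElement_inv]; exact inv_mem (hM1 y hy0 x hx)
    · rw [← commutatorElement_inv]; exact inv_mem (hz hx y)
  have hcomm : ∀ x ∈ closure S, ∀ y ∈ closure S, ⁅x, y⁆ ∈ D.M := by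
    have h1 : ∀ x ∈ S, ∀ y ∈ closure S, ⁅x, y⁆ ∈ D.M := by
      intro x hx y hy
      induction hy using closure_induction with
      | mem y hy => exact hgen x hx y hy
      | one => rw [commutatorElement_one_right]; exact one_mem _
      | mul y y' hy _ ih ih' =>
        rw [show ⁅x, y * y'⁆ = ⁅x, y⁆ * (y * ⁅x, y'⁆ * y⁻¹) by
          simp only [commutatorElement_def]; group]
        exact mul_mem ih (hnorm' y hy _ ih')
      | inv y hy ih =>
        rw [show ⁅x, y⁻¹⁆ = y⁻¹ * ⁅x, y⁆⁻¹ * y⁻¹⁻¹ by simp only [commutatorElement_def]; group]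
        exact hnorm' _ (inv_mem hy) _ (inv_mem ih)
    intro x hx y hy
    induction hx using closure_induction with
    | mem x hx => exact h1 x hx y hy
    | one => rw [commutatorElement_one_left]; exact one_mem _
    | mul x x' hx _ ih ih' =>
      rw [show ⁅x * x', y⁆ = (x * ⁅x', y⁆ * x⁻¹) * ⁅x, y⁆ by
        simp only [commutatorElement_def]; group]
      exact mul_mem (hnorm' x hx _ ih') ih
    | inv x hx ih =>
      rw [show ⁅x⁻¹, y⁆ = x⁻¹ * ⁅x, y⁆⁻¹ * x⁻¹⁻¹ by simp only [commutatorElement_def]; group]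
      exact hnorm' _ (inv_mem hx) _ (inv_mem ih)
  have hle : E.pre H ≤ closure S := by
    intro x hx
    have key : ∀ h ∈ H, ∃ x' ∈ closure S, E.proj x' = h := by
      intro h hh
      refine (show H ≤ (closure S).map E.proj from (closure_le _).2 ?_) hh
      rintro z (((hz | hz) | hz) | hz)
      · exact ⟨E.lift z, subset_closure (Or.inl (Or.inl (Or.inl
          (show E.proj (E.lift z) ∈ Y0 by rw [E.proj_lift]; exact hz)))), E.proj_lift z⟩
      · exact ⟨D.Bz z, subset_closure (Or.inl (Or.inr (D.Bz_mem hz))), D.proj_Bz hz⟩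
      · exact ⟨D.Cz z, subset_closure (Or.inl (Or.inr (D.M3_le_M
          ⟨z, hz, 1, one_mem _, (mul_one _).symm⟩))), D.proj_Cz hz⟩
      · rcases (show z = e ∨ z = f ∨ z = g by simpa using hz) with rfl | rfl | rfl
        · exact ⟨E.lift z, subset_closure (Or.inl (Or.inl (Or.inr (E.proj_lift z)))),
            E.proj_lift z⟩
        · exact ⟨D.ff, subset_closure (Or.inl (Or.inr (D.M3_le_M (D.K4_le_M3 D.ff_mem)))),
            D.proj_ff⟩
        · exact ⟨D.cc, subset_closure (Or.inl (Or.inr (D.M3_le_M (D.K4_le_M3 D.cc_mem)))),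
            D.proj_cc⟩
    obtain ⟨x', hx', e'⟩ := key _ hx
    rw [show x = x' * (x'⁻¹ * x) by group]
    exact mul_mem hx' (subset_closure (Or.inr
      (show E.proj (x'⁻¹ * x) = 1 by rw [map_mul, map_inv, e', inv_mul_cancel])))
  intro z hz h1
  exact D.M_ker ((commutator_le.2 fun x hx y hy => hcomm x (hle hx) y (hle hy)) hz) h1

end TwoData

end Cfsg.Agent.H74.RootExt
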