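import Cfsg.Agent.H74.RootExt.D4Killed
import Cfsg.Agent.H74.RootExt.TwoPairing
import Mathlib.Algebra.CharP.Two

/-!
`³D₄(2)`: the unipotent radical is killed in extensions by a kernel of prime order.
-/

set_option autoImplicit false
set_option maxRecDepth 100000
set_option linter.unusedSectionVars false

namespace Cfsg.Agent.H74.RootExt.D4.Two

open Cfsg.Lie Cfsg.Agent.H37 Cfsg.Agent.H37.RootSys Cfsg.Agent.H37.Twist Cfsg.Agent.H37.Twist.D4
open Cfsg.Agent.H56.TwAut Cfsg.Agent.H74.RootExt.Tw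
open scoped commutatorElement

theorem rh_tables :
    (∀ i : Fin 6, ∀ r ∈ D4.O i, r < chevD4.nroots ∧ tables.rh (tables.rh (tables.rh r)) = r ∧
      tables.rh r ∈ D4.O i) ∧
    (∀ i : Fin 6, ((D4.O i).map tables.rh).Perm (D4.O i)) ∧
    tables.rh 14 = 14 ∧ tables.rh 22 = 22 ∧ tables.rh 23 = 23 ∧
    tables.rh 12 = 18 ∧ tables.rh 18 = 13 := by
  decide +kernel

theorem cartan_tables : ∀ m : Fin 4,
    chevD4.cartan m.val 15 = chevD4.cartan m.val 12 + chevD4.cartan m.val 14 ∧
    chevD4.cartan m.val 17 = chevD4.cartan m.val 15 + chevD4.cartan m.val 13 := by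
  decide +kernel

theorem single_tables : ∀ x ∈ [(15, 12, 14), (16, 13, 14), (19, 18, 14), (23, 14, 22), (23, 15, 21),
    (23, 16, 20), (23, 19, 17)],
    x.2.1 < chevD4.nroots ∧ x.2.2 < chevD4.nroots ∧ x.2.1 ≠ x.2.2 ∧
    x.2.1 ≠ chevD4.neg x.2.2 ∧
    (chevD4.commTerms x.2.2 x.2.1 = [(x.1, 1, 1, 1)] ∨
      chevD4.commTerms x.2.2 x.2.1 = [(x.1, -1, 1, 1)]) := by
  decide +kernel

theorem commute_tables :
    (∀ s ∈ [12, 13, 18, 15, 16, 19, 17, 20, 21, 22], commB chevD4 [22, s] = true) ∧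
    (∀ s ∈ [12, 13, 18, 15, 16, 19, 17, 20, 21, 22, 14, 23], commB chevD4 [23, s] = true) ∧
    (∀ s ∈ [15, 16, 19, 17, 20, 21], commB chevD4 [14, s] = true) ∧
    (∀ p ∈ [(15, 20), (15, 17), (16, 21), (16, 17), (19, 21), (19, 20)],
      commB chevD4 [p.1, p.2] = true) := by
  decide +kernel

theorem weyl_tables :
    chevD4.simple 1 = 14 ∧ (∀ r ∈ D4.O 0, Weyl.certD4.sigma 1 r ∈ D4.O 2) ∧
    (∀ r ∈ D4.O 3, Weyl.certD4.sigma 1 r ∈ D4.O 3) ∧ Weyl.certD4.sigma 1 22 = 23 := by
  decide +kernel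

variable {K : Type*} [Field K] [Fintype K] {φ : K →+* K}

theorem charTwo (hK : Fintype.card K = 2 ^ 3) : CharP K 2 := by
  refine CharTwo.of_one_ne_zero_of_two_eq_zero one_ne_zero ?_
  have h := FiniteField.cast_card_eq_zero K
  rw [hK, Nat.cast_pow] at h
  exact eq_zero_of_pow_eq_zero (h : ((2 : ℕ) : K) ^ 3 = 0)

variable (hφ : ∀ t, φ t = t ^ 2) (hK : Fintype.card K = 2 ^ 3)

include hK in
theorem units_seven (c : Kˣ) : c ^ 7 = 1 := by
  classical
  have h : c ^ Fintype.card Kˣ = 1 := pow_card_eq_one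
  rwa [Fintype.card_units, hK] at h

include hK in
theorem sq_eq_one {v : Kˣ} (h : (v : K) ^ 2 = 1) : v = 1 := by
  haveI := charTwo hK
  refine Units.ext (CharTwo.add_eq_zero.1 (eq_zero_of_pow_eq_zero (n := 2) ?_))
  rw [CharTwo.add_sq, h, Units.val_one, one_pow, CharTwo.add_self_eq_zero]

include hφ in
theorem f_eq {r : ℕ} (hr : r < chevD4.nroots) (t : K) : (endo φ).f r t = t ^ 2 := by
  have hf : ∀ t, (endo φ).f r t = (Sym.dataD4a.sg r : K) * t ^ 2 := fun t =>
    (graphEndo_f r t).trans (by rw [hφ])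
  have h0 := ((endo φ).f_inv r hr 1 one_ne_zero).1
  rw [hf, one_pow, mul_one] at h0
  have h1 : (Sym.dataD4a.sg r : K) * (Sym.dataD4a.sg r : K) = (Sym.dataD4a.sg r : K) * 1 := by
    rw [mul_one, ← sq, ← hφ, map_intCast]
  rw [hf, mul_left_cancel₀ h0 h1, one_mul]

include hφ in
theorem σ_one {r : ℕ} (hr : r < chevD4.nroots) :
    (endo φ).σ (xe r (1 : K)) = xe (tables.rh r) 1 := by
  rw [xe, (endo φ).σ_x r hr, f_eq hφ hr, one_pow]
  rfl

omit [Fintype K] in
theorem commute_of_table {r s : ℕ} (h : commB chevD4 [r, s] = true) (t u : K) :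
    Commute (xe r t) (xe s u) :=
  commute_xG (QD K) h (by simp) (by simp) t u

include hK in
theorem comm_single {k r s : ℕ} (h : (k, r, s) ∈ [(15, 12, 14), (16, 13, 14), (19, 18, 14),
    (23, 14, 22), (23, 15, 21), (23, 16, 20), (23, 19, 17)]) :
    ⁅xe r (1 : K), xe s (1 : K)⁆ = xe k 1 := by
  haveI := charTwo hK
  obtain ⟨hr, hs, h1, h2, hc⟩ := single_tables _ h
  dsimp only at hr hs h1 h2 hc
  refine Subtype.ext ?_
  show (QD K).K.xU K r 1 * (QD K).K.xU K s 1 * ((QD K).K.xU K r 1)⁻¹ * ((QD K).K.xU K s 1)⁻¹ =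
    (QD K).K.xU K k 1
  have he := (QD K).K.xU_comm K hs hr h1 h2 (1 : K) 1
  have hinv : ∀ x, ((QD K).K.xU K x (1 : K))⁻¹ = (QD K).K.xU K x 1 := fun x => by
    rw [(QD K).K.xU_inv, CharTwo.neg_eq]
  rw [hinv, hinv, mul_assoc ((QD K).K.xU K r 1 * (QD K).K.xU K s 1)]
  nth_rw 2 [he]
  rw [show ∀ a b w : GL chevD4.Idx K, a * b * (b * a * w) = a * (b * b) * a * w from
      fun a b w => by group,
    (QD K).K.xU_add, CharTwo.add_self_eq_zero, (QD K).K.xU_zero, mul_one, (QD K).K.xU_add,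
    CharTwo.add_self_eq_zero, (QD K).K.xU_zero, one_mul]
  rcases hc with hc | hc <;>
    simp [ChevalleyDatum.commWord, hc, CharTwo.neg_eq, Chevalley.Cert.wU_cons,
      Chevalley.Cert.wU_nil]

include hφ in
theorem fixed_ones (i : Fin 6) {L : List ℕ} (hL : L.Perm (D4.O i)) :
    (endo φ).σ (L.map fun r => xe r (1 : K)).prod = (L.map fun r => xe r (1 : K)).prod := by
  rw [map_list_prod, List.map_map, List.map_congr_left
    (f := ⇑(endo φ).σ ∘ fun r => xe r (1 : K)) (g := (fun r => xe r (1 : K)) ∘ tables.rh) fun r hr =>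
      σ_one hφ (rh_tables.1 i r (hL.mem_iff.1 hr)).1]
  refine List.Perm.prod_eq' ?_ ?_
  · rw [← List.map_map]
    exact (((hL.map _).trans (rh_tables.2.1 i)).trans hL.symm).map _
  · refine List.pairwise_map.2 (List.pairwise_of_forall_mem_list fun a ha b hb => ?_)
    exact commute_xG (QD K) ((orbits K).comm i)
      (rh_tables.1 i a (hL.mem_iff.1 ha)).2.2 (rh_tables.1 i b (hL.mem_iff.1 hb)).2.2 _ _

omit [Fintype K] in
theorem ones_mem (i : Fin 6) {L : List ℕ} (hL : ∀ r ∈ L, r ∈ D4.O i) :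
    (L.map fun r => xe r (1 : K)).prod ∈
      XS (QD K).sys.x (↑(D4.O i).toFinset : Set ℕ) := by
  refine Subgroup.list_prod_mem _ fun g hg => ?_
  obtain ⟨r, hr, rfl⟩ := List.mem_map.1 hg
  exact x_mem_XS (by simpa using hL r hr) (1 : K)

include hφ in
theorem hf2 (r : ℕ) (hr : r < chevD4.nroots) :
    (endo φ).f r 1 ≠ 0 ∧ ∀ t, (endo φ).f r t = (endo φ).f r 1 * t ^ 2 := by
  refine ⟨by rw [f_eq hφ hr, one_pow]; exact one_ne_zero, fun t => ?_⟩
  rw [f_eq hφ hr, f_eq hφ hr, one_pow, one_mul]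

omit [Fintype K] in
theorem chT_sum (c : Fin chevD4.rank → Kˣ) {k r s : ℕ}
    (h : ∀ m : Fin chevD4.rank, chevD4.cartan m.val k =
      chevD4.cartan m.val r + chevD4.cartan m.val s) : chT c k = chT c r * chT c s := by
  simp only [chT, h, zpow_add, Finset.prod_mul_distrib]

include hφ hK

/-- The twisted group. -/
local notation "Md" => model hφ hK

theorem chT_step {c : Fin chevD4.rank → Kˣ} (hc : (endo φ).hat (fun _ => 2) c = c) {r : ℕ}
    (hr : r < chevD4.nroots) : (chT c (tables.rh r) : K) = (chT c r : K) ^ 2 :=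
  chT_rh (endo φ) (noSign hφ) (hf2 hφ) hc hr

theorem exists_param {s : ↥(Md).T} (hs : s ∈ T Md) :
    ∃ c, (endo φ).hat (fun _ => 2) c = c ∧ lift Md s = tG (QD K) c := by
  obtain ⟨c, hc, e⟩ := exists_fixed hφ hK ((H56.TwAut.mem_H Md).1 hs) (fixed_lift (Md) s)
  exact ⟨c, hc, e.symm⟩

theorem coord_rh {i : Fin 6} {x : ↥(Md).T} {t : ℕ → K}
    (e : lift Md x = xprod (QD K) (D4.O i) t) : ∀ r ∈ D4.O i, t (tables.rh r) = t r ^ 2 := by
  let t' : ℕ → K := fun s => t (tables.rh (tables.rh s)) ^ 2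
  have h := fixed_lift (Md) x
  rw [e] at h
  have h1 : (endo φ).σ (xprod (QD K) (D4.O i) t) = xprod (QD K) (D4.O i) t' := by
    rw [xprod, map_list_prod, List.map_map, xprod, List.map_congr_left
      (g := (fun s => xG (QD K).K K s (t' s)) ∘ tables.rh) fun r hr => by
        show (endo φ).σ (xG (QD K).K K r (t r)) = xG (QD K).K K (tables.rh r) (t' (tables.rh r))
        rw [(endo φ).σ_x r (rh_tables.1 i r hr).1, f_eq hφ (rh_tables.1 i r hr).1]
        show _ = xG (QD K).K K (tables.rh r) (t (tables.rh (tables.rh (tables.rh r))) ^ 2)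
        rw [(rh_tables.1 i r hr).2.1]
        rfl]
    refine List.Perm.prod_eq' ?_ ?_
    · rw [← List.map_map]
      exact (rh_tables.2.1 i).map _
    · refine List.pairwise_map.2 (List.pairwise_of_forall_mem_list fun a ha b hb => ?_)
      exact commute_xG (QD K) ((orbits K).comm i) (rh_tables.1 i a ha).2.2
        (rh_tables.1 i b hb).2.2 _ _
  intro r hr
  rw [coord_inj (E := endo φ) (orbits K) (h.symm.trans h1) _ (rh_tables.1 i r hr).2.2]
  show t (tables.rh (tables.rh (tables.rh r))) ^ 2 = _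
  rw [(rh_tables.1 i r hr).2.1]

theorem eq_of_coord {i : Fin 6} {r : ℕ} (hr : r ∈ D4.O i)
    (hcyc : ∀ s ∈ D4.O i, ∃ k : ℕ, tables.rh^[k] r = s) {x x' : ↥(Md).T} {t t' : ℕ → K}
    (e : lift Md x = xprod (QD K) (D4.O i) t) (e' : lift Md x' = xprod (QD K) (D4.O i) t')
    (h : t r = t' r) : x = x' := by
  refine lift_injective Md ?_
  rw [e, e']
  refine xprod_congr (QD K) fun s hs => ?_
  have key : ∀ k : ℕ, tables.rh^[k] r ∈ D4.O i ∧ t (tables.rh^[k] r) = t' (tables.rh^[k] r) := by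
    intro k
    induction k with
    | zero => exact ⟨hr, h⟩
    | succ k ih =>
      rw [Function.iterate_succ_apply']
      exact ⟨(rh_tables.1 i _ ih.1).2.2, by rw [coord_rh hφ hK e _ ih.1, coord_rh hφ hK e' _ ih.1, ih.2]⟩
  obtain ⟨k, rfl⟩ := hcyc s hs
  exact (key k).2

theorem single_cases {i : Fin 6} {r : ℕ} (hO : D4.O i = [r]) (hrh : tables.rh r = r)
    {x : ↥(Md).T} (hx : x ∈ Y Md D4.O i) : x = 1 ∨ lift Md x = xe r 1 := by
  obtain ⟨t, et⟩ := exists_coord Md (orbits K) hx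
  have h := coord_rh hφ hK et r (by rw [hO]; simp)
  rw [hrh] at h
  rw [hO, show xprod (QD K) [r] t = xG (QD K).K K r (t r) by simp [xprod]] at et
  by_cases h0 : t r = 0
  · left
    refine lift_injective Md (et.trans ?_)
    rw [h0]
    exact ((QD K).sys.x_zero' ((orbits K).pos i r (by rw [hO]; simp)).1).trans
      (map_one (liftHom Md)).symm
  · right
    rw [et, show t r = 1 from mul_left_cancel₀ h0 (by rw [mul_one, ← sq, ← h])]

omit hφ in
theorem center_comm :
    ⁅xe 15 (1 : K) * (xe 16 1 * xe 19 1), xe 21 (1 : K) * (xe 20 1 * xe 17 1)⁆ = xe 23 1 := by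
  haveI := charTwo hK
  obtain ⟨-, cg, -, cp⟩ := commute_tables
  have hG : ∀ s ∈ [15, 16, 19, 21, 20, 17], xe s (1 : K) * xe 23 1 = xe 23 1 * xe s 1 :=
    fun s hs => (commute_of_table (cg s (by revert s; decide)) _ _).eq.symm
  have hc : ∀ {r s : ℕ}, (r, s) ∈ [(15, 20), (15, 17), (16, 21), (16, 17), (19, 21), (19, 20)] →
      xe r (1 : K) * xe s 1 = xe s 1 * xe r 1 := fun h' => (commute_of_table (cp _ h') _ _).eq
  have hs : ∀ {r s : ℕ}, (23, r, s) ∈ [(15, 12, 14), (16, 13, 14), (19, 18, 14),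
      (23, 14, 22), (23, 15, 21), (23, 16, 20), (23, 19, 17)] →
      xe r (1 : K) * xe s 1 = xe 23 1 * (xe s 1 * xe r 1) := by
    intro r s h'
    rw [← comm_single hK h', commutatorElement_def]
    group
  have hGG : xe 23 (1 : K) * xe 23 1 = 1 := by
    refine ((QD K).sys.x_add' 23 (by decide) 1 1).symm.trans ?_
    rw [CharTwo.add_self_eq_zero]
    exact (QD K).sys.x_zero' (by decide)
  have g15 := hG 15 (by decide)
  have g16 := hG 16 (by decide)
  have g21 := hG 21 (by decide)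
  have g20 := hG 20 (by decide)
  have p21 := hs (r := 15) (s := 21) (by decide)
  have p20 := hs (r := 16) (s := 20) (by decide)
  have p17 := hs (r := 19) (s := 17) (by decide)
  have c1 := hc (r := 15) (s := 20) (by decide)
  have c2 := hc (r := 15) (s := 17) (by decide)
  have c3 := hc (r := 16) (s := 21) (by decide)
  have c4 := hc (r := 16) (s := 17) (by decide)
  have c5 := hc (r := 19) (s := 21) (by decide)
  have c6 := hc (r := 19) (s := 20) (by decide)
  clear hG hc hs cg cp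
  generalize xe 15 (1 : K) = a15 at *
  generalize xe 16 (1 : K) = a16 at *
  generalize xe 19 (1 : K) = a19 at *
  generalize xe 21 (1 : K) = a21 at *
  generalize xe 20 (1 : K) = a20 at *
  generalize xe 17 (1 : K) = a17 at *
  generalize xe 23 (1 : K) = G' at *
  set y := a21 * (a20 * a17) with hy
  have e15 : a15 * y = G' * (y * a15) := by
    calc a15 * y = a15 * a21 * (a20 * a17) := by rw [hy]; group
      _ = G' * (a21 * (a15 * a20) * a17) := by rw [p21]; group
      _ = G' * (a21 * a20 * (a15 * a17)) := by rw [c1]; group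
      _ = _ := by rw [c2, hy]; group
  have e16 : a16 * y = G' * (y * a16) := by
    calc a16 * y = a16 * a21 * (a20 * a17) := by rw [hy]; group
      _ = a21 * (a16 * a20) * a17 := by rw [c3]; group
      _ = (a21 * G') * (a20 * (a16 * a17)) := by rw [p20]; group
      _ = _ := by rw [g21, c4, hy]; group
  have e19 : a19 * y = G' * (y * a19) := by
    calc a19 * y = a19 * a21 * (a20 * a17) := by rw [hy]; group
      _ = a21 * (a19 * a20) * a17 := by rw [c5]; group
      _ = a21 * a20 * (a19 * a17) := by rw [c6]; group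
      _ = a21 * (a20 * G') * (a17 * a19) := by rw [p17]; group
      _ = a21 * G' * (a20 * a17 * a19) := by rw [g20]; group
      _ = _ := by rw [g21, hy]; group
  rw [commutatorElement_def]
  have key : a15 * (a16 * a19) * y = G' * (y * (a15 * (a16 * a19))) := by
    calc a15 * (a16 * a19) * y = a15 * a16 * (a19 * y) := by group
      _ = a15 * (a16 * G') * (y * a19) := by rw [e19]; group
      _ = a15 * G' * ((a16 * y) * a19) := by rw [g16]; group
      _ = G' * (a15 * (a16 * y) * a19) := by rw [g15]; group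
      _ = G' * ((a15 * G') * y * a16 * a19) := by rw [e16]; group
      _ = (G' * G') * ((a15 * y) * a16 * a19) := by rw [g15]; group
      _ = _ := by rw [hGG, one_mul, e15]; group
  rw [key]
  group

theorem lead_ne (hC : ⁅xe 18 (1 : K) * (xe 13 1 * xe 12 1), xe 14 (1 : K)⁆ ∈
    XS (QD K).sys.x (↑(SS D4.O 3) : Set ℕ)) : False := by
  have h := orbits K
  have hmem : ∀ (i : Fin 6) (r : ℕ), r ∈ D4.O i →
      xe r (1 : K) ∈ XS (QD K).sys.x (↑(D4.O i).toFinset : Set ℕ) :=
    fun i r hr => x_mem_XS (by simpa using hr) (1 : K)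
  have hnorm : ∀ d ∈ XS (QD K).sys.x (↑(SS D4.O 3) : Set ℕ),
      xe 15 (1 : K) * d * (xe 15 (1 : K))⁻¹ ∈ XS (QD K).sys.x (↑(SS D4.O 3) : Set ℕ) := by
    intro d hd
    refine conj_mem_XS (fun s hs t => ?_) hd
    obtain ⟨l, hl, hsl⟩ := mem_SS.1 (Finset.mem_coe.1 hs)
    rw [show xe 15 (1 : K) * (QD K).sys.x s t * (xe 15 (1 : K))⁻¹ =
      ⁅xe 15 (1 : K), (QD K).sys.x s t⁆ * (QD K).sys.x s t by
        simp only [commutatorElement_def]; group]
    refine mul_mem (XS_mono (fun z hz => ?_) (h.comm_SS (hmem 2 15 (by decide))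
      (x_mem_XS (show s ∈ (↑(D4.O l).toFinset : Set ℕ) by simpa using hsl) t))) (x_mem_XS hs t)
    obtain ⟨l', hl', hz'⟩ := mem_SS.1 (Finset.mem_coe.1 hz)
    refine Finset.mem_coe.2 (mem_SS.2 ⟨l', ?_, hz'⟩)
    have h2 : ((2 : Fin 6) : ℕ) = 2 := rfl
    omega
  have hw12 := comm_single hK (k := 15) (r := 12) (s := 14) (by decide)
  have hw13 := comm_single hK (k := 16) (r := 13) (s := 14) (by decide)
  have hw18 := comm_single hK (k := 19) (r := 18) (s := 14) (by decide)
  have h1 : ⁅xe 18 (1 : K) * xe 13 1, xe 15 (1 : K)⁆ ∈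
      XS (QD K).sys.x (↑(SS D4.O 3) : Set ℕ) :=
    h.comm_SS (i := 0) (j := 2) (mul_mem (hmem 0 18 (by decide)) (hmem 0 13 (by decide)))
      (hmem 2 15 (by decide))
  have h2 := hnorm _ (h.comm_SS (i := 0) (j := 2) (hmem 0 18 (by decide)) (hmem 2 16 (by decide)))
  have hA : xe 15 (1 : K) * (xe 16 1 * xe 19 1) ∈
      XS (QD K).sys.x (↑(D4.O 2).toFinset : Set ℕ) :=
    mul_mem (hmem 2 15 (by decide)) (mul_mem (hmem 2 16 (by decide)) (hmem 2 19 (by decide)))
  rw [show ∀ a b c x w15 w16 w19 : ↥(chevD4.group K), ⁅c, x⁆ = w15 → ⁅b, x⁆ = w16 → ⁅a, x⁆ = w19 →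
      ⁅a * (b * c), x⁆ = ⁅a * b, w15⁆ * (w15 * ⁅a, w16⁆ * w15⁻¹) * (w15 * (w16 * w19)) from
    fun a b c x w15 w16 w19 e1 e2 e3 => by
      subst e1 e2 e3
      simp only [commutatorElement_def]
      group, Subgroup.mul_mem_cancel_left _ (mul_mem h1 h2)] at hC
  · have hone : xe 15 (1 : K) * (xe 16 1 * xe 19 1) = 1 := inter_bot (E := endo φ) h (2 : Fin 6) hA hC
    have hv : xprod (QD K) (D4.O 2) (fun _ => (1 : K)) =
        xprod (QD K) (D4.O 2) (fun _ => (0 : K)) := by
      rw [show D4.O 2 = [15, 16, 19] from rfl]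
      refine Eq.trans ?_ (hone.trans ?_)
      · simp [xprod]
      · symm
        refine List.prod_eq_one fun u hu => ?_
        obtain ⟨s, hs, rfl⟩ := List.mem_map.1 hu
        exact (QD K).sys.x_zero' (h.pos 2 s (by simpa [D4.O] using hs)).1
    exact one_ne_zero (coord_inj (E := endo φ) h hv 15 (by decide))
  · exact hw12
  · exact hw13
  · exact hw18

set_option maxHeartbeats 1000000 in
theorem killed {p : ℕ} {X : Type*} [Group X] (L : Linear.Mult.LExt p X ↥(Md).T) :
    L.Killed (Md).tw.U := by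
  classical
  haveI := charTwo hK
  have h := orbits K
  have hns := noSign (φ := φ) hφ
  have hadd2 : ∀ t u : K, (t + u) ^ 2 = t ^ 2 + u ^ 2 := fun t u => CharTwo.add_sq t u
  obtain ⟨-, -, r14, r22, r23, r12, r18⟩ := rh_tables
  obtain ⟨w14, w02, w33, w22⟩ := weyl_tables
  obtain ⟨cf, cg, ce, cp⟩ := commute_tables
  -- the involutions
  have hfx : ∀ {r}, r < chevD4.nroots → tables.rh r = r → (endo φ).σ (xe r (1 : K)) = xe r 1 :=
    fun hr h' => by rw [σ_one hφ hr, h']
  obtain ⟨e, ee⟩ := exists_mem (Md) (hfx (r := 14) (by decide) r14)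
  obtain ⟨f, ef⟩ := exists_mem (Md) (hfx (r := 22) (by decide) r22)
  obtain ⟨g, eg⟩ := exists_mem (Md) (hfx (r := 23) (by decide) r23)
  have he : e ∈ Y (Md) D4.O 1 := by
    rw [mem_Y, ee]; exact x_mem_XS (by decide) (1 : K)
  have hf : f ∈ Y (Md) D4.O 4 := by
    rw [mem_Y, ef]; exact x_mem_XS (by decide) (1 : K)
  have hg : g ∈ Y (Md) D4.O 5 := by
    rw [mem_Y, eg]; exact x_mem_XS (by decide) (1 : K)
  have hsingle : ∀ {i : Fin 6} {r : ℕ}, D4.O i = [r] → tables.rh r = r →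
      ∀ {z : ↥(Md).T}, lift (Md) z = xe r 1 → ∀ {x}, x ∈ Y (Md) D4.O i → x = 1 ∨ x = z := by
    intro i r hO hr z hz x hx
    exact (single_cases hφ hK hO hr hx).imp id fun h' => lift_injective (Md) (h'.trans hz.symm)
  have hup : ∀ {z : ↥(Md).T}, lift (Md) z ∈ XS (QD K).sys.x (↑(SS D4.O 4) : Set ℕ) →
      z ∈ Subgroup.closure ({f, g} : Set ↥(Md).T) := by
    intro z hz
    refine (show Pieces.Up (Y := Y (Md) D4.O) 4 ≤ Subgroup.closure ({f, g} : Set ↥(Md).T) from
      iSup_le fun k x hx => ?_) (mem_up_of_lift (Md) h 4 z hz)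
    obtain ⟨⟨k, hk⟩, hk'⟩ := k
    obtain rfl | rfl : k = 4 ∨ k = 5 := by simp only at hk'; omega
    · rcases hsingle (i := ⟨4, hk⟩) (r := 22) rfl r22 ef hx with rfl | rfl
      · exact one_mem _
      · exact Subgroup.subset_closure (by simp)
    · rcases hsingle (i := ⟨5, hk⟩) (r := 23) rfl r23 eg hx with rfl | rfl
      · exact one_mem _
      · exact Subgroup.subset_closure (by simp)
  have hlc : ∀ x y : ↥(Md).T, lift (Md) ⁅x, y⁆ = ⁅lift (Md) x, lift (Md) y⁆ := fun x y =>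
    map_commutatorElement (liftHom (Md)) x y
  -- commutation with the centre part
  have hcomm : ∀ {r : ℕ} {z : ↥(Md).T}, lift (Md) z = xe r 1 → ∀ {i : Fin 6},
      (∀ s ∈ D4.O i, commB chevD4 [r, s] = true) → ∀ x ∈ Y (Md) D4.O i, Commute z x := by
    intro r z hz i hi x hx
    refine lift_injective (Md) ?_
    rw [lift_mul, lift_mul, hz]
    obtain ⟨t, et⟩ := exists_coord (Md) h hx
    rw [et]
    exact (Commute.list_prod_right _ _ fun u hu => by
      obtain ⟨s, hs, rfl⟩ := List.mem_map.1 hu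
      exact commute_of_table (hi s hs) _ _).eq
  -- the torus
  obtain ⟨b, hb0, hb1⟩ : ∃ b : K, b ≠ 0 ∧ b ≠ 1 := by
    by_contra hcon
    push Not at hcon
    have hsub : (Finset.univ : Finset K) ⊆ {0, 1} := fun x _ => by
      by_cases h0 : x = 0
      · simp [h0]
      · simp [hcon x h0]
    have := (Finset.card_le_card hsub).trans Finset.card_le_two
    rw [Finset.card_univ, hK] at this
    omega
  have hb1' : b + 1 ≠ 0 := fun h' => hb1 (CharTwo.add_eq_zero.1 h')
  set β : Kˣ := Units.mk0 b hb0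
  have hβ : β ≠ 1 := fun h' => hb1 (congrArg Units.val h')
  have hβn : ∀ n : ℕ, n.Coprime 7 → β ^ n ≠ 1 := fun n hn h' => hβ (by
    have := pow_gcd_eq_one.2 ⟨h', units_seven hK β⟩
    rwa [hn.gcd_eq_one, pow_one] at this)
  have hb2 : b * b + b + 1 ≠ 0 := fun h' => hβn 3 (by decide) (Units.ext (by
    show b ^ 3 = 1
    linear_combination (b - 1) * h'))
  obtain ⟨r0, hR0⟩ := realised hφ hK 0 (Or.inl rfl)
  obtain ⟨r2, hR2⟩ := realised hφ hK 2 (Or.inr (Or.inl rfl))
  obtain ⟨r3, hR3⟩ := realised hφ hK 3 (Or.inr (Or.inr rfl))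
  have hreal : ∀ {i : Fin 6} {r r' : ℕ}, Realised (E := endo φ) (O := D4.O) 2 i r → r' ∈ D4.O i →
      ∀ v : Kˣ, ∃ c, (endo φ).hat (fun _ => 2) c = c ∧ chT c r' = v := by
    intro i r r' ⟨hcyc, hri, hb⟩ hr' v
    obtain ⟨k, rfl⟩ := hcyc r' hr'
    induction k generalizing v with
    | zero => exact hb v
    | succ k ih =>
      have hk : (endo φ).s.T.rh^[k] r ∈ D4.O i := by
        clear ih hr'
        induction k with
        | zero => exact hri
        | succ k ih => rw [Function.iterate_succ_apply']; exact h.stable i _ ih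
      obtain ⟨c, hc, ec⟩ := ih (v ^ 4) hk
      refine ⟨c, hc, Units.ext ?_⟩
      rw [Function.iterate_succ_apply',
        chT_rh (endo φ) hns (hf2 hφ) hc ((h.pos i _ hk).1), ec, Units.val_pow_eq_pow_val, ← pow_mul,
        show (v : K) ^ (4 * 2) = (v : K) ^ 7 * v by ring, ← Units.val_pow_eq_pow_val,
        units_seven hK v, Units.val_one, one_mul]
  obtain ⟨ca, hca, eca⟩ := hreal hR0 (r' := 12) (by decide) β
  obtain ⟨cc, hcc, ecc⟩ := hreal hR0 (r' := 12) (by decide) (Units.mk0 (b + 1) hb1')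
  obtain ⟨a, ea⟩ := exists_mem (Md) (g := tG (QD K) ca) (by rw [(endo φ).σ_tG hns, hca])
  obtain ⟨c, ec⟩ := exists_mem (Md) (g := tG (QD K) cc) (by rw [(endo φ).σ_tG hns, hcc])
  have haT := T_of_fixed (Md) ea
  have hcT := T_of_fixed (Md) ec
  have hfix1 : ∀ {cs : Fin chevD4.rank → Kˣ}, (endo φ).hat (fun _ => 2) cs = cs →
      ∀ {r}, r < chevD4.nroots → tables.rh r = r → chT cs r = 1 := by
    intro cs hcs r hr h'
    have e1 := chT_step hφ hK hcs hr
    rw [h', sq] at e1
    exact Units.ext (mul_left_cancel₀ (chT cs r).ne_zero (by rw [← e1, Units.val_one, mul_one]))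
  have h15 : ∀ {cs : Fin chevD4.rank → Kˣ}, (endo φ).hat (fun _ => 2) cs = cs →
      chT cs 15 = chT cs 12 ∧ chT cs 17 = chT cs 12 ^ 5 := by
    intro cs hcs
    have e15 : chT cs 15 = chT cs 12 := by
      rw [chT_sum cs (r := 12) (s := 14) fun m => (cartan_tables m).1,
        hfix1 hcs (by decide) r14, mul_one]
    refine ⟨e15, ?_⟩
    have e18 := chT_step hφ hK hcs (r := 12) (by decide)
    have e13 := chT_step hφ hK hcs (r := 18) (by decide)
    rw [r12] at e18
    rw [r18, e18] at e13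
    rw [chT_sum cs (r := 15) (s := 13) fun m => (cartan_tables m).2, e15]
    refine Units.ext ?_
    push_cast
    rw [e13]
    ring
  have hcyc : ∀ s, (s ∈ D4.O 0 → ∃ k : ℕ, tables.rh^[k] 12 = s) ∧
      (s ∈ D4.O 2 → ∃ k : ℕ, tables.rh^[k] 15 = s) ∧
      (s ∈ D4.O 3 → ∃ k : ℕ, tables.rh^[k] 17 = s) := fun s =>
    ⟨fun hs => (cycle_tables.1 s hs).elim fun k e => ⟨k.val, e⟩,
      fun hs => (cycle_tables.2.1 s hs).elim fun k e => ⟨k.val, e⟩,
      fun hs => (cycle_tables.2.2 s hs).elim fun k e => ⟨k.val, e⟩⟩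
  have hne : ∀ {i : Fin 6} {r : ℕ}, r ∈ D4.O i → (∀ s ∈ D4.O i, ∃ k : ℕ, tables.rh^[k] r = s) →
      chT ca r ≠ 1 → ∀ s ∈ D4.O i, chT ca s ≠ 1 := by
    intro i r hr hc hr1 s hs
    obtain ⟨k, rfl⟩ := hc s hs
    clear hs
    suffices tables.rh^[k] r ∈ D4.O i ∧ chT ca (tables.rh^[k] r) ≠ 1 from this.2
    induction k with
    | zero => exact ⟨hr, hr1⟩
    | succ k ih =>
      rw [Function.iterate_succ_apply']
      refine ⟨(rh_tables.1 i _ ih.1).2.2, fun h1 => ih.2 (sq_eq_one hK ?_)⟩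
      rw [← chT_step hφ hK hca (h.pos i _ ih.1).1, h1, Units.val_one]
  have hrel : ∀ {i : Fin 6} {r : ℕ}, r ∈ D4.O i → (∀ s ∈ D4.O i, ∃ k : ℕ, tables.rh^[k] r = s) →
      chT ca r = β → chT cc r = Units.mk0 (b + 1) hb1' → ∀ s ∈ D4.O i,
        (chT cc s : K) = (chT ca s : K) + 1 ∧
          (chT ca s : K) * (chT ca s : K) + (chT ca s : K) + 1 ≠ 0 := by
    intro i r hr hc hra hrc s hs
    obtain ⟨k, rfl⟩ := hc s hs
    clear hs
    suffices tables.rh^[k] r ∈ D4.O i ∧ _ from this.2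
    induction k with
    | zero =>
      rw [Function.iterate_zero_apply]
      refine ⟨hr, ?_⟩
      rw [hrc, hra]
      exact ⟨rfl, hb2⟩
    | succ k ih =>
      obtain ⟨hk, h1, h2⟩ := ih
      rw [Function.iterate_succ_apply']
      refine ⟨(rh_tables.1 i _ hk).2.2, ?_⟩
      rw [chT_step hφ hK hcc (h.pos i _ hk).1, chT_step hφ hK hca (h.pos i _ hk).1, h1, hadd2,
        one_pow]
      refine ⟨rfl, fun e' => h2 ?_⟩
      set v := (chT ca (tables.rh^[k] r) : K)
      have e2 : (v * v + v + 1) ^ 2 = 0 := by rw [hadd2, hadd2, one_pow, mul_pow]; exact e'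
      exact eq_zero_of_pow_eq_zero e2
  have hrel0 := hrel (i := 0) (r := 12) (by decide) (fun s => (hcyc s).1) eca ecc
  have hrel2 := hrel (i := 2) (r := 15) (by decide) (fun s => (hcyc s).2.1)
    ((h15 hca).1.trans eca) ((h15 hcc).1.trans ecc)
  have hzero : ∀ i, lift (Md) 1 = xprod (QD K) (D4.O i) fun _ => (0 : K) := by
    intro i
    refine (map_one (liftHom (Md))).trans ?_
    symm
    refine List.prod_eq_one fun u hu => ?_
    obtain ⟨s, hs, rfl⟩ := List.mem_map.1 hu
    exact (QD K).sys.x_zero' (h.pos i s hs).1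
  -- fixed elements of the centre part
  have hfixes : ∀ s ∈ T (Md), ∀ {i : Fin 6} {r : ℕ}, D4.O i = [r] → tables.rh r = r →
      ∀ z ∈ Y (Md) D4.O i, Commute s z := by
    intro s hs i r hO hr z hz
    obtain ⟨cs, hcs, ecs⟩ := exists_param hφ hK hs
    have := fixes_of (Md) h ecs (fun x hx => by
      rw [hO, List.mem_singleton] at hx
      rw [hx]
      exact hfix1 hcs (h.pos i r (by rw [hO]; simp)).1 hr) z hz
    exact mul_inv_eq_iff_eq_mul.1 this
  have hfixT : ∀ s ∈ T (Md), Commute s e ∧ Commute s f ∧ Commute s g := fun s hs =>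
    ⟨hfixes s hs (r := 14) rfl r14 e he, hfixes s hs (r := 22) rfl r22 f hf,
      hfixes s hs (r := 23) rfl r23 g hg⟩
  have hT : ∀ t ∈ ({a, c} : Set ↥(Md).T), t ∈ T (Md) := by
    rintro t (rfl | rfl)
    · exact haT
    · exact hcT
  have hinv : ∀ {r : ℕ}, r < chevD4.nroots → ∀ {z : ↥(Md).T}, lift (Md) z = xe r 1 → z * z = 1 := by
    intro r hr z hz
    refine lift_injective (Md) ?_
    rw [lift_mul, hz, show lift (Md) 1 = (1 : ↥(chevD4.group K)) from map_one (liftHom (Md)),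
      ← (QD K).sys.x_zero' hr, ← CharTwo.add_self_eq_zero (1 : K)]
    exact ((QD K).sys.x_add' r hr 1 1).symm
  have hcop : ∀ t ∈ T (Md), ∀ z : ↥(Md).T, z * z = 1 → Commute t z → L.cm t z = 1 := by
    intro t ht z hz htz
    refine L.cm_eq_one_of_coprime htz
      (Nat.Coprime.of_dvd (orderOf_dvd_of_pow_eq_one ?_)
        (orderOf_dvd_of_pow_eq_one ((sq z).trans hz)) (show Nat.Coprime 7 2 by decide))
    obtain ⟨cs, ecs⟩ := T_conj (Md) ht
    refine lift_injective (Md) ?_
    show liftHom (Md) (t ^ 7) = liftHom (Md) 1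
    rw [map_pow, map_one, show liftHom (Md) t = tG (QD K) cs from ecs.symm, ← map_pow,
      show cs ^ 7 = 1 from funext fun m => units_seven hK (cs m), map_one]
  -- explicit elements
  obtain ⟨u0, eu0⟩ := exists_mem (Md) (fixed_ones hφ (K := K) 0 (L := [18, 13, 12]) (by decide))
  obtain ⟨v1, ev1⟩ := exists_mem (Md) (fixed_ones hφ (K := K) 2 (L := [15, 16, 19]) (by decide))
  obtain ⟨y1, ey1⟩ := exists_mem (Md) (fixed_ones hφ (K := K) 3 (L := [21, 20, 17]) (by decide))
  have hu0 : u0 ∈ Y (Md) D4.O 0 := by rw [mem_Y, eu0]; exact ones_mem 0 (by decide)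
  have hv1 : v1 ∈ Y (Md) D4.O 2 := by rw [mem_Y, ev1]; exact ones_mem 2 (by decide)
  have hy1 : y1 ∈ Y (Md) D4.O 3 := by rw [mem_Y, ey1]; exact ones_mem 3 (by decide)
  have hg_eq : ⁅v1, y1⁆ = g := by
    refine lift_injective (Md) ?_
    rw [hlc, ev1, ey1, eg]
    simp only [List.map_cons, List.map_nil, List.prod_cons, List.prod_nil, mul_one]
    exact center_comm hK
  -- brackets
  have hbr : ∀ {i j : Fin 6} {x x' : ↥(Md).T}, x ∈ Y (Md) D4.O i → x' ∈ Y (Md) D4.O j →
      ∀ m : ℕ, max i.val j.val + 1 = m →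
      lift (Md) ⁅x, x'⁆ ∈ XS (QD K).sys.x (↑(SS D4.O m) : Set ℕ) :=
    fun hx hx' m em => by rw [hlc, ← em]; exact h.comm_SS hx hx'
  have hcast : ∀ {z : ↥(Md).T} (m n : ℕ), m = n →
      lift (Md) z ∈ XS (QD K).sys.x (↑(SS D4.O m) : Set ℕ) →
      lift (Md) z ∈ XS (QD K).sys.x (↑(SS D4.O n) : Set ℕ) := fun m n e' hz' => by rw [← e']; exact hz'
  have hdec : ∀ {u : ↥(Md).T}, u ∈ Y (Md) D4.O 0 → ∃ v ∈ Y (Md) D4.O 2, ∃ y ∈ Y (Md) D4.O 3,
      ∃ k ∈ Subgroup.closure ({f, g} : Set ↥(Md).T), ⁅u, e⁆ = v * y * k := by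
    intro u hu
    obtain ⟨v, hv, z, hz, e1⟩ := split_Y (Md) h (2 : Fin 6) (hbr hu he _ rfl)
    obtain ⟨y, hy, z', hz', e2⟩ := split_Y (Md) h (3 : Fin 6) (hcast _ _ rfl hz)
    exact ⟨v, hv, y, hy, z', hup (hcast _ _ rfl hz'), by rw [e1, e2, mul_assoc]⟩
  have hlead : ∀ v ∈ Y (Md) D4.O 2, ∃ u ∈ Y (Md) D4.O 0, ∃ y ∈ Y (Md) D4.O 3,
      ∃ k ∈ Subgroup.closure ({f, g} : Set ↥(Md).T), ⁅u, e⁆ = v * y * k := by
    obtain ⟨v0, hv0, y0, hy0, k0, hk0, e0⟩ := hdec hu0
    have hv0ne : v0 ≠ 1 := by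
      intro h1
      have hC : lift (Md) ⁅u0, e⁆ ∈ XS (QD K).sys.x (↑(SS D4.O 3) : Set ℕ) := by
        rw [e0, h1, one_mul, lift_mul]
        refine mul_mem ?_ ?_
        · refine lift_of_mem_up (Md) h ?_
          exact le_iSup (fun k : {k : Fin 6 // 3 ≤ k.val} => Y (Md) D4.O k.1) ⟨3, le_rfl⟩ hy0
        · refine lift_of_mem_up (Md) h ((show Subgroup.closure ({f, g} : Set ↥(Md).T) ≤ Pieces.Up 3 from
            (Subgroup.closure_le _).2 ?_) hk0)
          rintro z (rfl | rfl)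
          · exact le_iSup (fun k : {k : Fin 6 // 3 ≤ k.val} => Y (Md) D4.O k.1) ⟨4, by decide⟩ hf
          · exact le_iSup (fun k : {k : Fin 6 // 3 ≤ k.val} => Y (Md) D4.O k.1) ⟨5, by decide⟩ hg
      rw [hlc, eu0, ee] at hC
      simp only [List.map_cons, List.map_nil, List.prod_cons, List.prod_nil, mul_one] at hC
      exact lead_ne hφ hK hC
    intro v hv
    by_cases hv1' : v = 1
    · refine ⟨1, one_mem _, 1, one_mem _, 1, one_mem _, ?_⟩
      rw [hv1', commutatorElement_one_left, one_mul, mul_one]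
    obtain ⟨t, et⟩ := exists_coord (Md) h hv
    obtain ⟨t0, et0⟩ := exists_coord (Md) h hv0
    have hnz : ∀ {x : ↥(Md).T} {t : ℕ → K}, lift (Md) x = xprod (QD K) (D4.O 2) t → x ≠ 1 → t 15 ≠ 0 :=
      fun ex hx h' => hx (eq_of_coord hφ hK (by decide) (fun s => (hcyc s).2.1) ex (hzero 2) h')
    obtain ⟨cs, hcs, ecs⟩ := hreal hR2 (r' := 15) (by decide)
      (Units.mk0 (t 15) (hnz et hv1') / Units.mk0 (t0 15) (hnz et0 hv0ne))
    obtain ⟨s, es⟩ := exists_mem (Md) (g := tG (QD K) cs) (by rw [(endo φ).σ_tG hns, hcs])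
    have hsT := T_of_fixed (Md) es
    have hsv : s * v0 * s⁻¹ = v := by
      refine eq_of_coord hφ hK (i := 2) (r := 15) (by decide) (fun s => (hcyc s).2.1)
        (t := fun r => (chT cs r : K) * t0 r) ?_ et ?_
      · rw [lift_mul, lift_mul, lift_inv, es, et0, tG_xprod (E := endo φ) h]
      · rw [ecs, Units.val_div_eq_div_val, Units.val_mk0, Units.val_mk0,
          div_mul_cancel₀ _ (hnz et0 hv0ne)]
    obtain ⟨hse, hsf, hsg⟩ := hfixT s hsT
    have hsk : s * k0 * s⁻¹ = k0 := by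
      have hle : Subgroup.closure ({f, g} : Set ↥(Md).T) ≤ Subgroup.centralizer {s} :=
        (Subgroup.closure_le _).2 (by
          rintro z (rfl | rfl)
          · exact Subgroup.mem_centralizer_iff.2 fun w hw => by
              rw [Set.mem_singleton_iff] at hw; rw [hw]; exact hsf.eq
          · exact Subgroup.mem_centralizer_iff.2 fun w hw => by
              rw [Set.mem_singleton_iff] at hw; rw [hw]; exact hsg.eq)
      rw [Subgroup.mem_centralizer_iff.1 (hle hk0) s rfl, mul_inv_cancel_right]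
    refine ⟨s * u0 * s⁻¹, Y_stable (Md) h 0 hsT hu0, s * y0 * s⁻¹, Y_stable (Md) h 3 hsT hy0, k0, hk0, ?_⟩
    calc ⁅s * u0 * s⁻¹, e⁆ = ⁅s * u0 * s⁻¹, s * e * s⁻¹⁆ := by
          rw [hse.eq, mul_inv_cancel_right]
      _ = s * ⁅u0, e⁆ * s⁻¹ := by simp only [commutatorElement_def]; group
      _ = (s * v0 * s⁻¹) * (s * y0 * s⁻¹) * (s * k0 * s⁻¹) := by rw [e0]; group
      _ = _ := by rw [hsv, hsk]
  -- the reflection
  obtain ⟨n, en⟩ := exists_mem (Md) (g := nUG (QD K) 14 (1 : K)) (by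
    rw [(endo φ).σ_nU (by decide) one_ne_zero, f_eq hφ (by decide), one_pow]
    exact congrArg (fun r => nUG (QD K) r (1 : K)) r14)
  have hn : ∀ {i j : Fin 6}, (∀ r ∈ D4.O i, Weyl.certD4.sigma 1 r ∈ D4.O j) →
      ∀ x ∈ Y (Md) D4.O i, n * x * n⁻¹ ∈ Y (Md) D4.O j := by
    intro i j hij x hx
    rw [mem_Y, lift_mul, lift_mul, lift_inv, en]
    refine conj_mem_XS (fun r hr t => ?_) hx
    have hr' : r ∈ D4.O i := List.mem_toFinset.1 hr
    obtain ⟨t', e'⟩ := (QD K).sys.n_conj 1 (by rw [← (QD K).rank_eq]; decide) r (h.pos i r hr').1 t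
    rw [show (QD K).sys.ns 1 = nUG (QD K) 14 (1 : K) by rw [← w14]; rfl] at e'
    rw [e']
    exact x_mem_XS (List.mem_toFinset.2 (hij r hr')) t'
  -- put together
  have hY : ∀ {i : Fin 6} {cs}, ∀ {s : ↥(Md).T}, lift (Md) s = tG (QD K) cs →
      ∀ x ∈ Y (Md) D4.O i, s * x * s⁻¹ ∈ Y (Md) D4.O i :=
    fun es x hx => Y_stable (Md) h _ (T_of_fixed (Md) es) hx
  have hself : ∀ {i : Fin 6} {r}, Realised (E := endo φ) (O := D4.O) 2 i r →
      ∀ x ∈ Y (Md) D4.O i, ∀ y ∈ Y (Md) D4.O i, L.cm x y = 1 := fun hR =>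
    self_realised (Md) h hns (hf2 hφ) hadd2 (by rw [hK]; decide) hR L
  have hne1 : ∀ {r : ℕ}, r < chevD4.nroots → ∀ {z : ↥(Md).T}, lift (Md) z = xe r 1 → z ≠ 1 := by
    intro r hr z hz h1
    rw [h1, show lift (Md) 1 = 1 from map_one (liftHom (Md)), ← (QD K).sys.x_zero' hr] at hz
    exact zero_ne_one (xG_inj (QD K) hr hz)
  have D : TwoData L (Y (Md) D4.O 0) (Y (Md) D4.O 2) (Y (Md) D4.O 3) e f g a c n :=
    { comm0 := fun x hx y hy => Y_comm (Md) h 0 hx hy
      comm2 := fun x hx y hy => Y_comm (Md) h 2 hx hy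
      comm3 := fun x hx y hy => Y_comm (Md) h 3 hx hy
      self0 := hself hR0
      self2 := hself hR2
      self3 := hself hR3
      stable0 := fun x hx => ⟨hY ea x hx, hY ec x hx⟩
      stable2 := fun x hx => ⟨hY ea x hx, hY ec x hx⟩
      stable3 := fun x hx => ⟨hY ea x hx, hY ec x hx⟩
      moves0 := moves_of (Md) h ea (hne (by decide) (fun s => (hcyc s).1) (by rw [eca]; exact hβ))
      moves2 := moves_of (Md) h ea (hne (by decide) (fun s => (hcyc s).2.1)
        (by rw [(h15 hca).1, eca]; exact hβ))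
      moves3 := moves_of (Md) h ea (hne (by decide) (fun s => (hcyc s).2.2)
        (by rw [(h15 hca).2, eca]; exact hβn 5 (by decide)))
      ac := T_comm (Md) haT hcT
      hadd := by
        intro x hx
        obtain ⟨t, et⟩ := exists_coord (Md) h hx
        refine lift_injective (Md) ?_
        simp only [lift_mul, lift_inv, ea, ec, et, tG_xprod (E := endo φ) h, ← xprod_add (E := endo φ) h]
        exact xprod_congr _ fun s hs => by rw [(hrel0 s hs).1]; ring
      hphi := by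
        intro w hw e'
        obtain ⟨t, et⟩ := exists_coord (Md) h hw
        have e1 := congrArg (lift (Md)) e'
        simp only [lift_mul, lift_inv, ea, ec, et, tG_xprod (E := endo φ) h, hzero 2, ← xprod_add (E := endo φ) h] at e1
        rw [mul_inv_eq_iff_eq_mul, ← xprod_add (E := endo φ) h] at e1
        refine lift_injective (Md) ?_
        rw [et, hzero 2]
        refine xprod_congr _ fun s hs => ?_
        have h2 := coord_inj (E := endo φ) h e1 s hs
        simp only [zero_add] at h2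
        rw [(hrel2 s hs).1] at h2
        have h3 : ((chT ca s : K) * (chT ca s : K) + (chT ca s : K) + 1) * t s = 0 := by
          linear_combination h2
        exact (mul_eq_zero.1 h3).resolve_left (hrel2 s hs).2
      fix_e := fun t ht => ⟨(hfixT t (hT t ht)).1,
        hcop t (hT t ht) e (hinv (by decide) ee) (hfixT t (hT t ht)).1⟩
      fix_f := fun t ht => ⟨(hfixT t (hT t ht)).2.1,
        hcop t (hT t ht) f (hinv (by decide) ef) (hfixT t (hT t ht)).2.1⟩
      fix_g := fun t ht => ⟨(hfixT t (hT t ht)).2.2,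
        hcop t (hT t ht) g (hinv (by decide) eg) (hfixT t (hT t ht)).2.2⟩
      f_sq := hinv (by decide) ef
      g_sq := hinv (by decide) eg
      ef := lift_injective (Md) (by rw [hlc, ee, ef, eg]; exact comm_single hK (by decide))
      g_comm := ⟨hcomm eg (i := 1) (by decide +kernel) e he,
        hcomm eg (i := 4) (by decide +kernel) f hf, fun x hx => by
          rcases hx with hx | hx | hx
          · exact hcomm eg (fun s hs => cg s (by revert s; decide)) x hx
          · exact hcomm eg (fun s hs => cg s (by revert s; decide)) x hx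
          · exact hcomm eg (fun s hs => cg s (by revert s; decide)) x hx⟩
      f_comm := fun x hx => by
        rcases hx with hx | hx | hx
        · exact hcomm ef (fun s hs => cf s (by revert s; decide)) x hx
        · exact hcomm ef (fun s hs => cf s (by revert s; decide)) x hx
        · exact hcomm ef (fun s hs => cf s (by revert s; decide)) x hx
      e_comm := fun x hx => by
        rcases hx with hx | hx
        · exact hcomm ee (fun s hs => ce s (by revert s; decide)) x hx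
        · exact hcomm ee (fun s hs => ce s (by revert s; decide)) x hx
      g_eq := ⟨v1, hv1, y1, hy1, hg_eq⟩
      br03 := fun u hu y hy => hup (hbr hu hy 4 rfl)
      br02 := fun u hu v hv => by
        obtain ⟨y, hy, z, hz, e1⟩ := split_Y (Md) h (3 : Fin 6) (hbr hu hv _ rfl)
        exact ⟨y, hy, z, hup (hcast _ _ rfl hz), e1⟩
      br0e := fun u hu => hdec hu
      lead := hlead
      n_spec := by
        refine ⟨?_, hn (i := 0) (j := 2) w02, hn (i := 3) (j := 3) w33⟩
        have hmem : n * f * n⁻¹ ∈ Y (Md) D4.O 5 := hn (i := 4) (fun r hr => by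
          rw [show r = 22 by simpa [D4.O] using hr, w22]; decide) f hf
        refine (hsingle (i := 5) (r := 23) rfl r23 eg hmem).resolve_left fun h1 => ?_
        rw [mul_inv_eq_one, mul_eq_left] at h1
        exact hne1 (by decide) ef h1
      indep := by
        intro v hv y hy k hk hvyk
        have hkU : ∀ {m : ℕ}, m ≤ 4 → k ∈ Pieces.Up (Y := Y (Md) D4.O) m := by
          intro m hm
          refine (show Subgroup.closure ({f, g} : Set ↥(Md).T) ≤ Pieces.Up m from
            (Subgroup.closure_le _).2 ?_) hk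
          rintro z (rfl | rfl)
          · exact le_iSup (fun k : {k : Fin 6 // m ≤ k.val} => Y (Md) D4.O k.1) ⟨4, hm⟩ hf
          · exact le_iSup (fun k : {k : Fin 6 // m ≤ k.val} => Y (Md) D4.O k.1)
              ⟨5, le_trans hm (by decide)⟩ hg
        have hv' : v = 1 := by
          refine Y_indep (Md) h 2 hv ?_
          rw [eq_inv_of_mul_eq_one_left ((mul_assoc v y k).symm.trans hvyk)]
          refine inv_mem (mul_mem ?_ (hkU (m := 3) (by decide)))
          exact le_iSup (fun k : {k : Fin 6 // 2 < k.val} => Y (Md) D4.O k.1) ⟨3, by decide⟩ hy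
        rw [hv', one_mul] at hvyk
        have hy' : y = 1 := by
          refine Y_indep (Md) h 3 hy ?_
          rw [eq_inv_of_mul_eq_one_left hvyk]
          exact inv_mem (hkU (m := 4) le_rfl)
        rw [hy', one_mul] at hvyk
        exact ⟨hv', hy', hvyk⟩
      fg_ne := ⟨hne1 (by decide) ef, hne1 (by decide) eg, fun hfg => by
        refine hne1 (r := 22) (by decide) ef (Y_indep (Md) h 4 hf ?_)
        exact le_iSup (fun k : {k : Fin 6 // 4 < k.val} => Y (Md) D4.O k.1) ⟨5, by decide⟩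
          (hfg ▸ hg)⟩ }
  refine D.killed.mono ?_
  rw [← iSup_Y (Md) h]
  refine iSup_le fun i x hx => ?_
  obtain rfl | rfl | rfl | rfl | rfl | rfl : i = 0 ∨ i = 1 ∨ i = 2 ∨ i = 3 ∨ i = 4 ∨ i = 5 := by
    omega
  · exact Subgroup.subset_closure (by simp [hx])
  · rcases hsingle (i := 1) (r := 14) rfl r14 ee hx with rfl | rfl
    · exact one_mem _
    · exact Subgroup.subset_closure (by simp)
  · exact Subgroup.subset_closure (by simp [hx])
  · exact Subgroup.subset_closure (by simp [hx])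
  · rcases hsingle (i := 4) (r := 22) rfl r22 ef hx with rfl | rfl
    · exact one_mem _
    · exact Subgroup.subset_closure (by simp)
  · rcases hsingle (i := 5) (r := 23) rfl r23 eg hx with rfl | rfl
    · exact one_mem _
    · exact Subgroup.subset_closure (by simp)

end Cfsg.Agent.H74.RootExt.D4.Two
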