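import Cfsg.Agent.H74.RootExt.E6Killed
import Cfsg.Agent.H74.RootExt.E6Lower
import Cfsg.Agent.H74.RootExt.TwGens
import Mathlib.GroupTheory.SpecificGroups.Cyclic

/-!
The multiplier of `²E₆(q)`, `q ≠ 2`.
-/

set_option autoImplicit false

namespace Cfsg.Agent.H74.RootExt.E6

open Cfsg.Lie Cfsg.Agent.H37 Cfsg.Agent.H37.Twist Cfsg.Agent.H37.Twist.E6 Cfsg.Agent.H56.TwAut

universe u

variable {K : Type u} [Field K] [Fintype K]

theorem card_ker_dvd {φ : K →+* K} {q : ℕ} (hφ : ∀ t, φ t = t ^ q)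
    (hK : Fintype.card K = q ^ 2) (hq : 3 ≤ q) {Γ : Type u} [Group Γ] [Finite Γ]
    {σ : Γ →* ↥(model hφ hK).T} (hσ : Cfsg.IsStemExtension σ) :
    Nat.card σ.ker ∣ Nat.gcd 3 (q + 1) := by
  have hp : Linear.Mult.NoStem (ringChar K) ↥(model hφ hK).T :=
    Tw.noStem_char (S := H56.TwAut.E6.su K) (Md := model hφ hK) fun _ _ _ L => killed hφ hK hq L
  have hdvd := Tw.card_ker_mul_dvd (H56.TwAut.E6.spec hφ hK) hp hσ
  have hH : Nat.gcd 3 (q + 1) * Nat.card ↥(model hφ hK).tw.H = (q - 1) ^ 4 * (q + 1) ^ 2 := by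
    rw [(model hφ hK).tw_H, ← (model hφ hK).card_inf_eq]
    exact Twist.E6.card_H hφ hK
  have hC : ∏ i : Fin 4, (Nat.card ((H56.TwAut.E6.spec hφ hK).k i) - 1) =
      (q - 1) ^ 4 * (q + 1) ^ 2 := by
    rw [Fin.prod_univ_four]
    show (Nat.card (⊤ : Subfield K) - 1) * (Nat.card (⊤ : Subfield K) - 1) *
      (Nat.card (RingHom.eqLocusField φ (RingHom.id K)) - 1) *
      (Nat.card (RingHom.eqLocusField φ (RingHom.id K)) - 1) = _
    rw [H56.TwAut.E6.card_top, H56.TwAut.E6.card_fix hφ hK, Nat.card_eq_fintype_card, hK,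
      show q ^ 2 - 1 = (q + 1) * (q - 1) by simpa using Nat.sq_sub_sq q 1]
    ring
  haveI : Finite ↥(model hφ hK).tw.H := inferInstance
  refine Nat.dvd_of_mul_dvd_mul_right (Nat.card_pos (α := ↥(model hφ hK).tw.H)) ?_
  rw [hH, ← hC]
  exact hdvd

/-- `²E₆(q)`, `q ≠ 2`, has multiplier of order `(3, q + 1)`. -/
theorem multiplier {q : ℕ} (hq : IsPrimePow q) (hK : Fintype.card K = q ^ 2) (h2 : q ≠ 2) :
    Cfsg.HasCyclicSchurMultiplier ↥(twistedE6 K q) (Nat.gcd 3 (q + 1)) := by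
  obtain ⟨φ, hφ⟩ := exists_powHom hq hK
  have hq3 : 3 ≤ q := by have := two_le hK; omega
  rcases (Nat.dvd_prime Nat.prime_three).1 (Nat.gcd_dvd_left 3 (q + 1)) with h1 | h3
  · rw [h1]
    refine (H50.hasTrivialMultiplier_iff (G := ↥(model hφ hK).T)).2 fun Γ _ _ σ hσ => ?_
    have h := card_ker_dvd hφ hK hq3 hσ
    rw [h1] at h
    exact Subgroup.card_eq_one.1 (Nat.dvd_one.1 h)
  · rw [h3]
    have hF : Fact (Nat.Prime 3) := ⟨Nat.prime_three⟩
    have h3' : 3 ∣ q + 1 := Nat.gcd_eq_left_iff_dvd.1 h3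
    constructor
    · obtain ⟨Γ, hg, hf, σ, hσ, hc⟩ := exists_cover hφ hK h3'
      haveI : IsCyclic σ.ker := isCyclic_of_prime_card (p := 3) hc
      exact ⟨Γ, hg, hf, σ, hσ, ⟨(zmodCyclicMulEquiv (inferInstance : IsCyclic σ.ker)).symm.trans
        (by rw [hc]; exact MulEquiv.refl _)⟩⟩
    · intro Γ _ _ σ hσ
      have h : Nat.card σ.ker ∣ 3 := h3 ▸ card_ker_dvd hφ hK hq3 hσ
      rcases (Nat.dvd_prime Nat.prime_three).1 h with h' | h'
      · haveI := (Nat.card_eq_one_iff_unique.1 h').1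
        exact ⟨1, fun y => ⟨1, Subsingleton.elim _ _⟩⟩
      · haveI : IsCyclic σ.ker := isCyclic_of_prime_card (p := 3) h'
        let e := zmodCyclicMulEquiv (inferInstance : IsCyclic σ.ker)
        rw [← h']
        exact ⟨e.toMonoidHom, e.surjective⟩

end Cfsg.Agent.H74.RootExt.E6
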