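import Cfsg.Agent.Linear.Mult.Killed

/-!
A group that is an ordered product of abelian pieces, each stable under a torus that separates
them, is killed in a central extension with kernel of prime order.
-/

set_option autoImplicit false
set_option linter.unusedSectionVars false

namespace Cfsg.Agent.H74.RootExt

open Subgroup Cfsg.Agent.Linear.Mult
open scoped commutatorElement

variable {G : Type*} [Group G]

/-- Every element of `Y` is `⁅g, y⁆` with `y ∈ Y`. -/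
def Moves (g : G) (Y : Subgroup G) : Prop := ∀ x ∈ Y, ∃ y ∈ Y, ⁅g, y⁆ = x

/-- `g` centralises `Y`. -/
def Fixes (g : G) (Y : Subgroup G) : Prop := ∀ x ∈ Y, g * x * g⁻¹ = x

/-- Without fixed points on a finite stable abelian subgroup, everything is moved to. -/
theorem moves_of_fpf {g : G} {Y : Subgroup G} [Finite Y] (hY : ∀ x ∈ Y, g * x * g⁻¹ ∈ Y)
    (hc : ∀ x ∈ Y, ∀ y ∈ Y, Commute x y) (hf : ∀ x ∈ Y, g * x * g⁻¹ = x → x = 1) : Moves g Y := by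
  let f : Y → Y := fun y => ⟨⁅g, (y : G)⁆, by
    rw [commutatorElement_def]; exact mul_mem (hY _ y.2) (inv_mem y.2)⟩
  have hinj : Function.Injective f := by
    rintro ⟨a, ha⟩ ⟨b, hb⟩ e
    have e' : g * a * g⁻¹ * a⁻¹ = g * b * g⁻¹ * b⁻¹ := congrArg Subtype.val e
    refine Subtype.ext (inv_mul_eq_one.1 (hf _ (mul_mem (inv_mem hb) ha) ?_)).symm
    have h1 : g * b⁻¹ * g⁻¹ * (g * a * g⁻¹) = g * (b⁻¹ * a) * g⁻¹ := by group
    rw [← h1]
    have h2 : g * a * g⁻¹ = (g * b * g⁻¹) * (b⁻¹ * a) := by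
      rw [← mul_assoc, ← e']; group
    rw [h2, show g * b⁻¹ * g⁻¹ * (g * b * g⁻¹ * (b⁻¹ * a)) = b⁻¹ * a by group]
  intro x hx
  obtain ⟨y, hy⟩ := Finite.injective_iff_surjective.1 hinj ⟨x, hx⟩
  exact ⟨y, y.2, congrArg Subtype.val hy⟩

variable {X : Type*} [Group X] {p : ℕ} (E : LExt p X G)

/-- The data of the pieces. -/
structure Pieces {N : ℕ} (Y : Fin N → Subgroup G) (T : Subgroup G) (g : Fin N → G) : Prop where
  torus_comm : ∀ s ∈ T, ∀ t ∈ T, Commute s t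
  stable : ∀ i, ∀ t ∈ T, ∀ x ∈ Y i, t * x * t⁻¹ ∈ Y i
  g_mem : ∀ i, g i ∈ T
  moves : ∀ i, Moves (g i) (Y i)
  comm : ∀ i, ∀ x ∈ Y i, ∀ x' ∈ Y i, Commute x x'
  self : ∀ i, ∀ x ∈ Y i, ∀ x' ∈ Y i, E.cm x x' = 1
  bracket : ∀ i j, ∀ x ∈ Y i, ∀ x' ∈ Y j,
    ⁅x, x'⁆ ∈ ⨆ k : {k : Fin N // max i.val j.val < k.val}, Y k.1
  indep : ∀ i, ∀ x ∈ Y i, x ∈ (⨆ k : {k : Fin N // i.val < k.val}, Y k.1) → x = 1
  sep : ∀ i j, i ≠ j → ∃ t ∈ T,
    (Fixes t (Y i) ∧ Moves t (Y j)) ∨ (Fixes t (Y j) ∧ Moves t (Y i))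

namespace Pieces

variable [Finite G] {E} {N : ℕ} {Y : Fin N → Subgroup G} {T : Subgroup G} {g : Fin N → G}
  (P : Pieces E Y T g)
include P

open Classical in
/-- The lift of an element of a piece. -/
noncomputable def Z (i : Fin N) (x : G) : X :=
  if h : x ∈ Y i then E.cm (g i) (P.moves i x h).choose else 1

theorem proj_Z {i : Fin N} {x : G} (hx : x ∈ Y i) : E.proj (P.Z i x) = x := by
  rw [Z, dif_pos hx, E.proj_cm, (P.moves i x hx).choose_spec.2]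

theorem conj_self (i : Fin N) {x u : G} (hx : x ∈ Y i) (hu : u ∈ Y i) :
    E.lift x * E.cm (g i) u * (E.lift x)⁻¹ = E.cm (g i) u := by
  have hm : ⁅g i, u⁆ ∈ Y i := by
    rw [commutatorElement_def]; exact mul_mem (P.stable i _ (P.g_mem i) u hu) (inv_mem hu)
  rw [(E.commute_of_cm (P.self i x hx _ hm) (E.proj_lift x) (E.proj_cm (g i) u)).eq,
    mul_inv_cancel_right]

theorem Z_eq {i : Fin N} {y : G} (hy : y ∈ Y i) : P.Z i ⁅g i, y⁆ = E.cm (g i) y := by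
  have hx : ⁅g i, y⁆ ∈ Y i := by
    rw [commutatorElement_def]; exact mul_mem (P.stable i _ (P.g_mem i) y hy) (inv_mem hy)
  rw [Z, dif_pos hx]
  obtain ⟨hy', e⟩ := (P.moves i _ hx).choose_spec
  set y' := (P.moves i _ hx).choose
  suffices y' = y by rw [this]
  let f : Y i → Y i := fun v => ⟨⁅g i, (v : G)⁆, by
    rw [commutatorElement_def]; exact mul_mem (P.stable i _ (P.g_mem i) v v.2) (inv_mem v.2)⟩
  have hsurj : Function.Surjective f := fun v => by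
    obtain ⟨w, hw, ew⟩ := P.moves i v v.2
    exact ⟨⟨w, hw⟩, Subtype.ext ew⟩
  exact congrArg Subtype.val (Finite.injective_iff_surjective.2 hsurj
    (a₁ := ⟨y', hy'⟩) (a₂ := ⟨y, hy⟩) (Subtype.ext e))

theorem Z_mul {i : Fin N} {x x' : G} (hx : x ∈ Y i) (hx' : x' ∈ Y i) :
    P.Z i (x * x') = P.Z i x * P.Z i x' := by
  obtain ⟨y, hy, rfl⟩ := P.moves i x hx
  obtain ⟨y', hy', rfl⟩ := P.moves i x' hx'
  have e : ⁅g i, y⁆ * ⁅g i, y'⁆ = ⁅g i, y * y'⁆ := by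
    rw [commutatorElement_def, commutatorElement_def, commutatorElement_def]
    have hc : Commute y⁻¹ (g i * y' * (g i)⁻¹ * y'⁻¹) := by
      refine P.comm i _ (inv_mem hy) _ (mul_mem (P.stable i _ (P.g_mem i) _ hy') (inv_mem hy'))
    calc g i * y * (g i)⁻¹ * y⁻¹ * (g i * y' * (g i)⁻¹ * y'⁻¹)
        = g i * y * (g i)⁻¹ * (y⁻¹ * (g i * y' * (g i)⁻¹ * y'⁻¹)) := by group
      _ = _ := by rw [hc.eq]; group
  rw [e, P.Z_eq (mul_mem hy hy'), P.Z_eq hy, P.Z_eq hy', E.cm_mul_right,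
    P.conj_self i hy hy']

theorem Z_one (i : Fin N) : P.Z i 1 = 1 := by
  have h := P.Z_mul (i := i) (one_mem _) (one_mem _)
  rw [mul_one] at h
  exact left_eq_mul.1 h

theorem Z_inv {i : Fin N} {x : G} (hx : x ∈ Y i) : P.Z i x⁻¹ = (P.Z i x)⁻¹ := by
  refine eq_inv_of_mul_eq_one_left ?_
  rw [← P.Z_mul (inv_mem hx) hx, inv_mul_cancel, P.Z_one]

theorem conj_Z {i : Fin N} {x t : G} (hx : x ∈ Y i) (ht : t ∈ T) :
    E.lift t * P.Z i x * (E.lift t)⁻¹ = P.Z i (t * x * t⁻¹) := by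
  obtain ⟨y, hy, rfl⟩ := P.moves i x hx
  rw [P.Z_eq hy, E.conj_cm (E.proj_lift t)]
  have e : t * g i * t⁻¹ = g i := by
    rw [(P.torus_comm t ht _ (P.g_mem i)).eq, mul_inv_cancel_right]
  rw [e, ← P.Z_eq (P.stable i t ht y hy)]
  congr 1
  rw [commutatorElement_def, commutatorElement_def]
  have hgt : (g i)⁻¹ * t = t * (g i)⁻¹ := ((P.torus_comm t ht _ (P.g_mem i)).inv_right).eq.symm
  calc g i * (t * y * t⁻¹) * (g i)⁻¹ * (t * y * t⁻¹)⁻¹
      = (g i * t) * y * (t⁻¹ * (g i)⁻¹ * t) * y⁻¹ * t⁻¹ := by group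
    _ = t * (g i * y * (g i)⁻¹ * y⁻¹) * t⁻¹ := by
      rw [mul_assoc t⁻¹ (g i)⁻¹ t, hgt, inv_mul_cancel_left,
        (P.torus_comm t ht _ (P.g_mem i)).eq.symm]
      group

/-- The group generated by the lifts of the pieces from `m` on. -/
noncomputable def Wh (m : ℕ) : Subgroup X :=
  closure {a | ∃ i : Fin N, m ≤ i.val ∧ ∃ x ∈ Y i, P.Z i x = a}

/-- The group generated by the pieces from `m` on. -/
def Up (m : ℕ) : Subgroup G := ⨆ k : {k : Fin N // m ≤ k.val}, Y k.1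

theorem mem_Wh {i : Fin N} {x : G} {m : ℕ} (hx : x ∈ Y i) (hm : m ≤ i.val) :
    P.Z i x ∈ P.Wh m := subset_closure ⟨i, hm, x, hx, rfl⟩

theorem Wh_anti {m n : ℕ} (h : m ≤ n) : P.Wh n ≤ P.Wh m :=
  closure_mono fun _ ⟨i, hi, r⟩ => ⟨i, h.trans hi, r⟩

theorem proj_Wh {m : ℕ} {a : X} (ha : a ∈ P.Wh m) : E.proj a ∈ Up (Y := Y) m := by
  refine (show P.Wh m ≤ (Up (Y := Y) m).comap E.proj from (closure_le _).2 ?_) ha
  rintro _ ⟨i, hi, x, hx, rfl⟩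
  show E.proj (P.Z i x) ∈ Up m
  rw [P.proj_Z hx]
  exact le_iSup (fun k : {k : Fin N // m ≤ k.val} => Y k.1) ⟨i, hi⟩ hx

theorem exists_Wh {m : ℕ} {u : G} (hu : u ∈ Up (Y := Y) m) : ∃ a ∈ P.Wh m, E.proj a = u := by
  refine (show Up (Y := Y) m ≤ (P.Wh m).map E.proj from iSup_le fun k x hx => ?_) hu
  exact ⟨_, P.mem_Wh hx k.2, P.proj_Z hx⟩

theorem lift_conj_Wh {m : ℕ} {t : G} (ht : t ∈ T) {a : X} (ha : a ∈ P.Wh m) :
    E.lift t * a * (E.lift t)⁻¹ ∈ P.Wh m := by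
  refine (show P.Wh m ≤ (P.Wh m).comap (MulAut.conj (E.lift t)).toMonoidHom from
    (closure_le _).2 ?_) ha
  rintro _ ⟨i, hi, x, hx, rfl⟩
  show E.lift t * P.Z i x * (E.lift t)⁻¹ ∈ P.Wh m
  rw [P.conj_Z hx ht]
  exact P.mem_Wh (P.stable i t ht x hx) hi

/-- Commutators of lifts from level `m` on. -/
def Level (m : ℕ) : Prop :=
  ∀ i j : Fin N, m ≤ max i.val j.val → ∀ x ∈ Y i, ∀ x' ∈ Y j,
    ⁅P.Z i x, P.Z j x'⁆ ∈ P.Wh (max i.val j.val + 1)

theorem conj_Wh_succ {m : ℕ} (hl : P.Level (m + 1)) {i : Fin N} (hi : i.val ≤ m) {x : G}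
    (hx : x ∈ Y i) {a : X} (ha : a ∈ P.Wh (m + 1)) :
    P.Z i x * a * (P.Z i x)⁻¹ ∈ P.Wh (m + 1) := by
  refine (show P.Wh (m + 1) ≤ (P.Wh (m + 1)).comap (MulAut.conj (P.Z i x)).toMonoidHom from
    (closure_le _).2 ?_) ha
  rintro _ ⟨k, hk, y, hy, rfl⟩
  show P.Z i x * P.Z k y * (P.Z i x)⁻¹ ∈ P.Wh (m + 1)
  rw [show P.Z i x * P.Z k y * (P.Z i x)⁻¹ = ⁅P.Z i x, P.Z k y⁆ * P.Z k y by
    rw [commutatorElement_def]; group]
  exact mul_mem (P.Wh_anti (by omega) (hl i k (by omega) x hx y hy)) (P.mem_Wh hy hk)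

/-- A pair with a torus element fixing the first piece and moving the second. -/
theorem pair_mem {m : ℕ} (hl : P.Level (m + 1)) {i j : Fin N} (hm : max i.val j.val = m)
    {t : G} (ht : t ∈ T) (hfix : Fixes t (Y i)) (hmov : Moves t (Y j))
    {x x' : G} (hx : x ∈ Y i) (hx' : x' ∈ Y j) :
    ⁅P.Z i x, P.Z j x'⁆ ∈ P.Wh (m + 1) := by
  obtain ⟨y, hy, rfl⟩ := hmov x' hx'
  have hbr : ⁅x, y⁆ ∈ Up (Y := Y) (m + 1) := by
    refine (show (⨆ k : {k : Fin N // max i.val j.val < k.val}, Y k.1) ≤ Up (Y := Y) (m + 1) from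
      iSup_le fun k => ?_) (P.bracket i j x hx y hy)
    exact le_iSup_of_le (⟨k.1, by have := k.2; omega⟩ : {k : Fin N // m + 1 ≤ k.val}) le_rfl
  obtain ⟨w, hw, ew⟩ := P.exists_Wh hbr
  set A := P.Z i x
  set B := P.Z j y
  set z := ⁅A, B⁆ * w⁻¹ with hzdef
  have hz : ∀ s : X, s * z = z * s := E.ker_central (by
    rw [hzdef, map_mul, map_inv, map_commutatorElement, P.proj_Z hx, P.proj_Z hy, ew,
      mul_inv_cancel])
  have hAB : ⁅A, B⁆ = z * w := by rw [hzdef, inv_mul_cancel_right]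
  set L := E.lift t
  have hA : L * A * L⁻¹ = A := by rw [P.conj_Z hx ht, hfix x hx]
  have hB : P.Z j ⁅t, y⁆ = L * B * L⁻¹ * B⁻¹ := by
    rw [P.conj_Z hy ht, commutatorElement_def, P.Z_mul (P.stable j t ht y hy) (inv_mem hy),
      P.Z_inv hy]
  have h1 : ⁅A, L * B * L⁻¹⁆ = z * (L * w * L⁻¹) := by
    calc ⁅A, L * B * L⁻¹⁆ = ⁅L * A * L⁻¹, L * B * L⁻¹⁆ := by rw [hA]
      _ = L * ⁅A, B⁆ * L⁻¹ := by simp only [commutatorElement_def]; group
      _ = L * z * w * L⁻¹ := by rw [hAB]; group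
      _ = _ := by rw [hz L]; group
  have h2 : ⁅A, B⁻¹⁆ = (B⁻¹ * w⁻¹ * B) * z⁻¹ := by
    calc ⁅A, B⁻¹⁆ = B⁻¹ * ⁅A, B⁆⁻¹ * B := by simp only [commutatorElement_def]; group
      _ = B⁻¹ * w⁻¹ * (z⁻¹ * B) := by rw [hAB]; group
      _ = _ := by rw [((show Commute B z from hz B).inv_right).eq.symm]; group
  rw [hB]
  set C := L * B * L⁻¹ with hC
  have e : ⁅A, C * B⁻¹⁆ = (L * w * L⁻¹) * (C * (B⁻¹ * w⁻¹ * B) * C⁻¹) := by
    calc ⁅A, C * B⁻¹⁆ = ⁅A, C⁆ * (C * ⁅A, B⁻¹⁆ * C⁻¹) := by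
          simp only [commutatorElement_def]; group
      _ = (z * (L * w * L⁻¹)) * (C * (B⁻¹ * w⁻¹ * B) * (z⁻¹ * C⁻¹)) := by rw [h1, h2]; group
      _ = (z * (L * w * L⁻¹ * C * (B⁻¹ * w⁻¹ * B) * C⁻¹)) * z⁻¹ := by
          rw [((show Commute C⁻¹ z from hz C⁻¹).inv_right).eq.symm]; group
      _ = _ := by rw [← hz, mul_inv_cancel_right]; group
  rw [e]
  have hj : j.val ≤ m := by omega
  refine mul_mem (P.lift_conj_Wh ht hw) ?_
  have hC' : C = P.Z j (t * y * t⁻¹) := by rw [hC, P.conj_Z hy ht]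
  rw [hC']
  refine P.conj_Wh_succ hl hj (P.stable j t ht y hy) ?_
  have hB' : B⁻¹ = P.Z j y⁻¹ := (P.Z_inv hy).symm
  rw [show B⁻¹ * w⁻¹ * B = B⁻¹ * w⁻¹ * (B⁻¹)⁻¹ by rw [inv_inv], hB']
  exact P.conj_Wh_succ hl hj (inv_mem hy) (inv_mem hw)

theorem level (m : ℕ) : P.Level m := by
  suffices ∀ d m, N ≤ m + d → P.Level m from this N m (by omega)
  intro d
  induction d with
  | zero => intro m hm i j h; have := i.isLt; have := j.isLt; omega
  | succ d ih =>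
    intro m hm i j h x hx x' hx'
    rcases Nat.lt_or_ge m (max i.val j.val) with h' | h'
    · exact ih (m + 1) (by omega) i j (by omega) x hx x' hx'
    have hm' : max i.val j.val = m := by omega
    rw [hm']
    by_cases hij : i = j
    · subst hij
      rw [E.cm_eq (P.proj_Z hx) (P.proj_Z hx'), P.self i x hx x' hx']
      exact one_mem _
    obtain ⟨t, ht, ⟨hf, hmv⟩ | ⟨hf, hmv⟩⟩ := P.sep i j hij
    · exact P.pair_mem (ih (m + 1) (by omega)) hm' ht hf hmv hx hx'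
    · rw [← commutatorElement_inv]
      exact inv_mem (P.pair_mem (ih (m + 1) (by omega)) (by omega) ht hf hmv hx' hx)

theorem Wh_ker (m : ℕ) : ∀ a ∈ P.Wh m, E.proj a = 1 → a = 1 := by
  suffices ∀ d m, N ≤ m + d → ∀ a ∈ P.Wh m, E.proj a = 1 → a = 1 from this N m (by omega)
  intro d
  induction d with
  | zero =>
    intro m hm a ha _
    have : P.Wh m = ⊥ := (closure_eq_bot_iff).2 fun b ⟨i, hi, _⟩ => by
      have := i.isLt; omega
    rwa [this, mem_bot] at ha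
  | succ d ih =>
    intro m hm a ha h1
    by_cases hmN : N ≤ m
    · exact ih m (by omega) a ha h1
    have hm' : m < N := by omega
    have hn := fun x hx b hb => P.conj_Wh_succ (P.level (m + 1)) (i := ⟨m, hm'⟩) le_rfl (x := x) hx
      (a := b) hb
    let S : Subgroup X :=
      { carrier := {a | ∃ x ∈ Y ⟨m, hm'⟩, ∃ b ∈ P.Wh (m + 1), a = P.Z ⟨m, hm'⟩ x * b}
        one_mem' := ⟨1, one_mem _, 1, one_mem _, by rw [P.Z_one, one_mul]⟩
        mul_mem' := by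
          rintro _ _ ⟨x, hx, b, hb, rfl⟩ ⟨y, hy, c, hc, rfl⟩
          refine ⟨x * y, mul_mem hx hy, P.Z ⟨m, hm'⟩ y⁻¹ * b * (P.Z ⟨m, hm'⟩ y⁻¹)⁻¹ * c,
            mul_mem (hn _ (inv_mem hy) _ hb) hc, ?_⟩
          rw [P.Z_mul hx hy, P.Z_inv hy]
          group
        inv_mem' := by
          rintro _ ⟨x, hx, b, hb, rfl⟩
          refine ⟨x⁻¹, inv_mem hx, P.Z ⟨m, hm'⟩ x * b⁻¹ * (P.Z ⟨m, hm'⟩ x)⁻¹,
            hn _ hx _ (inv_mem hb), ?_⟩
          rw [P.Z_inv hx]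
          group }
    have hle : P.Wh m ≤ S := (closure_le _).2 (by
      rintro _ ⟨i, hi, x, hx, rfl⟩
      rcases eq_or_lt_of_le hi with h | h
      · obtain rfl : i = ⟨m, hm'⟩ := Fin.ext h.symm
        exact ⟨x, hx, 1, one_mem _, (mul_one _).symm⟩
      · exact ⟨1, one_mem _, _, P.mem_Wh hx h, by rw [P.Z_one, one_mul]⟩)
    obtain ⟨x, hx, b, hb, rfl⟩ := hle ha
    rw [map_mul, P.proj_Z hx] at h1
    have hx1 : x = 1 := by
      refine P.indep ⟨m, hm'⟩ x hx ?_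
      rw [eq_inv_of_mul_eq_one_left h1]
      exact inv_mem (P.proj_Wh hb)
    subst hx1
    rw [P.Z_one, one_mul]
    refine ih (m + 1) (by omega) b hb ?_
    rwa [one_mul] at h1

/-- The product of the pieces is killed. -/
theorem killed : E.Killed (⨆ i, Y i) := by
  intro z hz h1
  refine P.Wh_ker 0 z ?_ h1
  have hU : (⨆ i, Y i) ≤ Up (Y := Y) 0 := iSup_le fun i =>
    le_iSup_of_le (⟨i, Nat.zero_le _⟩ : {k : Fin N // 0 ≤ k.val}) le_rfl
  have key : ∀ a ∈ E.pre (⨆ i, Y i), ∃ w ∈ P.Wh 0, ∃ c, E.proj c = 1 ∧ a = w * c := fun a ha => by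
    obtain ⟨w, hw, e⟩ := P.exists_Wh (hU ha)
    exact ⟨w, hw, w⁻¹ * a, by rw [map_mul, map_inv, e, inv_mul_cancel],
      (mul_inv_cancel_left _ _).symm⟩
  refine (commutator_le.2 ?_) hz
  intro a ha b hb
  obtain ⟨w, hw, c, hc, rfl⟩ := key a ha
  obtain ⟨w', hw', c', hc', rfl⟩ := key b hb
  rw [E.cm_eq (a := w * c) (b := w' * c') rfl rfl, ← E.cm_eq (a := w) (b := w')
    (by rw [map_mul, hc, mul_one]) (by rw [map_mul, hc', mul_one]), commutatorElement_def]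
  exact mul_mem (mul_mem (mul_mem hw hw') (inv_mem hw)) (inv_mem hw')

end Pieces

end Cfsg.Agent.H74.RootExt
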