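import Cfsg.Agent.Chevalley.SL2Hom
import Cfsg.Agent.H74.RootExt.Canon

/-!
The rank one group over a finite field inside a central extension with kernel of order prime to `p`.
-/

set_option autoImplicit false
set_option linter.unusedSectionVars false

namespace Cfsg.Agent.H74.RootExt

open Cfsg.Agent.H54.Presentation Cfsg.Agent.H87 Cfsg.Agent.Chevalley

variable {k : Type*} [Field k]

local notation "SL2" => Matrix.SpecialLinearGroup (Fin 2) k

/-- The diagonal torus of `SL₂`. -/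
def dg : kˣ →* SL2 where
  toFun a := SL2Rels.hEl upMat lowMat (a : k)
  map_one' := by rw [Units.val_one]; exact SL2Hom.sl2Rels.h_one
  map_mul' a b := (SL2Hom.hEl_sl2_mul a b).symm

/-- The Weyl element of `SL₂`. -/
def wOne : SL2 := wEl (upMat (k := k)) lowMat 1

theorem coe_dg (a : kˣ) :
    ((dg a : SL2) : Matrix (Fin 2) (Fin 2) k) = !![(a : k), 0; 0, (a : k)⁻¹] := by
  have h1 := SL2Hom.wEl_sl2 (K := k) a.ne_zero
  have h2 := SL2Hom.wEl_sl2 (K := k) (t := -1) (neg_ne_zero.2 one_ne_zero)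
  show ((wEl upMat lowMat (a : k) * wEl upMat lowMat (-1) : SL2) : Matrix (Fin 2) (Fin 2) k) = _
  rw [Matrix.SpecialLinearGroup.coe_mul, h1, h2]
  simp [Matrix.mul_fin_two, inv_neg]

theorem coe_wOne : ((wOne : SL2) : Matrix (Fin 2) (Fin 2) k) = !![0, 1; -1, 0] := by
  rw [wOne, SL2Hom.wEl_sl2 one_ne_zero, inv_one]

/-- The two cells of `SL₂`. -/
theorem sl2_cases (g : SL2) : (∃ u a, g = upMat u * dg a) ∨
    ∃ u a v, g = upMat u * dg a * wOne * upMat v := by
  have hdet := g.2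
  rw [Matrix.det_fin_two] at hdet
  set a := (g : Matrix (Fin 2) (Fin 2) k) 0 0 with ha
  set b := (g : Matrix (Fin 2) (Fin 2) k) 0 1 with hb
  set c := (g : Matrix (Fin 2) (Fin 2) k) 1 0 with hc
  set d := (g : Matrix (Fin 2) (Fin 2) k) 1 1 with hd
  have hg : (g : Matrix (Fin 2) (Fin 2) k) = !![a, b; c, d] := Matrix.eta_fin_two _
  by_cases h0 : c = 0
  · have had : a * d = 1 := by rw [h0, mul_zero, sub_zero] at hdet; exact hdet
    have ha0 : a ≠ 0 := left_ne_zero_of_mul_eq_one had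
    have hd' : d = a⁻¹ := eq_inv_of_mul_eq_one_right had
    refine Or.inl ⟨b * a, Units.mk0 a ha0, Matrix.SpecialLinearGroup.ext _ _ fun i j => ?_⟩
    rw [Matrix.SpecialLinearGroup.coe_mul, coe_dg, SL2Hom.coe_up, hg, hd', h0]
    fin_cases i <;> fin_cases j <;> simp [Matrix.mul_fin_two, ha0]
  · refine Or.inr ⟨a * c⁻¹, Units.mk0 (-c⁻¹) (by simp [h0]), d * c⁻¹,
      Matrix.SpecialLinearGroup.ext _ _ fun i j => ?_⟩
    rw [Matrix.SpecialLinearGroup.coe_mul, Matrix.SpecialLinearGroup.coe_mul,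
      Matrix.SpecialLinearGroup.coe_mul, coe_dg, coe_wOne, SL2Hom.coe_up, SL2Hom.coe_up, hg]
    fin_cases i <;> fin_cases j <;> simp [Matrix.mul_fin_two] <;> field_simp
    linear_combination -hdet

theorem wOne_mul_wOne : (wOne * wOne : SL2) = dg (-1) := by
  refine Matrix.SpecialLinearGroup.ext _ _ fun i j => ?_
  rw [Matrix.SpecialLinearGroup.coe_mul, coe_wOne, coe_dg]
  fin_cases i <;> fin_cases j <;> simp [Matrix.mul_fin_two]

theorem wOne_conj_upMat (t : k) : (wOne : SL2) * upMat t * wOne⁻¹ = lowMat (-t) := by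
  have := SL2Hom.sl2Rels.w_conj (1 : k) t one_ne_zero
  rwa [inv_one, one_pow, one_mul] at this

theorem sl2_induction {P : SL2 → Prop} (h1 : P 1) (hup : ∀ t g, P g → P (upMat t * g))
    (hlow : ∀ t g, P g → P (lowMat t * g)) (g : SL2) : P g := by
  have hg : g ∈ Subgroup.closure (Set.range (upMat (k := k)) ∪ Set.range lowMat) := by
    rw [SL2Hom.closure_upMat_lowMat]; trivial
  induction hg using Subgroup.closure_induction_left with
  | one => exact h1
  | mul_left x hx y _ ih =>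
    rcases hx with ⟨t, rfl⟩ | ⟨t, rfl⟩
    · exact hup t y ih
    · exact hlow t y ih
  | inv_mul_cancel x hx y _ ih =>
    rcases hx with ⟨t, rfl⟩ | ⟨t, rfl⟩
    · rw [upMat_inv]; exact hup _ y ih
    · rw [lowMat_inv]; exact hlow _ y ih

/-- The torus of a system of rank one relations over a finite field multiplies. -/
theorem hmul_of_rels [Finite k] {G : Type*} [Group G] {x y : k → G} (R : SL2Rels x y) (t u : kˣ) :
    SL2Rels.hEl x y t * SL2Rels.hEl x y u = SL2Rels.hEl x y ((t * u : kˣ) : k) := by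
  set Γ : Subgroup (SL2 × G) :=
    Subgroup.closure (Set.range (fun t => (upMat t, x t)) ∪ Set.range (fun t => (lowMat t, y t)))
  set x' : k → Γ := fun t => ⟨(upMat t, x t), Subgroup.subset_closure (Or.inl ⟨t, rfl⟩)⟩
  set y' : k → Γ := fun t => ⟨(lowMat t, y t), Subgroup.subset_closure (Or.inr ⟨t, rfl⟩)⟩
  have R' : SL2Rels x' y' :=
    { x_add := fun t u => Subtype.ext (Prod.ext (upMat_mul t u) (R.x_add t u))
      y_add := fun t u => Subtype.ext (Prod.ext (lowMat_mul t u) (R.y_add t u))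
      w_conj := fun t u ht => Subtype.ext (Prod.ext (SL2Hom.sl2Rels.w_conj t u ht) (R.w_conj t u ht)) }
  have hgen : Subgroup.closure (Set.range x' ∪ Set.range y') = ⊤ := by
    refine eq_top_iff.2 fun g _ => ?_
    have hle : Γ ≤ (Subgroup.closure (Set.range x' ∪ Set.range y')).map Γ.subtype := by
      refine (Subgroup.closure_le _).2 ?_
      rintro z (⟨t, rfl⟩ | ⟨t, rfl⟩)
      · exact ⟨x' t, Subgroup.subset_closure (Or.inl ⟨t, rfl⟩), rfl⟩
      · exact ⟨y' t, Subgroup.subset_closure (Or.inr ⟨t, rfl⟩), rfl⟩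
    obtain ⟨z, hz, e⟩ := hle g.2
    rwa [← Subtype.ext (a1 := z) (a2 := g) e]
  exact congrArg (fun z : Γ => (z : SL2 × G).2)
    (R'.h_mul ((MonoidHom.fst SL2 G).comp Γ.subtype) (fun _ => rfl) (fun _ => rfl) hgen t u)

/-- A homomorphism from `SL₂` from the rank one relations over a finite field. -/
theorem exists_sl2Hom [Finite k] {G : Type*} [Group G] {x y : k → G} (R : SL2Rels x y) :
    ∃ ψ : SL2 →* G, (∀ t, ψ (upMat t) = x t) ∧ ∀ t, ψ (lowMat t) = y t := by
  obtain ⟨ψ, h1, h2, -⟩ := SL2Hom.exists_hom R (hmul_of_rels R)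
  exact ⟨ψ, h1, h2⟩

variable {p : ℕ} {X G : Type*} [Group X] [Group G] (E : PExt p X G)

/-- The lifts of `p`-power order of rank one relations satisfy them. -/
theorem lifted_rels [Finite X] {x y : k → G} (R : SL2Rels x y) {P : Subgroup G}
    (hP : IsPGroup p P) (hx : ∀ t, x t ∈ P) :
    (∀ t, IsP p (y t)) ∧ SL2Rels (fun t => E.can (x t)) (fun t => E.can (y t)) := by
  have hxp : ∀ t, IsP p (x t) := fun t => isP_of_mem hP (hx t)
  have hyp : ∀ t, IsP p (y t) := fun t => by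
    have h := R.w_conj 1 (-t) one_ne_zero
    rw [inv_one, one_pow, one_mul, neg_neg] at h
    rw [← h]
    exact (hxp _).conj _
  let Y : Subgroup G :=
    { carrier := Set.range y
      one_mem' := ⟨0, R.y_zero⟩
      mul_mem' := by rintro _ _ ⟨a, rfl⟩ ⟨b, rfl⟩; exact ⟨a + b, (R.y_add a b).symm⟩
      inv_mem' := by rintro _ ⟨a, rfl⟩; exact ⟨-a, (R.y_inv a).symm⟩ }
  have hY : IsPGroup p Y := by
    rintro ⟨_, t, rfl⟩
    obtain ⟨j, hj⟩ := hyp t
    exact ⟨j, Subtype.ext hj⟩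
  refine ⟨hyp, ⟨fun t u => ?_, fun t u => ?_, fun t u ht => ?_⟩⟩
  · show E.can (x t) * E.can (x u) = _
    rw [← E.can_mul hP (hx t) (hx u), R.x_add]
  · show E.can (y t) * E.can (y u) = _
    rw [← E.can_mul hY ⟨t, rfl⟩ ⟨u, rfl⟩, R.y_add]
  · show _ = E.can (y _)
    rw [← R.w_conj t u ht]
    refine E.can_conj (hxp u) ?_
    simp only [wEl, map_mul]
    rw [E.proj_can (hxp t), E.proj_can (hyp _)]

end Cfsg.Agent.H74.RootExt
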