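import Cfsg.Agent.Linear.Mult.Killed

/-!
Self pairings of an abelian piece.
-/

set_option autoImplicit false
set_option linter.unusedSectionVars false

namespace Cfsg.Agent.H74.RootExt

open Subgroup Cfsg.Agent.Linear.Mult
open scoped commutatorElement

variable {G X : Type*} [Group G] [Group X] {p : ℕ} (E : LExt p X G)

/-- Two conjugations `A` and `C` with `C u = u (A u)` on a piece make it self-commuting upstairs,
when `A C w · C w · (A w)⁻¹` is injective on it. -/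
theorem self_of_scalings {Y : Subgroup G} [Finite Y] (hcomm : ∀ x ∈ Y, ∀ y ∈ Y, Commute x y)
    {a c : G} (hca : Commute a c) (ha : ∀ x ∈ Y, a * x * a⁻¹ ∈ Y)
    (hc : ∀ x ∈ Y, c * x * c⁻¹ ∈ Y) (hadd : ∀ x ∈ Y, c * x * c⁻¹ = x * (a * x * a⁻¹))
    (hker : ∀ w ∈ Y, a * (c * w * c⁻¹) * a⁻¹ * (c * w * c⁻¹) * (a * w * a⁻¹)⁻¹ = 1 → w = 1) :
    ∀ x ∈ Y, ∀ y ∈ Y, E.cm x y = 1 := by
  have hinv : ∀ g : G, ∀ x ∈ Y, ∀ y ∈ Y, E.cm (g * x * g⁻¹) (g * y * g⁻¹) = E.cm x y := by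
    intro g x hx y hy
    rw [← E.conj_cm (E.proj_lift g), CExtData.conj_central (E.cm_mem_center (hcomm x hx y hy))]
  have hl : ∀ x ∈ Y, ∀ x' ∈ Y, ∀ y ∈ Y, E.cm (x * x') y = E.cm x' y * E.cm x y :=
    fun x _ x' hx' y hy => E.cm_mul_left_of_commute (hcomm x' hx' y hy)
  have hr : ∀ x ∈ Y, ∀ y ∈ Y, ∀ y' ∈ Y, E.cm x (y * y') = E.cm x y * E.cm x y' :=
    fun x hx y _ y' hy' => E.cm_mul_right_of_commute (hcomm x hx y' hy')
  let f : Y → Y := fun w => ⟨a * (c * w * c⁻¹) * a⁻¹ * (c * w * c⁻¹) * (a * w * a⁻¹)⁻¹,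
    mul_mem (mul_mem (ha _ (hc _ w.2)) (hc _ w.2)) (inv_mem (ha _ w.2))⟩
  have hfinj : Function.Injective f := by
    rintro ⟨v, hv⟩ ⟨w, hw⟩ e
    have e' : a * (c * v * c⁻¹) * a⁻¹ * (c * v * c⁻¹) * (a * v * a⁻¹)⁻¹ =
        a * (c * w * c⁻¹) * a⁻¹ * (c * w * c⁻¹) * (a * w * a⁻¹)⁻¹ := congrArg Subtype.val e
    refine Subtype.ext (mul_inv_eq_one.1 (hker _ (mul_mem hv (inv_mem hw)) ?_))
    have h1 : a * (c * (v * w⁻¹) * c⁻¹) * a⁻¹ =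
        a * (c * v * c⁻¹) * a⁻¹ * (a * (c * w * c⁻¹) * a⁻¹)⁻¹ := by group
    have h2 : c * (v * w⁻¹) * c⁻¹ = c * v * c⁻¹ * (c * w * c⁻¹)⁻¹ := by group
    have h3 : a * (v * w⁻¹) * a⁻¹ = a * v * a⁻¹ * (a * w * a⁻¹)⁻¹ := by group
    rw [h1, h2, h3]
    set P := a * (c * v * c⁻¹) * a⁻¹
    set Q := c * v * c⁻¹
    set R := a * v * a⁻¹
    set P' := a * (c * w * c⁻¹) * a⁻¹
    set Q' := c * w * c⁻¹
    set R' := a * w * a⁻¹
    have hP' : P' ∈ Y := ha _ (hc _ hw)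
    have hQ : Q ∈ Y := hc _ hv
    have hQ' : Q' ∈ Y := hc _ hw
    have hR : R ∈ Y := ha _ hv
    have hR' : R' ∈ Y := ha _ hw
    have c1 := (hcomm _ (inv_mem hP') _ hQ).eq
    have c2 := (hcomm _ (mul_mem (inv_mem hP') (inv_mem hQ')) _ (mul_mem hR' (inv_mem hR))).eq
    calc P * P'⁻¹ * (Q * Q'⁻¹) * (R * R'⁻¹)⁻¹
        = P * (P'⁻¹ * Q) * Q'⁻¹ * R' * R⁻¹ := by group
      _ = P * Q * ((P'⁻¹ * Q'⁻¹) * (R' * R⁻¹)) := by rw [c1]; group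
      _ = (P * Q * R⁻¹) * ((R * R' * R⁻¹) * (P'⁻¹ * Q'⁻¹)) := by rw [c2]; group
      _ = _ := by
          rw [(hcomm _ hR _ hR').eq, e', mul_inv_cancel_right R' R,
            (hcomm _ (inv_mem hP') _ (inv_mem hQ')).eq]
          group
  have hsurj := Finite.injective_iff_surjective.1 hfinj
  intro u hu y hy
  obtain ⟨⟨w, hw⟩, e⟩ := hsurj ⟨y, hy⟩
  have e' : a * (c * w * c⁻¹) * a⁻¹ * (c * w * c⁻¹) * (a * w * a⁻¹)⁻¹ = y := congrArg Subtype.val e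
  set v := a * (c * w * c⁻¹) * a⁻¹ with hv
  have hvY : v ∈ Y := ha _ (hc _ hw)
  have h1 : E.cm (c * u * c⁻¹) v = E.cm u (a * w * a⁻¹) := by
    rw [← hinv c u hu _ (ha w hw)]
    congr 1
    rw [hv, show a * (c * w * c⁻¹) * a⁻¹ = (a * c) * w * (a * c)⁻¹ by group, hca.eq]
    group
  have h2 : E.cm (a * u * a⁻¹) v = E.cm u (c * w * c⁻¹) := hinv a u hu _ (hc w hw)
  have h3 : E.cm u (a * w * a⁻¹) = E.cm u (c * w * c⁻¹) * E.cm u v := by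
    rw [← h2, ← h1, hadd u hu, hl u hu _ (ha u hu) v hvY]
  have h4 : E.cm u ((c * w * c⁻¹) * v) = E.cm u (y * (a * w * a⁻¹)) := by
    rw [← e', inv_mul_cancel_right, (hcomm _ (hc w hw) _ hvY).eq]
  rw [hr u hu _ (hc w hw) _ hvY, hr u hu y hy _ (ha w hw), h3] at h4
  exact (right_eq_mul.1 h4)

end Cfsg.Agent.H74.RootExt
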