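import Cfsg.Agent.H74.RootExt.TwKilled

/-!
From tables to the hypotheses on a twisted group: long roots, realised characters.
-/

set_option autoImplicit false
set_option linter.unusedSectionVars false

namespace Cfsg.Agent.H74.RootExt.Tw

open Cfsg.Lie Cfsg.Agent.H37 Cfsg.Agent.H37.RootSys Cfsg.Agent.H37.Twist
open scoped commutatorElement

/-- The root `k` is a commutator of the fixed roots `r`, `s` that commute with it. -/
def longB (D : ChevalleyDatum) (rh : ℕ → ℕ) (sg : ℕ → ℤ) (k r s : ℕ) (c : ℤ) : Bool :=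
  decide (k < D.nroots) && decide (r < D.nroots) && decide (s < D.nroots) &&
    (rh k == k) && (rh r == r) && (rh s == s) && (sg k == 1) && (sg r == 1) && (sg s == 1) &&
    ((c == 1) || (c == -1)) && !(s == r) && !(s == D.neg r) && (D.commTerms r s == [(k, c, 1, 1)]) &&
    !(r == D.neg k) && (D.commTerms k r).isEmpty && !(s == D.neg k) && (D.commTerms k s).isEmpty

variable {D : ChevalleyDatum} {K : Type*} [Field K] {Q : Chev.Data D K} {E : Endo Q}
  {q : ℕ} {sg : ℕ → ℤ}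

theorem long_of {N : ℕ} {O : Fin N → List ℕ} {i : Fin N} {k r s : ℕ} {c : ℤ} (hO : O i = [k])
    (hsg : ∀ r, r < D.nroots → ∀ t, E.f r t = (sg r : K) * t ^ q)
    (hq : (-1 : K) ^ q = -1)
    (hB : longB D E.s.T.rh sg k r s c = true) : Long (E := E) (O := O) i k := by
  simp only [longB, Bool.and_eq_true, decide_eq_true_eq, beq_iff_eq, Bool.or_eq_true,
    Bool.not_eq_true', beq_eq_false_iff_ne, List.isEmpty_iff] at hB
  obtain ⟨⟨⟨⟨⟨⟨⟨⟨⟨⟨⟨⟨⟨⟨⟨⟨hk, hr⟩, hs⟩, hfk⟩, hfr⟩, hfs⟩, hgk⟩, hgr⟩, hgs⟩, hc⟩, hne⟩, hneg⟩, hrs⟩,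
    hkr⟩, hkr'⟩, hks⟩, hks'⟩ := hB
  refine ⟨hO, hfk, fun u t ht => ?_⟩
  rw [hsg k hk, hgk, Int.cast_one, one_mul] at ht
  set a : ↥(D.group K) := xG Q.K K s (-1) with ha
  set b : ↥(D.group K) := xG Q.K K r ((c : K) * t) with hb
  have hcc : (c : K) * c = 1 := by rcases hc with rfl | rfl <;> simp
  have hcq : (c : K) ^ q = c := by rcases hc with rfl | rfl <;> simp [hq]
  have hcomm' : ∀ x : ℕ, x < D.nroots → x ≠ D.neg k → D.commTerms k x = [] → ∀ u v : K,
      Commute (xG Q.K K k u) (xG Q.K K x v) := by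
    intro x hx h1 h2 u v
    refine Subtype.ext ?_
    show Q.K.xU K k u * Q.K.xU K x v = Q.K.xU K x v * Q.K.xU K k u
    by_cases hkx : x = k
    · subst hkx; rw [Q.K.xU_add, Q.K.xU_add, add_comm]
    · rw [Q.K.xU_comm K hk hx hkx h1 u v]
      simp [ChevalleyDatum.commWord, h2, Chevalley.Cert.wU_nil]
  refine ⟨a, b, ?_, ?_, ?_, hcomm' s hs hks hks' u _, hcomm' r hr hkr hkr' u _⟩
  · rw [ha, E.σ_x s hs, hfs, hsg s hs, hgs, Int.cast_one, one_mul, hq]
  · rw [hb, E.σ_x r hr, hfr, hsg r hr, hgr, Int.cast_one, one_mul, mul_pow, hcq, ht]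
  · refine Subtype.ext ?_
    show Q.K.xU K s (-1) * Q.K.xU K r ((c : K) * t) * (Q.K.xU K s (-1))⁻¹ *
      (Q.K.xU K r ((c : K) * t))⁻¹ = Q.K.xU K k t
    have hinv : ∀ (x : ℕ) (v : K), (Q.K.xU K x v)⁻¹ = Q.K.xU K x (-v) := fun x v =>
      inv_eq_of_mul_eq_one_right (by rw [Q.K.xU_add, add_neg_cancel, Q.K.xU_zero])
    rw [hinv, hinv, neg_neg, mul_assoc (Q.K.xU K s (-1) * _), Q.K.xU_comm K hr hs hne hneg]
    simp only [ChevalleyDatum.commWord, hrs, List.map_cons, List.map_nil, pow_one,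
      Chevalley.Cert.wU_cons, Chevalley.Cert.wU_nil, mul_one, neg_neg]
    have hv : (c : K) * -((c : K) * t) * -1 = t := by linear_combination t * hcc
    rw [hv]
    have c1 : Commute (Q.K.xU K k t) (Q.K.xU K s 1) :=
      congrArg Subtype.val (hcomm' s hs hks hks' t 1)
    have c2 : Commute (Q.K.xU K k t) (Q.K.xU K r (-((c : K) * t))) :=
      congrArg Subtype.val (hcomm' r hr hkr hkr' t _)
    calc Q.K.xU K r ((c : K) * t) * Q.K.xU K s (-1) * Q.K.xU K k t *
          (Q.K.xU K s 1 * Q.K.xU K r (-((c : K) * t)))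
        = Q.K.xU K r ((c : K) * t) * Q.K.xU K s (-1) *
            (Q.K.xU K k t * (Q.K.xU K s 1 * Q.K.xU K r (-((c : K) * t)))) := by group
      _ = Q.K.xU K r ((c : K) * t) * (Q.K.xU K s (-1) * Q.K.xU K s 1) *
            Q.K.xU K r (-((c : K) * t)) * Q.K.xU K k t := by rw [(c1.mul_right c2).eq]; group
      _ = _ := by
        rw [Q.K.xU_add, neg_add_cancel, Q.K.xU_zero, mul_one, Q.K.xU_add, add_neg_cancel,
          Q.K.xU_zero, one_mul]

variable [Fintype K] {d : ℕ} [NeZero d]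

/-- The first unit vector. -/
def unit0 : Fin d → ℤ := fun k => if k = 0 then 1 else 0

theorem ev_unit0 : ev q (unit0 : Fin d → ℤ) = 1 := by
  rw [ev, Finset.sum_eq_single 0 (fun k _ hk => by simp [unit0, hk]) (by simp)]
  simp [unit0]

theorem realised_of_unit (hK : Fintype.card K = q ^ d) {W : Fin D.rank → Fin d → ℤ}
    (hW : FixW E W) {r : ℕ} (hr : expo W r = unit0) :
    ∀ b : Kˣ, ∃ c, E.hat (fun _ => q) c = c ∧ chT c r = b := fun b =>
  ⟨cOf q W b, hat_cOf E hK hW b, by rw [chT_cOf, hr, ev_unit0, zpow_one]⟩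

theorem ev_odd {v : Fin d → ℤ} (hd : Odd d) (hv : ∀ k, Odd (v k)) : Odd (ev q v) := by
  rcases Nat.even_or_odd q with hq | hq
  · rw [ev, ← Finset.add_sum_erase _ _ (Finset.mem_univ (0 : Fin d))]
    refine (show Odd (v 0 * (q : ℤ) ^ (0 : Fin d).val) by simpa using hv 0).add_even ?_
    refine Finset.even_sum _ fun k hk => Even.mul_left ?_ _
    refine (Int.even_pow).2 ⟨(Int.even_coe_nat q).2 hq, fun h0 => ?_⟩
    exact Finset.ne_of_mem_erase hk (Fin.ext (by simpa using h0))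
  · rw [ev]
    have key : ∀ s : Finset (Fin d), Odd (∑ k ∈ s, v k * (q : ℤ) ^ k.val) ↔ Odd s.card := by
      intro s
      induction s using Finset.induction_on with
      | empty => simp
      | insert a s ha ih =>
        have ho : Odd (v a * (q : ℤ) ^ a.val) := (hv a).mul ((Int.odd_coe_nat q).2 hq).pow
        rw [Finset.sum_insert ha, Finset.card_insert_of_notMem ha, Int.odd_add, Nat.odd_add_one,
          ← ih, ← Int.not_odd_iff_even]
        exact ⟨fun h => h.1 ho, fun h => ⟨fun _ => h, fun _ => ho⟩⟩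
    rw [key, Finset.card_univ, Fintype.card_fin]
    exact hd

theorem realised_of_odd (hK : Fintype.card K = q ^ d) {W₁ W₂ : Fin D.rank → Fin d → ℤ}
    (h1 : FixW E W₁) (h2 : FixW E W₂) (hd : Odd d) {r : ℕ}
    (e1 : expo W₁ r = fun k => 2 * unit0 k) (e2 : ∀ k, Odd (expo W₂ r k)) :
    ∀ b : Kˣ, ∃ c, E.hat (fun _ => q) c = c ∧ chT c r = b := by
  intro b
  obtain ⟨s, hs⟩ := ev_odd (q := q) hd e2
  refine ⟨cOf q W₂ b * cOf q W₁ (b ^ (-s)), by rw [map_mul, hat_cOf E hK h2, hat_cOf E hK h1], ?_⟩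
  have e : ev q (fun k : Fin d => 2 * unit0 k) = 2 := by
    rw [show ev q (fun k : Fin d => 2 * unit0 k) = 2 * ev q (unit0 : Fin d → ℤ) by
      simp only [ev, Finset.mul_sum, mul_assoc], ev_unit0, mul_one]
  have hmul : ∀ c c' : Fin D.rank → Kˣ, chT (c * c') r = chT c r * chT c' r := fun c c' => by
    simp only [chT, Pi.mul_apply, mul_zpow, Finset.prod_mul_distrib]
  rw [hmul, chT_cOf, chT_cOf, e1, e, hs, ← zpow_mul, ← zpow_add]
  rw [show 2 * s + 1 + -s * 2 = 1 by ring, zpow_one]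

end Cfsg.Agent.H74.RootExt.Tw
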