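import Cfsg.Agent.H37.Twist.Torus
import Cfsg.Agent.H37.Twist.Pieces

/-!
Fixed torus elements with parameters `z ^ P(q)` for integral polynomials `P` modulo `X ^ d - 1`.
-/

set_option autoImplicit false
set_option linter.unusedSectionVars false

namespace Cfsg.Agent.H74.RootExt.Tw

open Cfsg.Lie Cfsg.Agent.H37 Cfsg.Agent.H37.RootSys Cfsg.Agent.H37.Twist

/-- The value at `q`. -/
def ev {d : ℕ} (q : ℕ) (v : Fin d → ℤ) : ℤ := ∑ k, v k * (q : ℤ) ^ k.val

/-- Multiplication by `X`. -/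
def rot {d : ℕ} [NeZero d] (v : Fin d → ℤ) : Fin d → ℤ := fun k => v (k - 1)

/-- Coefficients small enough to give a nonzero exponent below `q ^ d - 1` for `q ≥ 3`. -/
def SmallVec {d : ℕ} (v : Fin d → ℤ) : Prop :=
  (∀ k, -2 ≤ v k ∧ v k ≤ 2) ∧ (∃ k, -1 ≤ v k ∧ v k ≤ 1) ∧ ∃ k, v k ≠ 0

instance {d : ℕ} (v : Fin d → ℤ) : Decidable (SmallVec v) := by unfold SmallVec; infer_instance

theorem ev_succ {d : ℕ} (q : ℕ) (v : Fin (d + 1) → ℤ) :
    ev q v = v 0 + (q : ℤ) * ev q (fun k : Fin d => v k.succ) := by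
  rw [ev, ev, Fin.sum_univ_succ, Fin.val_zero, pow_zero, mul_one, Finset.mul_sum]
  congr 1
  refine Finset.sum_congr rfl fun k _ => ?_
  rw [Fin.val_succ]
  ring

theorem ev_ne_zero {q : ℕ} (hq : 3 ≤ q) :
    ∀ {d : ℕ} (v : Fin d → ℤ), (∀ k, -2 ≤ v k ∧ v k ≤ 2) → (∃ k, v k ≠ 0) → ev q v ≠ 0
  | 0, _, _, h => absurd h.choose.isLt (Nat.not_lt_zero _)
  | d + 1, v, hb, ⟨k, hk⟩ => by
      intro h0
      rw [ev_succ] at h0
      have hdiv : (q : ℤ) ∣ v 0 := ⟨-ev q (fun k : Fin d => v k.succ), by linear_combination h0⟩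
      have hv0 : v 0 = 0 := Int.eq_zero_of_abs_lt_dvd hdiv (by
        rw [abs_lt]
        have := hb 0
        constructor <;> omega)
      rw [hv0, zero_add, mul_eq_zero] at h0
      rcases Fin.eq_zero_or_eq_succ k with rfl | ⟨j, rfl⟩
      · exact hk hv0
      · exact ev_ne_zero hq (fun k : Fin d => v k.succ) (fun k => hb k.succ) ⟨j, hk⟩
          (h0.resolve_left (by omega))

theorem abs_ev_lt {q : ℕ} (hq : 3 ≤ q) {d : ℕ} {v : Fin d → ℤ} (h : SmallVec v) :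
    |ev q v| < (q : ℤ) ^ d - 1 := by
  obtain ⟨hb, ⟨j, hj⟩, -⟩ := h
  have h1 : |ev q v| ≤ ∑ k, |v k| * (q : ℤ) ^ k.val := by
    refine (Finset.abs_sum_le_sum_abs _ _).trans (Finset.sum_le_sum fun k _ => ?_)
    rw [abs_mul, abs_pow, Nat.abs_cast]
  have hpos : ∀ k : Fin d, (0 : ℤ) < (q : ℤ) ^ k.val := fun k => by positivity
  have h2 : ∑ k, |v k| * (q : ℤ) ^ k.val < ∑ k : Fin d, 2 * (q : ℤ) ^ k.val := by
    refine Finset.sum_lt_sum (fun k _ => ?_) ⟨j, Finset.mem_univ _, ?_⟩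
    · refine mul_le_mul_of_nonneg_right (abs_le.2 ?_) (hpos k).le
      exact ⟨(hb k).1, (hb k).2⟩
    · refine mul_lt_mul_of_pos_right ?_ (hpos j)
      have : |v j| ≤ 1 := abs_le.2 hj
      omega
  have h3 : ∑ k : Fin d, 2 * (q : ℤ) ^ k.val ≤ (q : ℤ) ^ d - 1 := by
    rw [← Finset.mul_sum, Fin.sum_univ_eq_sum_range (fun k => (q : ℤ) ^ k), ← geom_sum_mul (q : ℤ) d,
      mul_comm _ ((q : ℤ) - 1)]
    exact mul_le_mul_of_nonneg_right (by omega) (Finset.sum_nonneg fun k _ => by positivity)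
  omega

theorem dvd_pow_wrap {d : ℕ} [NeZero d] (q : ℕ) (j : Fin d) :
    ((q : ℤ) ^ d - 1) ∣ (q : ℤ) ^ (j.val + 1) - (q : ℤ) ^ (j + 1).val := by
  have hj := j.isLt
  rw [Fin.val_add, Fin.coe_ofNat_eq_mod]
  rcases Nat.lt_or_ge (j.val + 1) d with h | h
  · rw [Nat.mod_eq_of_lt (show 1 < d by omega), Nat.mod_eq_of_lt h, sub_self]
    exact dvd_zero _
  · have e : j.val + 1 = d := by omega
    rw [Nat.add_mod_mod, e, Nat.mod_self, pow_zero]

/-- Multiplication by `q` is multiplication by `X`. -/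
theorem dvd_ev_rot {d : ℕ} [NeZero d] (q : ℕ) (v : Fin d → ℤ) :
    ((q : ℤ) ^ d - 1) ∣ (q : ℤ) * ev q v - ev q (rot v) := by
  have e : ev q (rot v) = ∑ j : Fin d, v j * (q : ℤ) ^ (j + 1).val := by
    rw [ev]
    refine (Fintype.sum_equiv (Equiv.addRight (1 : Fin d)) _ _ fun j => ?_).symm
    simp [rot]
  rw [e, ev, Finset.mul_sum, ← Finset.sum_sub_distrib]
  refine Finset.dvd_sum fun j _ => ?_
  rw [show (q : ℤ) * (v j * (q : ℤ) ^ j.val) - v j * (q : ℤ) ^ (j + 1).val =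
    v j * ((q : ℤ) ^ (j.val + 1) - (q : ℤ) ^ (j + 1).val) by ring]
  exact dvd_mul_of_dvd_right (dvd_pow_wrap q j) _

variable {D : ChevalleyDatum} {K : Type*} [Field K] {Q : Chev.Data D K} (E : Endo Q)
  {d q : ℕ} [NeZero d]

/-- The exponent on a root. -/
def expo (W : Fin D.rank → Fin d → ℤ) (r : ℕ) : Fin d → ℤ :=
  fun k => ∑ m : Fin D.rank, W m k * D.cartan m.val r

/-- The parameters. -/
def cOf (q : ℕ) (W : Fin D.rank → Fin d → ℤ) (z : Kˣ) : Fin D.rank → Kˣ :=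
  fun m => z ^ ev q (W m)

theorem chT_cOf (W : Fin D.rank → Fin d → ℤ) (z : Kˣ) (r : ℕ) :
    chT (cOf q W z) r = z ^ ev q (expo W r) := by
  have key : ∀ (s : Finset (Fin D.rank)),
      ∏ m ∈ s, (z ^ ev q (W m)) ^ D.cartan m.val r =
        z ^ ∑ m ∈ s, ev q (W m) * D.cartan m.val r := by
    intro s
    classical
    induction s using Finset.induction_on with
    | empty => simp
    | insert a s ha ih => rw [Finset.prod_insert ha, Finset.sum_insert ha, zpow_add, zpow_mul, ih]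
  rw [chT, show ev q (expo W r) = ∑ m : Fin D.rank, ev q (W m) * D.cartan m.val r by
    simp only [ev, expo, Finset.sum_mul]
    rw [Finset.sum_comm]
    exact Finset.sum_congr rfl fun m _ => Finset.sum_congr rfl fun k _ => by ring]
  exact key _

/-- The condition for the parameters to be fixed. -/
def FixW (E : Endo Q) (W : Fin D.rank → Fin d → ℤ) : Prop :=
  ∀ i j : Fin D.rank, E.s.T.p i.val = j.val → W j = rot (W i)

variable [Fintype K]

theorem zpow_eq_of_dvd (hK : Fintype.card K = q ^ d) (z : Kˣ) {a b : ℤ}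
    (h : ((q : ℤ) ^ d - 1) ∣ a - b) : z ^ a = z ^ b := by
  classical
  obtain ⟨k, hk⟩ := h
  have hc : z ^ ((q : ℤ) ^ d - 1) = 1 := by
    have h1 : z ^ (q ^ d - 1) = 1 := by
      rw [← hK, ← Fintype.card_units, pow_card_eq_one]
    have hpos : 1 ≤ q ^ d := hK ▸ Fintype.card_pos
    rw [show (q : ℤ) ^ d - 1 = ((q ^ d - 1 : ℕ) : ℤ) by push_cast [hpos]; rfl, zpow_natCast, h1]
  rw [show a = b + ((q : ℤ) ^ d - 1) * k by linear_combination hk, zpow_add, zpow_mul, hc,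
    one_zpow, mul_one]

theorem hat_cOf (hK : Fintype.card K = q ^ d) {W : Fin D.rank → Fin d → ℤ} (hW : FixW E W)
    (z : Kˣ) : E.hat (fun _ => q) (cOf q W z) = cOf q W z := by
  funext j
  let π : Fin D.rank → Fin D.rank := fun i =>
    ⟨E.s.T.p i.val, lt_of_lt_of_eq (E.s.p_spec (E.rank_lt i)).1 Q.rank_eq.symm⟩
  have hπ : Function.Injective π := fun a b e => E.p_inj (congrArg Fin.val e)
  obtain ⟨i, hi⟩ := Finite.injective_iff_surjective.1 hπ j
  have hij : E.s.T.p i.val = j.val := congrArg Fin.val hi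
  rw [E.hat_apply _ _ i j hij]
  show (z ^ ev q (W i)) ^ q = z ^ ev q (W j)
  rw [← zpow_natCast, ← zpow_mul, hW i j hij]
  refine zpow_eq_of_dvd hK z ?_
  rw [mul_comm]
  exact dvd_ev_rot q (W i)

/-- A parameter on which a small exponent is not trivial. -/
theorem exists_ne_one (hK : Fintype.card K = q ^ d) (hq : 3 ≤ q) :
    ∃ z : Kˣ, ∀ v : Fin d → ℤ, SmallVec v → z ^ ev q v ≠ 1 := by
  classical
  obtain ⟨g, hg⟩ := IsCyclic.exists_generator (α := Kˣ)
  refine ⟨g, fun v hv h => ev_ne_zero hq v hv.1 hv.2.2 ?_⟩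
  have ho : orderOf g = q ^ d - 1 := by
    rw [orderOf_eq_card_of_forall_mem_zpowers hg, Nat.card_eq_fintype_card, Fintype.card_units, hK]
  have hdvd := orderOf_dvd_iff_zpow_eq_one.2 h
  refine Int.eq_zero_of_abs_lt_dvd hdvd ?_
  rw [ho]
  have hpos : 1 ≤ q ^ d := Nat.one_le_pow _ _ (by omega)
  push_cast [hpos]
  exact abs_ev_lt hq hv

/-- The conjugation rule along the endomorphism. -/
theorem chT_rh (hns : E.NoSign fun _ => q)
    (hf : ∀ r, r < D.nroots → E.f r 1 ≠ 0 ∧ ∀ t, E.f r t = E.f r 1 * t ^ q)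
    {c : Fin D.rank → Kˣ} (hc : E.hat (fun _ => q) c = c) {r : ℕ} (hr : r < D.nroots) :
    (chT c (E.s.T.rh r) : K) = (chT c r : K) ^ q := by
  have e := congrArg E.σ (tG_conj Q c hr (1 : K))
  rw [map_mul, map_mul, map_inv, E.σ_x r hr, E.σ_x r hr, E.σ_tG hns, hc, mul_one,
    tG_conj Q c (E.s.root_spec hr).1, (hf r hr).2 (chT c r : K)] at e
  have h := xG_inj Q (E.s.root_spec hr).1 e
  exact mul_right_cancel₀ (hf r hr).1 (h.trans (mul_comm _ _))

end Cfsg.Agent.H74.RootExt.Tw
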