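import Cfsg.Agent.H74.RootExt.TwPieces
import Cfsg.Agent.H74.RootExt.TwTorus
import Cfsg.Agent.H74.RootExt.SelfPair

/-!
The unipotent radical of a twisted group is killed in the extensions by a kernel of prime order,
given orbits sorted by height and separating exponents of fixed torus elements.
-/

set_option autoImplicit false
set_option linter.unusedSectionVars false

namespace Cfsg.Agent.H74.RootExt.Tw

open Cfsg.Lie Cfsg.Agent.H37 Cfsg.Agent.H37.RootSys Cfsg.Agent.H37.Twist Cfsg.Agent.H56.TwAut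
open Cfsg.Agent.Linear.Mult
open scoped commutatorElement

variable {D : ChevalleyDatum} {K : Type*} [Field K] [Fintype K] {Q : Chev.Data D K} {E : Endo Q}
  {W' : Type*} [Group W'] {Φ : Fold E W'} (Md : Model Φ) {N : ℕ} {O : Fin N → List ℕ}

/-- A fixed element of the group as an element of the twisted group. -/
theorem exists_mem {g : ↥(D.group K)} (h : E.σ g = g) : ∃ x : ↥Md.T, lift Md x = g :=
  ⟨Md.iso ⟨g, h⟩, lift_iso Md _⟩

theorem fixed_lift (x : ↥Md.T) : E.σ (lift Md x) = lift Md x := Md.le_fixed _ x.2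

/-- The fixed part of an orbit. -/
noncomputable def Y (O : Fin N → List ℕ) (i : Fin N) : Subgroup ↥Md.T :=
  (XS Q.sys.x (↑(O i).toFinset : Set ℕ)).comap (liftHom Md)

theorem mem_Y {i : Fin N} {x : ↥Md.T} :
    x ∈ Y Md O i ↔ lift Md x ∈ XS Q.sys.x (↑(O i).toFinset : Set ℕ) := Iff.rfl

variable (h : Orbits Q E.s.T.rh O)
include h

theorem inter_bot (i : Fin N) {a : ↥(D.group K)}
    (ha : a ∈ XS Q.sys.x (↑(O i).toFinset : Set ℕ))
    (hb : a ∈ XS Q.sys.x (↑(SS O (i.val + 1)) : Set ℕ)) : a = 1 := by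
  classical
  set A := XS Q.sys.x (↑(O i).toFinset : Set ℕ)
  set B := XS Q.sys.x (↑(SS O (i.val + 1)) : Set ℕ)
  set C := XS Q.sys.x (↑(SS O i.val) : Set ℕ)
  have hA : A ≤ C := XS_mono fun r hr => Finset.mem_coe.2 (mem_SS.2
    ⟨i, le_rfl, List.mem_toFinset.1 hr⟩)
  have hB : B ≤ C := XS_mono fun r hr => by
    obtain ⟨l, hl, hrl⟩ := mem_SS.1 (Finset.mem_coe.1 hr)
    exact Finset.mem_coe.2 (mem_SS.2 ⟨l, by omega, hrl⟩)
  let f : A × B → C := fun p => ⟨p.1 * p.2, mul_mem (hA p.1.2) (hB p.2.2)⟩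
  have hsurj : Function.Surjective f := by
    rintro ⟨v, hv⟩
    obtain ⟨a, ha, b, hb, e⟩ := h.split hv
    exact ⟨(⟨a, ha⟩, ⟨b, hb⟩), Subtype.ext e.symm⟩
  have hd : Disjoint (O i).toFinset (SS O (i.val + 1)) := by
    rw [Finset.disjoint_left]
    intro r hr hr'
    obtain ⟨l, hl, hrl⟩ := mem_SS.1 hr'
    have := h.disj i l r (List.mem_toFinset.1 hr) hrl
    subst this
    omega
  have hSS : SS O i.val = (O i).toFinset ∪ SS O (i.val + 1) := by
    ext r
    simp only [Finset.mem_union, mem_SS, List.mem_toFinset]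
    constructor
    · rintro ⟨l, hl, hr⟩
      rcases eq_or_lt_of_le hl with e | e
      · left; rwa [Fin.ext e]
      · right; exact ⟨l, e, hr⟩
    · rintro (hr | ⟨l, hl, hr⟩)
      · exact ⟨i, le_rfl, hr⟩
      · exact ⟨l, by omega, hr⟩
  have hcard : Nat.card (A × B) = Nat.card C := by
    rw [Nat.card_prod, Q.sys.toUnip.card_XS (h.closed_O i), Q.sys.toUnip.card_XS (h.closed_SS _),
      Q.sys.toUnip.card_XS (h.closed_SS _), ← pow_add, hSS, Finset.card_union_of_disjoint hd]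
  have hinj := ((Nat.bijective_iff_surjective_and_card f).2 ⟨hsurj, hcard⟩).1
  have := @hinj (⟨a, ha⟩, ⟨a⁻¹, inv_mem hb⟩) (1, 1) (Subtype.ext (by
    show a * a⁻¹ = 1 * 1
    rw [mul_inv_cancel, one_mul]))
  exact congrArg (fun p : A × B => (p.1 : ↥(D.group K))) this

theorem σ_O {i : Fin N} {a : ↥(D.group K)} (ha : a ∈ XS Q.sys.x (↑(O i).toFinset : Set ℕ)) :
    E.σ a ∈ XS Q.sys.x (↑(O i).toFinset : Set ℕ) :=
  E.σ_XS (fun r hr => by
    have hr' := List.mem_toFinset.1 hr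
    exact ⟨(h.pos i r hr').1, List.mem_toFinset.2 (h.stable i r hr')⟩) ha

theorem σ_SS {m : ℕ} {a : ↥(D.group K)} (ha : a ∈ XS Q.sys.x (↑(SS O m) : Set ℕ)) :
    E.σ a ∈ XS Q.sys.x (↑(SS O m) : Set ℕ) :=
  E.σ_XS (fun r hr => by
    obtain ⟨l, hl, hrl⟩ := mem_SS.1 (Finset.mem_coe.1 hr)
    exact ⟨(h.pos l r hrl).1, Finset.mem_coe.2 (mem_SS.2 ⟨l, hl, h.stable l r hrl⟩)⟩) ha

/-- Splitting off the fixed part of an orbit. -/
theorem split_Y (i : Fin N) {x : ↥Md.T}
    (hx : lift Md x ∈ XS Q.sys.x (↑(SS O i.val) : Set ℕ)) :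
    ∃ y ∈ Y Md O i, ∃ z, lift Md z ∈ XS Q.sys.x (↑(SS O (i.val + 1)) : Set ℕ) ∧ x = y * z := by
  obtain ⟨a, ha, b, hb, e⟩ := h.split (i := i) hx
  have hfix : a * b = E.σ a * E.σ b := by
    rw [← map_mul, ← e, fixed_lift]
  have hk : (E.σ a)⁻¹ * a = 1 := inter_bot h i (mul_mem (inv_mem (σ_O h ha)) ha) (by
    rw [show (E.σ a)⁻¹ * a = E.σ b * b⁻¹ by
      rw [eq_mul_inv_iff_mul_eq, mul_assoc, hfix]; group]
    exact mul_mem (σ_SS h hb) (inv_mem hb))
  obtain ⟨ya, eya⟩ := exists_mem Md (g := a) (inv_mul_eq_one.1 hk)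
  refine ⟨ya, mem_Y Md |>.2 (eya ▸ ha), ya⁻¹ * x, ?_, by group⟩
  rw [lift_mul, lift_inv, eya, e, inv_mul_cancel_left]
  exact hb

theorem mem_up_of_lift (m : ℕ) : ∀ x : ↥Md.T, lift Md x ∈ XS Q.sys.x (↑(SS O m) : Set ℕ) →
    x ∈ Pieces.Up (Y := Y Md O) m := by
  suffices ∀ d m, N ≤ m + d → ∀ x : ↥Md.T, lift Md x ∈ XS Q.sys.x (↑(SS O m) : Set ℕ) →
      x ∈ Pieces.Up (Y := Y Md O) m from this N m (by omega)
  intro d
  induction d with
  | zero =>
    intro m hm x hx
    have : SS O m = ∅ := Finset.eq_empty_iff_forall_notMem.2 fun r hr => by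
      obtain ⟨l, hl, -⟩ := mem_SS.1 hr
      have := l.isLt
      omega
    rw [this, Finset.coe_empty, XS_empty, Subgroup.mem_bot] at hx
    rw [show x = 1 from lift_injective Md (hx.trans (map_one (liftHom Md)).symm)]
    exact one_mem _
  | succ d ih =>
    intro m hm x hx
    by_cases hmN : N ≤ m
    · exact ih m (by omega) x hx
    have hm' : m < N := by omega
    obtain ⟨ya, hya, z, hz, rfl⟩ := split_Y Md h ⟨m, hm'⟩ hx
    refine mul_mem ?_ ?_
    · exact le_iSup (fun k : {k : Fin N // m ≤ k.val} => Y Md O k.1) ⟨⟨m, hm'⟩, le_rfl⟩ hya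
    · refine (show Pieces.Up (Y := Y Md O) (m + 1) ≤ Pieces.Up m from iSup_le fun k => ?_)
        (ih (m + 1) (by omega) _ hz)
      exact le_iSup_of_le (⟨k.1, by have := k.2; omega⟩ : {k : Fin N // m ≤ k.val}) le_rfl

theorem lift_of_mem_up {m : ℕ} {x : ↥Md.T} (hx : x ∈ Pieces.Up (Y := Y Md O) m) :
    lift Md x ∈ XS Q.sys.x (↑(SS O m) : Set ℕ) := by
  refine (show Pieces.Up (Y := Y Md O) m ≤ (XS Q.sys.x (↑(SS O m) : Set ℕ)).comap (liftHom Md)
    from iSup_le fun k y hy => ?_) hx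
  exact XS_mono (fun r hr => Finset.mem_coe.2 (mem_SS.2 ⟨k.1, k.2, List.mem_toFinset.1 hr⟩)) hy

theorem iSup_Y : (⨆ i, Y Md O i) = Md.tw.U := by
  ext x
  rw [H56.TwAut.mem_U, show Q.amb.U = XS Q.sys.x (↑(SS O 0) : Set ℕ) by rw [h.SS_zero]; rfl]
  constructor
  · intro hx
    refine lift_of_mem_up Md h ((show (⨆ i, Y Md O i) ≤ Pieces.Up 0 from iSup_le fun i => ?_) hx)
    exact le_iSup_of_le (⟨i, Nat.zero_le _⟩ : {k : Fin N // 0 ≤ k.val}) le_rfl
  · intro hx
    exact (show Pieces.Up (Y := Y Md O) 0 ≤ ⨆ i, Y Md O i from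
      iSup_le fun k => le_iSup (Y Md O) k.1) (mem_up_of_lift Md h 0 x hx)

theorem Y_bracket (i j : Fin N) {x x' : ↥Md.T} (hx : x ∈ Y Md O i) (hx' : x' ∈ Y Md O j) :
    ⁅x, x'⁆ ∈ ⨆ k : {k : Fin N // max i.val j.val < k.val}, Y Md O k.1 := by
  have hm : ⁅x, x'⁆ ∈ Pieces.Up (Y := Y Md O) (max i.val j.val + 1) := by
    refine mem_up_of_lift Md h _ _ ?_
    show liftHom Md ⁅x, x'⁆ ∈ _
    rw [map_commutatorElement]
    exact h.comm_SS hx hx'
  refine (show Pieces.Up (Y := Y Md O) (max i.val j.val + 1) ≤ _ from iSup_le fun k => ?_) hm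
  exact le_iSup_of_le (⟨k.1, by have := k.2; omega⟩ : {k : Fin N // max i.val j.val < k.val}) le_rfl

theorem Y_indep (i : Fin N) {x : ↥Md.T} (hx : x ∈ Y Md O i)
    (hx' : x ∈ ⨆ k : {k : Fin N // i.val < k.val}, Y Md O k.1) : x = 1 := by
  have hup : x ∈ Pieces.Up (Y := Y Md O) (i.val + 1) :=
    (show (⨆ k : {k : Fin N // i.val < k.val}, Y Md O k.1) ≤ Pieces.Up (i.val + 1) from
      iSup_le fun k => le_iSup_of_le (⟨k.1, k.2⟩ : {k : Fin N // i.val + 1 ≤ k.val}) le_rfl) hx'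
  exact lift_injective Md
    ((inter_bot h i hx (lift_of_mem_up Md h hup)).trans (map_one (liftHom Md)).symm)

theorem Y_comm (i : Fin N) {x x' : ↥Md.T} (hx : x ∈ Y Md O i) (hx' : x' ∈ Y Md O i) :
    Commute x x' := lift_injective Md (by rw [lift_mul, lift_mul]; exact (h.comm_XS hx hx').eq)

theorem exists_coord {i : Fin N} {x : ↥Md.T} (hx : x ∈ Y Md O i) :
    ∃ t, lift Md x = xprod Q (O i) t :=
  exists_xprod Q (h.sorted i) (h.closed_O i) hx

theorem coord_inj {i : Fin N} {t u : ℕ → K} (e : xprod Q (O i) t = xprod Q (O i) u) :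
    ∀ r ∈ O i, t r = u r := xprod_inj Q (h.sorted i) (h.closed_O i) e

theorem xprod_add {i : Fin N} (t u : ℕ → K) :
    xprod Q (O i) (fun r => t r + u r) = xprod Q (O i) t * xprod Q (O i) u := by
  suffices ∀ L : List ℕ, (∀ r ∈ L, r ∈ O i) →
      xprod Q L (fun r => t r + u r) = xprod Q L t * xprod Q L u from this _ fun _ h => h
  intro L
  induction L with
  | nil => intro _; simp [xprod]
  | cons a L ih =>
      intro hL
      have ha := hL a (by simp)
      have hc : Commute (xG Q.K K a (u a)) (xprod Q L t) :=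
        Commute.list_prod_right _ _ fun g hg => by
          obtain ⟨r, hr, rfl⟩ := List.mem_map.1 hg
          exact commute_xG Q (h.comm i) ha (hL r (List.mem_cons_of_mem _ hr)) _ _
      have hadd : xG Q.K K a (t a + u a) = xG Q.K K a (t a) * xG Q.K K a (u a) :=
        Q.sys.x_add' a (h.pos i a ha).1 _ _
      rw [xprod_cons, xprod_cons, xprod_cons, ih (fun r hr => hL r (List.mem_cons_of_mem _ hr)),
        hadd]
      calc xG Q.K K a (t a) * xG Q.K K a (u a) * (xprod Q L t * xprod Q L u)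
          = xG Q.K K a (t a) * (xG Q.K K a (u a) * xprod Q L t) * xprod Q L u := by group
        _ = _ := by rw [hc.eq]; group

theorem tG_xprod {i : Fin N} (c : Fin D.rank → Kˣ) (t : ℕ → K) :
    tG Q c * xprod Q (O i) t * (tG Q c)⁻¹ = xprod Q (O i) fun r => (chT c r : K) * t r := by
  rw [← MulAut.conj_apply, xprod, map_list_prod, xprod, List.map_map]
  refine congrArg List.prod (List.map_congr_left fun r hr => ?_)
  exact tG_conj Q c (h.pos i r hr).1 (t r)

omit h in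
/-- The fixed torus. -/
noncomputable def T : Subgroup ↥Md.T := Md.tw.H

omit h in
theorem T_conj {s : ↥Md.T} (hs : s ∈ T Md) : ∃ c, tG Q c = lift Md s :=
  exists_tG Q ((H56.TwAut.mem_H Md).1 hs)

omit h in
theorem T_of_fixed {c : Fin D.rank → Kˣ} {x : ↥Md.T} (e : lift Md x = tG Q c) : x ∈ T Md :=
  (H56.TwAut.mem_H Md).2 (e ▸ tG_mem Q c)

omit h in
theorem T_comm {s t : ↥Md.T} (hs : s ∈ T Md) (ht : t ∈ T Md) : Commute s t := by
  obtain ⟨a, ea⟩ := T_conj Md hs
  obtain ⟨b, eb⟩ := T_conj Md ht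
  exact lift_injective Md (by
    rw [lift_mul, lift_mul, ← ea, ← eb, ← map_mul, ← map_mul, mul_comm])

theorem Y_stable (i : Fin N) {s : ↥Md.T} (hs : s ∈ T Md) {x : ↥Md.T} (hx : x ∈ Y Md O i) :
    s * x * s⁻¹ ∈ Y Md O i := by
  obtain ⟨c, ec⟩ := T_conj Md hs
  obtain ⟨t, et⟩ := exists_coord Md h hx
  rw [mem_Y, lift_mul, lift_mul, lift_inv, ← ec, et, tG_xprod h]
  exact xprod_mem Q _

theorem fixes_of {i : Fin N} {s : ↥Md.T} {c : Fin D.rank → Kˣ} (ec : lift Md s = tG Q c)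
    (h1 : ∀ r ∈ O i, chT c r = 1) : Fixes s (Y Md O i) := by
  intro x hx
  obtain ⟨t, et⟩ := exists_coord Md h hx
  refine lift_injective Md ?_
  rw [lift_mul, lift_mul, lift_inv, ec, et, tG_xprod h]
  exact xprod_congr Q fun r hr => by rw [h1 r hr, Units.val_one, one_mul]

theorem moves_of {i : Fin N} {s : ↥Md.T} {c : Fin D.rank → Kˣ} (ec : lift Md s = tG Q c)
    (h1 : ∀ r ∈ O i, chT c r ≠ 1) : Moves s (Y Md O i) := by
  have hsT : s ∈ T Md := T_of_fixed Md ec
  refine moves_of_fpf (fun x hx => Y_stable Md h i hsT hx) (fun x hx y hy => Y_comm Md h i hx hy)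
    fun x hx e => ?_
  obtain ⟨t, et⟩ := exists_coord Md h hx
  have e' := congrArg (lift Md) e
  rw [lift_mul, lift_mul, lift_inv, ec, et, tG_xprod h] at e'
  refine lift_injective Md ?_
  rw [et, show lift Md 1 = xprod Q (O i) (fun _ => (0 : K)) from ?_]
  · refine xprod_congr Q fun r hr => ?_
    have h2 := coord_inj h e' r hr
    by_contra hne
    refine h1 r hr (Units.ext ?_)
    exact mul_right_cancel₀ hne (h2.trans (one_mul _).symm)
  · refine (map_one (liftHom Md)).trans ?_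
    symm
    refine List.prod_eq_one fun g hg => ?_
    obtain ⟨r, hr, rfl⟩ := List.mem_map.1 hg
    exact Q.sys.x_zero' (h.pos i r hr).1

/-- A root of an orbit on which every value is taken by fixed parameters. -/
def Realised (q : ℕ) (i : Fin N) (r : ℕ) : Prop :=
  (∀ s ∈ O i, ∃ k : ℕ, E.s.T.rh^[k] r = s) ∧ r ∈ O i ∧
    ∀ b : Kˣ, ∃ c, E.hat (fun _ => q) c = c ∧ chT c r = b

theorem self_realised {q : ℕ} (hns : E.NoSign fun _ => q)
    (hf : ∀ r, r < D.nroots → E.f r 1 ≠ 0 ∧ ∀ t, E.f r t = E.f r 1 * t ^ q)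
    (hadd : ∀ t u : K, (t + u) ^ q = t ^ q + u ^ q)
    (hcard : 5 ≤ Fintype.card K) {i : Fin N} {r : ℕ} (hr : Realised (E := E) (O := O) q i r)
    {p : ℕ} {X : Type*} [Group X] (L : LExt p X ↥Md.T) :
    ∀ x ∈ Y Md O i, ∀ y ∈ Y Md O i, L.cm x y = 1 := by
  classical
  obtain ⟨hcyc, hri, hb⟩ := hr
  -- a value avoiding the exceptions
  obtain ⟨b, hb0, hb1, hb2⟩ : ∃ b : K, b ≠ 0 ∧ b + 1 ≠ 0 ∧ b * b + b + 1 ≠ 0 := by
    by_contra hcon
    push Not at hcon
    let P : Finset K := {0, -1}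
    have hR : ((Finset.univ : Finset K).filter fun b => b * b + b + 1 = 0).card ≤ 2 := by
      by_contra hgt
      obtain ⟨u, v, w, hu, hv, hw, huv, huw, hvw⟩ := Finset.two_lt_card_iff.1 (not_le.1 hgt)
      simp only [Finset.mem_filter, Finset.mem_univ, true_and] at hu hv hw
      have h1 : (u - v) * (u + v + 1) = 0 := by linear_combination hu - hv
      have h2 : (u - w) * (u + w + 1) = 0 := by linear_combination hu - hw
      have h1' := (mul_eq_zero.1 h1).resolve_left (sub_ne_zero.2 huv)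
      have h2' := (mul_eq_zero.1 h2).resolve_left (sub_ne_zero.2 huw)
      exact hvw (by linear_combination h1' - h2')
    have hsub : (Finset.univ : Finset K) ⊆
        P ∪ (Finset.univ : Finset K).filter (fun b => b * b + b + 1 = 0) := by
      intro b _
      by_cases h0 : b = 0
      · simp [P, h0]
      by_cases h1 : b + 1 = 0
      · simp [P, eq_neg_of_add_eq_zero_left h1]
      simp [P, hcon b h0 h1]
    have h3 := (Finset.card_le_card hsub).trans (Finset.card_union_le _ _)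
    have h4 : P.card ≤ 2 := Finset.card_le_two
    rw [Finset.card_univ] at h3
    omega
  obtain ⟨ca, hca, eca⟩ := hb (Units.mk0 b hb0)
  obtain ⟨cc, hcc, ecc⟩ := hb (Units.mk0 (b + 1) hb1)
  obtain ⟨a, ea⟩ := exists_mem Md (g := tG Q ca) (by rw [E.σ_tG hns, hca])
  obtain ⟨c, ec⟩ := exists_mem Md (g := tG Q cc) (by rw [E.σ_tG hns, hcc])
  have haT := T_of_fixed Md ea
  have hcT := T_of_fixed Md ec
  -- the relations between the two characters along the orbit
  have hrel : ∀ s ∈ O i, (chT cc s : K) = (chT ca s : K) + 1 ∧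
      (chT ca s : K) * (chT ca s : K) + (chT ca s : K) + 1 ≠ 0 := by
    have key : ∀ k : ℕ, E.s.T.rh^[k] r ∈ O i ∧
        (chT cc (E.s.T.rh^[k] r) : K) = (chT ca (E.s.T.rh^[k] r) : K) + 1 ∧
        (chT ca (E.s.T.rh^[k] r) : K) * (chT ca (E.s.T.rh^[k] r) : K) +
          (chT ca (E.s.T.rh^[k] r) : K) + 1 ≠ 0 := by
      intro k
      induction k with
      | zero =>
        refine ⟨hri, ?_⟩
        rw [Function.iterate_zero_apply, ecc, eca, Units.val_mk0, Units.val_mk0]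
        exact ⟨rfl, hb2⟩
      | succ k ih =>
        obtain ⟨hk, h1, h2⟩ := ih
        have hlt := (h.pos i _ hk).1
        rw [Function.iterate_succ_apply']
        refine ⟨h.stable i _ hk, ?_⟩
        rw [chT_rh E hns hf hcc hlt, chT_rh E hns hf hca hlt, h1, hadd, one_pow]
        refine ⟨rfl, fun e => h2 ?_⟩
        set v := (chT ca (E.s.T.rh^[k] r) : K)
        have e2 : (v * v + v + 1) ^ q = 0 := by rw [hadd, hadd, one_pow, mul_pow]; exact e
        exact eq_zero_of_pow_eq_zero e2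
    intro s hs
    obtain ⟨k, rfl⟩ := hcyc s hs
    exact (key k).2
  have hzero : lift Md 1 = xprod Q (O i) fun _ => (0 : K) := by
    refine (map_one (liftHom Md)).trans ?_
    symm
    refine List.prod_eq_one fun g hg => ?_
    obtain ⟨s, hs, rfl⟩ := List.mem_map.1 hg
    exact Q.sys.x_zero' (h.pos i s hs).1
  refine self_of_scalings L (fun x hx y hy => Y_comm Md h i hx hy) (T_comm Md haT hcT)
    (fun x hx => Y_stable Md h i haT hx) (fun x hx => Y_stable Md h i hcT hx) ?_ ?_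
  · intro x hx
    obtain ⟨t, et⟩ := exists_coord Md h hx
    refine lift_injective Md ?_
    simp only [lift_mul, lift_inv, ea, ec, et, tG_xprod h, ← xprod_add h]
    exact xprod_congr Q fun s hs => by rw [(hrel s hs).1]; ring
  · intro w hw e
    obtain ⟨t, et⟩ := exists_coord Md h hw
    have e' := congrArg (lift Md) e
    simp only [lift_mul, lift_inv, ea, ec, et, tG_xprod h, hzero, ← xprod_add h] at e'
    rw [mul_inv_eq_iff_eq_mul, ← xprod_add h] at e'
    refine lift_injective Md ?_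
    rw [et, hzero]
    refine xprod_congr Q fun s hs => ?_
    have h2 := coord_inj h e' s hs
    simp only [zero_add] at h2
    rw [(hrel s hs).1] at h2
    have h3 : ((chT ca s : K) * (chT ca s : K) + (chT ca s : K) + 1) * t s = 0 := by
      linear_combination h2
    exact (mul_eq_zero.1 h3).resolve_left (hrel s hs).2

/-- A fixed long root that is a commutator of two fixed long roots commuting with it. -/
def Long (i : Fin N) (r : ℕ) : Prop :=
  O i = [r] ∧ E.s.T.rh r = r ∧ ∀ u t : K, E.f r t = t → ∃ a b : ↥(D.group K),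
    E.σ a = a ∧ E.σ b = b ∧ ⁅a, b⁆ = xG Q.K K r t ∧
      Commute (xG Q.K K r u) a ∧ Commute (xG Q.K K r u) b

theorem self_long {i : Fin N} {r : ℕ} (hr : Long (E := E) (O := O) i r)
    {p : ℕ} {X : Type*} [Group X] (L : LExt p X ↥Md.T) :
    ∀ x ∈ Y Md O i, ∀ y ∈ Y Md O i, L.cm x y = 1 := by
  obtain ⟨hO, hrh, hab⟩ := hr
  intro x hx y hy
  obtain ⟨t, et⟩ := exists_coord Md h hx
  obtain ⟨u, eu⟩ := exists_coord Md h hy
  rw [hO] at et eu
  have hsingle : ∀ v : ℕ → K, xprod Q [r] v = xG Q.K K r (v r) := fun v => by simp [xprod]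
  rw [hsingle] at et eu
  have hlt := (h.pos i r (by rw [hO]; simp)).1
  have hu : E.f r (u r) = u r := by
    have e := fixed_lift Md y
    rw [eu, E.σ_x r hlt, hrh] at e
    exact xG_inj Q hlt e
  obtain ⟨a, b, ha, hb, e, hca, hcb⟩ := hab (t r) (u r) hu
  obtain ⟨a', ea⟩ := exists_mem Md ha
  obtain ⟨b', eb⟩ := exists_mem Md hb
  have hy' : y = ⁅a', b'⁆ := lift_injective Md (by
    rw [eu, ← e, ← ea, ← eb]
    exact (map_commutatorElement (liftHom Md) a' b').symm)
  rw [hy']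
  exact L.cm_commutator_eq_one
    (lift_injective Md (by rw [lift_mul, lift_mul, et, ea]; exact hca.eq))
    (lift_injective Md (by rw [lift_mul, lift_mul, et, eb]; exact hcb.eq))

omit h in
/-- Exponent vectors that move every orbit and separate the orbits. -/
structure Witness {d : ℕ} [NeZero d] (E : Endo Q) (O : Fin N → List ℕ)
    (Ws : List (Fin D.rank → Fin d → ℤ)) : Prop where
  fix : ∀ W ∈ Ws, FixW E W
  moves : ∀ i, ∃ W ∈ Ws, ∀ r ∈ O i, SmallVec (expo W r)
  sep : ∀ i j, i < j → ∃ W ∈ Ws,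
    ((∀ r ∈ O i, expo W r = 0) ∧ ∀ s ∈ O j, SmallVec (expo W s)) ∨
      ((∀ s ∈ O j, expo W s = 0) ∧ ∀ r ∈ O i, SmallVec (expo W r))

/-- The unipotent radical is killed. -/
theorem killed {d q : ℕ} [NeZero d] (hK : Fintype.card K = q ^ d) (hq : 3 ≤ q)
    (hns : E.NoSign fun _ => q) {Ws : List (Fin D.rank → Fin d → ℤ)} (hW : Witness E O Ws)
    {p : ℕ} {X : Type*} [Group X] (L : LExt p X ↥Md.T)
    (hself : ∀ i, ∀ x ∈ Y Md O i, ∀ y ∈ Y Md O i, L.cm x y = 1) : L.Killed Md.tw.U := by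
  classical
  obtain ⟨z, hz⟩ := exists_ne_one (K := K) hK hq
  have hex : ∀ W ∈ Ws, ∃ s : ↥Md.T, lift Md s = tG Q (cOf q W z) := fun W hWm =>
    exists_mem Md (by rw [E.σ_tG hns, hat_cOf E hK (hW.fix W hWm)])
  have hmv : ∀ {i : Fin N} {W : Fin D.rank → Fin d → ℤ} {s : ↥Md.T},
      lift Md s = tG Q (cOf q W z) → (∀ r ∈ O i, SmallVec (expo W r)) → Moves s (Y Md O i) :=
    fun es hs => moves_of Md h es fun r hr => by rw [chT_cOf]; exact hz _ (hs r hr)
  have hfx : ∀ {i : Fin N} {W : Fin D.rank → Fin d → ℤ} {s : ↥Md.T},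
      lift Md s = tG Q (cOf q W z) → (∀ r ∈ O i, expo W r = 0) → Fixes s (Y Md O i) :=
    fun es hs => fixes_of Md h es fun r hr => by
      rw [chT_cOf, hs r hr, show ev q (0 : Fin d → ℤ) = 0 by simp [ev], zpow_zero]
  choose Wm hWm hWs using hW.moves
  choose g hg using fun i => hex (Wm i) (hWm i)
  have P : Pieces L (Y Md O) (T Md) g :=
    { torus_comm := fun s hs t ht => T_comm Md hs ht
      stable := fun i t ht x hx => Y_stable Md h i ht hx
      g_mem := fun i => T_of_fixed Md (hg i)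
      moves := fun i => hmv (hg i) (hWs i)
      comm := fun i x hx x' hx' => Y_comm Md h i hx hx'
      self := hself
      bracket := fun i j x hx x' hx' => Y_bracket Md h i j hx hx'
      indep := fun i x hx hx' => Y_indep Md h i hx hx'
      sep := by
        intro i j hij
        rcases lt_or_gt_of_ne hij with hlt | hlt
        · obtain ⟨W, hWl, ⟨h1, h2⟩ | ⟨h1, h2⟩⟩ := hW.sep i j hlt
          all_goals obtain ⟨s, es⟩ := hex W hWl
          · exact ⟨s, T_of_fixed Md es, Or.inl ⟨hfx es h1, hmv es h2⟩⟩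
          · exact ⟨s, T_of_fixed Md es, Or.inr ⟨hfx es h1, hmv es h2⟩⟩
        · obtain ⟨W, hWl, ⟨h1, h2⟩ | ⟨h1, h2⟩⟩ := hW.sep j i hlt
          all_goals obtain ⟨s, es⟩ := hex W hWl
          · exact ⟨s, T_of_fixed Md es, Or.inr ⟨hfx es h1, hmv es h2⟩⟩
          · exact ⟨s, T_of_fixed Md es, Or.inl ⟨hfx es h1, hmv es h2⟩⟩ }
  rw [← iSup_Y Md h]
  exact P.killed

end Cfsg.Agent.H74.RootExt.Tw
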