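import Cfsg.Agent.H56.TwAut.TwBasic
import Cfsg.Agent.H37.Twist.Pieces
import Cfsg.Agent.H37.Twist.Torus
import Cfsg.Agent.H74.RootExt.Pairing

/-!
The unipotent radical of a twisted group as an ordered product of the fixed elements of the orbits
of positive roots, sorted by height.
-/

set_option autoImplicit false
set_option linter.unusedSectionVars false

namespace Cfsg.Agent.H74.RootExt.Tw

open Cfsg.Lie Cfsg.Agent.H37 Cfsg.Agent.H37.RootSys Cfsg.Agent.H37.Twist Cfsg.Agent.H56.TwAut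
open scoped commutatorElement

/-- The height of a root. -/
def ht {D : ChevalleyDatum} (Kc : Chevalley.Cert D) (r : ℕ) : ℤ :=
  ((List.range D.rank).map (Kc.cf r)).sum

variable {D : ChevalleyDatum} {K : Type*} [Field K] {Q : Chev.Data D K}

theorem ht_add {r s k : ℕ} {a b : ℕ}
    (h : ∀ i, i < D.rank → Q.K.cf k i = a * Q.K.cf r i + b * Q.K.cf s i) :
    ht Q.K k = a * ht Q.K r + b * ht Q.K s := by
  rw [ht, ht, ht, ← List.sum_map_mul_left, ← List.sum_map_mul_left, ← List.sum_map_add]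
  exact congrArg List.sum (List.map_congr_left fun i hi => h i (List.mem_range.1 hi))

/-- Orbits of positive roots in the order of height. -/
structure Orbits (Q : Chev.Data D K) (rh : ℕ → ℕ) {N : ℕ} (O : Fin N → List ℕ) : Prop where
  sorted : ∀ i, (O i).Pairwise (· < ·)
  pos : ∀ i, ∀ r ∈ O i, r < D.nroots ∧ D.nroots / 2 ≤ r
  cover : ∀ r, r < D.nroots → D.nroots / 2 ≤ r → ∃ i, r ∈ O i
  disj : ∀ i j, ∀ r ∈ O i, r ∈ O j → i = j
  comm : ∀ i, commB D (O i) = true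
  stable : ∀ i, ∀ r ∈ O i, rh r ∈ O i
  ht_pos : ∀ i, ∀ r ∈ O i, 0 < ht Q.K r
  ht_eq : ∀ i, ∀ r ∈ O i, ∀ s ∈ O i, ht Q.K r = ht Q.K s
  ht_le : ∀ i j, i < j → ∀ r ∈ O i, ∀ s ∈ O j, ht Q.K r ≤ ht Q.K s
  no_sum : ∀ i, ∀ r ∈ O i, ∀ s ∈ O i, r ≠ s → ∀ k, k < D.nroots → D.nroots / 2 ≤ k →
    ∀ a b : ℕ, 0 < a → 0 < b → ∃ m, m < D.rank ∧ Q.K.cf k m ≠ a * Q.K.cf r m + b * Q.K.cf s m

/-- A check that gives `Orbits`. -/
theorem Orbits.of_check {rh : ℕ → ℕ} {N : ℕ} {O : Fin N → List ℕ}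
    (h1 : ∀ i, (O i).Pairwise (· < ·) ∧ commB D (O i) = true ∧
      ∀ r ∈ O i, r < D.nroots ∧ D.nroots / 2 ≤ r ∧ rh r ∈ O i)
    (h2 : ∀ r : Fin D.nroots, D.nroots / 2 ≤ r.val → ∃ i, r.val ∈ O i)
    (h3 : ∀ i j, i < j → ∀ r ∈ O i, r ∉ O j)
    (hgt : ∃ f : Fin N → ℤ, (∀ i, (0 < f i ∧ f i < 12) ∧ ∀ r ∈ O i, ht Q.K r = f i) ∧
      ∀ i j, i < j → f i ≤ f j)
    (h4 : ∀ i, ∀ r ∈ O i, ∀ s ∈ O i, r ≠ s → ∀ k : Fin D.nroots, D.nroots / 2 ≤ k.val →
      ∀ a b : Fin 12, 0 < a.val → 0 < b.val → ∃ m : Fin D.rank,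
        Q.K.cf k.val m.val ≠ (a.val : ℕ) * Q.K.cf r m.val + (b.val : ℕ) * Q.K.cf s m.val) :
    Orbits Q rh O where
  sorted i := (h1 i).1
  pos i r hr := ⟨((h1 i).2.2 r hr).1, ((h1 i).2.2 r hr).2.1⟩
  cover r hr hp := h2 ⟨r, hr⟩ hp
  disj i j r hi hj := by
    rcases lt_trichotomy i j with h | h | h
    · exact absurd hj (h3 i j h r hi)
    · exact h
    · exact absurd hi (h3 j i h r hj)
  comm i := (h1 i).2.1
  stable i r hr := ((h1 i).2.2 r hr).2.2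
  ht_pos i r hr := by
    obtain ⟨f, hf, -⟩ := hgt
    rw [(hf i).2 r hr]; exact (hf i).1.1
  ht_eq i r hr s hs := by
    obtain ⟨f, hf, -⟩ := hgt
    rw [(hf i).2 r hr, (hf i).2 s hs]
  ht_le i j h r hr s hs := by
    obtain ⟨f, hf, hm⟩ := hgt
    rw [(hf i).2 r hr, (hf j).2 s hs]
    exact hm i j h
  no_sum i r hr s hs hne k hk hp a b ha hb := by
    by_contra hcon
    push Not at hcon
    obtain ⟨f, hf, -⟩ := hgt
    obtain ⟨l, hl⟩ := h2 ⟨k, hk⟩ hp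
    have e := ht_add hcon
    rw [(hf i).2 r hr, (hf i).2 s hs, (hf l).2 k hl] at e
    have h5 := (hf l).1.2
    have h6 := (hf i).1.1
    obtain ⟨m, hm⟩ := h4 i r hr s hs hne ⟨k, hk⟩ hp ⟨a, by nlinarith⟩ ⟨b, by nlinarith⟩ ha hb
    exact hm (hcon m.val m.isLt)

variable {rh : ℕ → ℕ} {N : ℕ} {O : Fin N → List ℕ}

/-- The roots from the orbit `m` on. -/
def SS (O : Fin N → List ℕ) (m : ℕ) : Finset ℕ :=
  (Finset.univ.filter fun i : Fin N => m ≤ i.val).biUnion fun i => (O i).toFinset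

theorem mem_SS {m r : ℕ} : r ∈ SS O m ↔ ∃ i : Fin N, m ≤ i.val ∧ r ∈ O i := by
  simp [SS]

/-- A finite subgroup into which conjugation by `a` maps is mapped into by conjugation by `a⁻¹`. -/
theorem conj_inv_mem {X : Type*} [Group X] {C : Subgroup X} (hC : Nat.card C ≠ 0) {a : X}
    (ha : ∀ g ∈ C, a * g * a⁻¹ ∈ C) {g : X} (hg : g ∈ C) : a⁻¹ * g * a⁻¹⁻¹ ∈ C := by
  haveI : Finite C := Nat.finite_of_card_ne_zero hC
  have hle : C.map (MulAut.conj a).toMonoidHom ≤ C := by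
    rintro _ ⟨c, hc, rfl⟩
    exact ha c hc
  have heq := Subgroup.eq_of_le_of_card_ge hle
    (Nat.card_congr (Subgroup.equivMapOfInjective C _ (MulAut.conj a).injective).toEquiv).le
  obtain ⟨c, hc, rfl⟩ := heq.ge hg
  show a⁻¹ * (a * c * a⁻¹) * a⁻¹⁻¹ ∈ C
  rwa [show a⁻¹ * (a * c * a⁻¹) * a⁻¹⁻¹ = c by group]

namespace Orbits

variable (h : Orbits Q rh O)
include h

theorem mem_posSet {i : Fin N} {r : ℕ} (hr : r ∈ O i) : r ∈ posSet D :=
  RootSys.mem_posSet.2 (h.pos i r hr)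

theorem SS_zero : SS O 0 = posSet D := by
  ext r
  rw [mem_SS, RootSys.mem_posSet]
  exact ⟨fun ⟨i, _, hr⟩ => h.pos i r hr, fun ⟨h1, h2⟩ =>
    (h.cover r h1 h2).imp fun i hi => ⟨Nat.zero_le _, hi⟩⟩

theorem T_index {r s k : ℕ} {i j : Fin N} (hr : r ∈ O i) (hs : s ∈ O j)
    (hT : Q.sys.toUnip.T r s k) : ∃ l : Fin N, k ∈ O l ∧ i < l ∧ j < l := by
  have hP : ∀ {i : Fin N} {r : ℕ}, r ∈ O i → r ∈ Q.sys.toUnip.P := fun hr => by
    rw [Q.sys.P_eq]; exact h.mem_posSet hr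
  have hk := (Q.sys.toUnip.T_pos (hP hr) (hP hs) hT).1
  rw [Q.sys.P_eq, RootSys.mem_posSet] at hk
  obtain ⟨l, hl⟩ := h.cover k hk.1 hk.2
  obtain ⟨-, a, b, ha, hb, e⟩ := (show Combo Q.K r s k from hT)
  have he := ht_add e
  have h1 := h.ht_pos i r hr
  have h2 := h.ht_pos j s hs
  have ha' : (1 : ℤ) ≤ a := by exact_mod_cast ha
  have hb' : (1 : ℤ) ≤ b := by exact_mod_cast hb
  have hgt : ht Q.K r < ht Q.K k ∧ ht Q.K s < ht Q.K k := by
    rw [he]; constructor <;> nlinarith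
  have key : ∀ (i : Fin N) (r : ℕ), r ∈ O i → ht Q.K r < ht Q.K k → i < l := by
    intro i r hr hlt
    rcases lt_trichotomy i l with hh | hh | hh
    · exact hh
    · subst hh; have := h.ht_eq i r hr k hl; omega
    · have := h.ht_le l i hh k hl r hr; omega
  exact ⟨l, hl, key i r hr hgt.1, key j s hs hgt.2⟩

theorem closed_of {S : Finset ℕ} (hS : ∀ r ∈ S, r ∈ posSet D)
    (hT : ∀ r ∈ S, ∀ s ∈ S, r ≠ s → ∀ k, Q.sys.toUnip.T r s k → k ∈ S) :
    Q.sys.toUnip.Closed S :=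
  ⟨fun r hr => by rw [Q.sys.P_eq]; exact hS r hr, hT⟩

theorem closed_SS (m : ℕ) : Q.sys.toUnip.Closed (SS O m) := by
  refine h.closed_of (fun r hr => ?_) fun r hr s hs _ k hk => ?_
  · obtain ⟨i, -, hi⟩ := mem_SS.1 hr
    exact h.mem_posSet hi
  · obtain ⟨i, hi, hri⟩ := mem_SS.1 hr
    obtain ⟨j, -, hsj⟩ := mem_SS.1 hs
    obtain ⟨l, hl, hil, -⟩ := h.T_index hri hsj hk
    exact mem_SS.2 ⟨l, by have : i.val < l.val := hil; omega, hl⟩

theorem comm_XS {i : Fin N} {a b : ↥(D.group K)} (ha : a ∈ XS Q.sys.x (↑(O i).toFinset : Set ℕ))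
    (hb : b ∈ XS Q.sys.x (↑(O i).toFinset : Set ℕ)) : Commute a b := by
  have h1 : ∀ r ∈ O i, ∀ t, Commute (Q.sys.x r t) b := by
    intro r hr t
    have hle : XS Q.sys.x (↑(O i).toFinset : Set ℕ) ≤ Subgroup.centralizer {Q.sys.x r t} :=
      XS_le fun s hs u => Subgroup.mem_centralizer_iff.2 fun g hg => by
        rw [Set.mem_singleton_iff] at hg
        subst hg
        exact (commute_xG Q (h.comm i) hr (by simpa using hs) t u).eq
    exact Subgroup.mem_centralizer_iff.1 (hle hb) _ rfl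
  have hle : XS Q.sys.x (↑(O i).toFinset : Set ℕ) ≤ Subgroup.centralizer {b} :=
    XS_le fun r hr t => Subgroup.mem_centralizer_iff.2 fun g hg => by
      rw [Set.mem_singleton_iff] at hg
      subst hg
      exact (h1 r (by simpa using hr) t).eq.symm
  exact (Subgroup.mem_centralizer_iff.1 (hle ha) b rfl).symm

/-- Conjugation by a later orbit does not leave the part from `m` on. -/
theorem comm_SS [Finite K] {i j : Fin N} {a b : ↥(D.group K)}
    (ha : a ∈ XS Q.sys.x (↑(O i).toFinset : Set ℕ))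
    (hb : b ∈ XS Q.sys.x (↑(O j).toFinset : Set ℕ)) :
    ⁅a, b⁆ ∈ XS Q.sys.x (↑(SS O (max i.val j.val + 1)) : Set ℕ) := by
  set m := max i.val j.val + 1 with hm
  set C := XS Q.sys.x (↑(SS O m) : Set ℕ)
  have hP : ∀ {i : Fin N} {r : ℕ}, r ∈ O i → r ∈ Q.sys.toUnip.P := fun hr => by
    rw [Q.sys.P_eq]; exact h.mem_posSet hr
  have hcard : Nat.card C ≠ 0 := by
    rw [Q.sys.toUnip.card_XS (h.closed_SS m)]
    exact pow_ne_zero _ Nat.card_pos.ne'
  -- both orbits normalise `C`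
  have hnorm : ∀ k : Fin N, k.val < m → ∀ r ∈ O k, ∀ t, ∀ g ∈ C,
      Q.sys.x r t * g * (Q.sys.x r t)⁻¹ ∈ C := by
    intro k hk r hr t g hg
    refine conj_mem_XS (fun s hs u => ?_) hg
    obtain ⟨l, hl, hsl⟩ := mem_SS.1 (Finset.mem_coe.1 hs)
    rw [show Q.sys.x r t * Q.sys.x s u * (Q.sys.x r t)⁻¹ =
      Q.sys.x r t * Q.sys.x s u * (Q.sys.x r t)⁻¹ * (Q.sys.x s u)⁻¹ * Q.sys.x s u by group]
    have hne : r ≠ s := fun e => by
      subst e
      have := h.disj k l r hr hsl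
      omega
    refine mul_mem (XS_mono (fun c hc => ?_) (Q.sys.toUnip.comm (hP hr) (hP hsl) hne t u))
      (x_mem_XS hs u)
    obtain ⟨l', hl', -, hll'⟩ := h.T_index hr hsl hc
    exact Finset.mem_coe.2 (mem_SS.2 ⟨l', by have : l.val < l'.val := hll'; omega, hl'⟩)
  have hgen : ∀ r ∈ O i, ∀ t, ∀ s ∈ O j, ∀ u, ⁅Q.sys.x r t, Q.sys.x s u⁆ ∈ C := by
    intro r hr t s hs u
    by_cases e : r = s
    · subst e
      have hij := h.disj i j r hr hs
      subst hij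
      rw [commutatorElement_eq_one_iff_commute.2 (h.comm_XS (i := i)
        (x_mem_XS (by simpa using hr) t) (x_mem_XS (by simpa using hr) u))]
      exact one_mem _
    refine XS_mono (fun c hc => ?_) (Q.sys.toUnip.comm (hP hr) (hP hs) e t u)
    obtain ⟨l, hl, h1, h2⟩ := h.T_index hr hs hc
    have h1' : i.val < l.val := h1
    have h2' : j.val < l.val := h2
    exact Finset.mem_coe.2 (mem_SS.2 ⟨l, by omega, hl⟩)
  -- the second argument
  have step : ∀ r ∈ O i, ∀ t, ∀ b ∈ XS Q.sys.x (↑(O j).toFinset : Set ℕ),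
      ⁅Q.sys.x r t, b⁆ ∈ C ∧ ∀ g ∈ C, b * g * b⁻¹ ∈ C := by
    intro r hr t b hb
    induction hb using Subgroup.closure_induction with
    | mem g hg =>
      obtain ⟨s, hs, u, rfl⟩ := hg
      exact ⟨hgen r hr t s (by simpa using hs) u,
        hnorm j (by omega) s (by simpa using hs) u⟩
    | one => exact ⟨by rw [commutatorElement_one_right]; exact one_mem _, fun g hg => by simpa⟩
    | mul a b _ _ iha ihb =>
      refine ⟨?_, fun g hg => ?_⟩
      · rw [show ⁅Q.sys.x r t, a * b⁆ = ⁅Q.sys.x r t, a⁆ * (a * ⁅Q.sys.x r t, b⁆ * a⁻¹) by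
          simp only [commutatorElement_def]; group]
        exact mul_mem iha.1 (iha.2 _ ihb.1)
      · rw [show a * b * g * (a * b)⁻¹ = a * (b * g * b⁻¹) * a⁻¹ by group]
        exact iha.2 _ (ihb.2 _ hg)
    | inv a _ iha =>
      have hinv : ∀ g ∈ C, a⁻¹ * g * a⁻¹⁻¹ ∈ C := fun g hg => conj_inv_mem hcard iha.2 hg
      refine ⟨?_, hinv⟩
      rw [show ⁅Q.sys.x r t, a⁻¹⁆ = a⁻¹ * ⁅Q.sys.x r t, a⁆⁻¹ * a⁻¹⁻¹ by
        simp only [commutatorElement_def]; group]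
      exact hinv _ (inv_mem iha.1)
  have main : ∀ a ∈ XS Q.sys.x (↑(O i).toFinset : Set ℕ),
      ⁅a, b⁆ ∈ C ∧ ∀ g ∈ C, a * g * a⁻¹ ∈ C := by
    intro a ha
    induction ha using Subgroup.closure_induction with
    | mem g hg =>
      obtain ⟨r, hr, t, rfl⟩ := hg
      exact ⟨(step r (by simpa using hr) t b hb).1, hnorm i (by omega) r (by simpa using hr) t⟩
    | one => exact ⟨by rw [commutatorElement_one_left]; exact one_mem _, fun g hg => by simpa⟩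
    | mul a a' _ _ iha iha' =>
      refine ⟨?_, fun g hg => ?_⟩
      · rw [show ⁅a * a', b⁆ = (a * ⁅a', b⁆ * a⁻¹) * ⁅a, b⁆ by
          simp only [commutatorElement_def]; group]
        exact mul_mem (iha.2 _ iha'.1) iha.1
      · rw [show a * a' * g * (a * a')⁻¹ = a * (a' * g * a'⁻¹) * a⁻¹ by group]
        exact iha.2 _ (iha'.2 _ hg)
    | inv a _ iha =>
      have hinv : ∀ g ∈ C, a⁻¹ * g * a⁻¹⁻¹ ∈ C := fun g hg => conj_inv_mem hcard iha.2 hg
      refine ⟨?_, hinv⟩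
      rw [show ⁅a⁻¹, b⁆ = a⁻¹ * ⁅a, b⁆⁻¹ * a⁻¹⁻¹ by simp only [commutatorElement_def]; group]
      exact hinv _ (inv_mem iha.1)
  exact (main a ha).1

/-- Splitting off the first orbit, uniquely. -/
theorem split [Finite K] {i : Fin N} {v : ↥(D.group K)}
    (hv : v ∈ XS Q.sys.x (↑(SS O i.val) : Set ℕ)) :
    ∃ a ∈ XS Q.sys.x (↑(O i).toFinset : Set ℕ),
      ∃ b ∈ XS Q.sys.x (↑(SS O (i.val + 1)) : Set ℕ), v = a * b :=
  Q.sys.toUnip.exists_split (h.closed_SS i.val) _ _ (fun r hr => by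
    obtain ⟨l, hl, hrl⟩ := mem_SS.1 hr
    rcases eq_or_lt_of_le hl with e | e
    · exact Or.inl (by simpa [Fin.ext e] using hrl)
    · exact Or.inr (Finset.mem_coe.2 (mem_SS.2 ⟨l, e, hrl⟩))) hv

theorem closed_O (i : Fin N) : Q.sys.toUnip.Closed (O i).toFinset := by
  refine h.closed_of (fun r hr => h.mem_posSet (List.mem_toFinset.1 hr)) fun r hr s hs hne k hk => ?_
  exfalso
  have hr' := List.mem_toFinset.1 hr
  have hs' := List.mem_toFinset.1 hs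
  have hP : ∀ {r : ℕ}, r ∈ O i → r ∈ Q.sys.toUnip.P := fun hr => by
    rw [Q.sys.P_eq]; exact h.mem_posSet hr
  have hk' := (Q.sys.toUnip.T_pos (hP hr') (hP hs') hk).1
  rw [Q.sys.P_eq, RootSys.mem_posSet] at hk'
  obtain ⟨-, a, b, ha, hb, e⟩ := (show Combo Q.K r s k from hk)
  obtain ⟨m, hm, hne'⟩ := h.no_sum i r hr' s hs' hne k hk'.1 hk'.2 a b ha hb
  exact hne' (e m hm)

end Orbits

end Cfsg.Agent.H74.RootExt.Tw
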